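import Groth.Prelude.Def_EtRam
import Mathlib

/-! Weakly unramified / separable local extensions descend along valuation subrings. -/

set_option autoImplicit false
set_option linter.style.haveILetI false
universe u

namespace Groth.Agent.EtRam7

open IsLocalRing

variable {K₁ M M' : Type u} [Field K₁] [Field M] [Field M'] (f : K₁ →+* M) (g : M →+* M')
  (W : ValuationSubring M')

theorem isWeaklyUnramified_comap
    (h : @EtRam.IsWeaklyUnramified (W.comap (g.comp f)) W _ _ _ _ (EtRam.inclOfComap W (g.comp f)).toAlgebra) :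
    @EtRam.IsWeaklyUnramified ((W.comap g).comap f) (W.comap g) _ _ _ _
      (EtRam.inclOfComap (W.comap g) f).toAlgebra := by
  letI : Algebra ((W.comap g).comap f) (W.comap g) := (EtRam.inclOfComap (W.comap g) f).toAlgebra
  letI : Algebra (W.comap (g.comp f)) W := (EtRam.inclOfComap W (g.comp f)).toAlgebra
  unfold EtRam.IsWeaklyUnramified at h ⊢
  refine le_antisymm (Ideal.map_le_iff_le_comap.2 fun x hx =>
    map_nonunit (EtRam.inclOfComap (W.comap g) f) x hx) fun x hx => ?_
  have hxW : EtRam.inclOfComap W g x ∈ maximalIdeal W := map_nonunit (EtRam.inclOfComap W g) x hx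
  rw [← h] at hxW
  obtain ⟨a, ha, w, hw⟩ : ∃ a ∈ maximalIdeal (W.comap (g.comp f)), ∃ w : W,
      EtRam.inclOfComap W g x = algebraMap (W.comap (g.comp f)) W a * w := by
    refine Submodule.span_induction ?_ ?_ ?_ ?_ hxW
    · rintro _ ⟨a, ha, rfl⟩
      exact ⟨a, ha, 1, (mul_one _).symm⟩
    · exact ⟨0, zero_mem _, 0, by simp⟩
    · rintro _ _ _ _ ⟨a, ha, v, rfl⟩ ⟨b, hb, w, rfl⟩
      rcases ValuationRing.dvd_total a b with ⟨c, rfl⟩ | ⟨c, rfl⟩
      · exact ⟨a, ha, v + algebraMap _ W c * w, by rw [map_mul]; ring⟩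
      · exact ⟨b, hb, algebraMap _ W c * v + w, by rw [map_mul]; ring⟩
    · rintro r _ _ ⟨a, ha, v, rfl⟩
      exact ⟨a, ha, r * v, by rw [smul_eq_mul]; ring⟩
  have hw' : g (x : M) = g (f (a : K₁)) * (w : M') := congrArg Subtype.val hw
  have hnu : (⟨(a : K₁), a.2⟩ : (W.comap g).comap f) ∈ maximalIdeal ((W.comap g).comap f) :=
    fun hu => by
      obtain ⟨b, hb⟩ := hu.exists_right_inv
      exact ha (isUnit_iff_exists_inv.2 ⟨⟨b.1, b.2⟩, Subtype.ext (congrArg Subtype.val hb :)⟩)
  by_cases h0 : f (a : K₁) = 0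
  · rw [h0, map_zero, zero_mul, map_eq_zero] at hw'
    rw [show x = 0 from Subtype.ext hw']
    exact zero_mem _
  have hmem : (x : M) / f (a : K₁) ∈ W.comap g := by
    show g _ ∈ W
    rw [map_div₀, hw', mul_div_cancel_left₀ _ ((map_ne_zero g).2 h0)]
    exact w.2
  have : x = algebraMap ((W.comap g).comap f) (W.comap g) ⟨(a : K₁), a.2⟩ * ⟨_, hmem⟩ :=
    Subtype.ext (mul_div_cancel₀ _ h0).symm
  rw [this]
  exact Ideal.mul_mem_right _ _ (Ideal.mem_map_of_mem _ hnu)

theorem isGeometricallyReduced_comap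
    (h : @Algebra.IsGeometricallyReduced (ResidueField (W.comap (g.comp f))) (ResidueField W) _ _
      (ResidueField.map (EtRam.inclOfComap W (g.comp f))).toAlgebra) :
    @Algebra.IsGeometricallyReduced (ResidueField ((W.comap g).comap f)) (ResidueField (W.comap g)) _ _
      (ResidueField.map (EtRam.inclOfComap (W.comap g) f)).toAlgebra := by
  letI : Algebra (ResidueField ((W.comap g).comap f)) (ResidueField (W.comap g)) :=
    (ResidueField.map (EtRam.inclOfComap (W.comap g) f)).toAlgebra
  letI : Algebra (ResidueField ((W.comap g).comap f)) (ResidueField W) :=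
    (ResidueField.map (EtRam.inclOfComap W (g.comp f))).toAlgebra
  haveI : Algebra.IsGeometricallyReduced (ResidueField ((W.comap g).comap f)) (ResidueField W) := h
  let φ : ResidueField (W.comap g) →ₐ[ResidueField ((W.comap g).comap f)] ResidueField W :=
    { ResidueField.map (EtRam.inclOfComap W g) with
      commutes' := fun x => by
        obtain ⟨y, rfl⟩ := residue_surjective x
        rfl }
  exact Algebra.IsGeometricallyReduced.of_injective φ φ.injective

end Groth.Agent.EtRam7
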