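import Groth.Agent.EtRam7.WeakSol
import Groth.Agent.DVR7.Basic
import Mathlib

/-! Weakly unramified separable extensions of DVRs: every finite extension is a solution. -/

set_option autoImplicit false
set_option linter.style.haveILetI false
universe u

namespace Groth.Agent.EtRam7

open IsLocalRing TensorProduct

/-- A valuation ring on a finite extension dominating a DVR is a DVR. -/
theorem isDiscreteValuationRing_of_dominates_finite {A K F : Type u} [CommRing A] [IsDomain A]
    [IsDiscreteValuationRing A] [Field K] [Algebra A K] [IsFractionRing A K] [Field F] [Algebra K F]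
    [FiniteDimensional K F] (V : ValuationSubring F)
    (h : EtRam.Dominates A ((algebraMap K F).comp (algebraMap A K)) V) : IsDiscreteValuationRing V := by
  letI : Algebra A F := ((algebraMap K F).comp (algebraMap A K)).toAlgebra
  haveI : IsScalarTower A K F := IsScalarTower.of_algebraMap_eq fun _ => rfl
  letI : Algebra A V := (((algebraMap K F).comp (algebraMap A K)).codRestrict V h.1).toAlgebra
  haveI : IsScalarTower A V F := IsScalarTower.of_algebraMap_eq fun _ => rfl
  haveI : IsNoetherianRing V := KrullAkiExt.isNoetherianRing_of_injective (R := A) (K := K) F V Subtype.val_injective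
  haveI : IsPrincipalIdealRing V := IsPrincipalIdealRing.of_isNoetherianRing_of_isBezout
  refine { not_a_field' := fun hbot => ?_ }
  obtain ⟨π, hπ⟩ := IsDiscreteValuationRing.exists_irreducible A
  have h1 : (algebraMap A V π) ∈ maximalIdeal V := fun hu => by
    have := isLocalHom_of_dominates ((algebraMap K F).comp (algebraMap A K)) V h
    exact hπ.1 (IsLocalHom.map_nonunit (f := ((algebraMap K F).comp (algebraMap A K)).codRestrict V h.1) π hu)
  rw [hbot, Ideal.mem_bot] at h1
  exact hπ.ne_zero (IsFractionRing.injective A K ((algebraMap K F).injective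
    ((congrArg Subtype.val h1).trans (by rw [map_zero, map_zero]; rfl))))

/-- The residue field of a valuation ring on a finite extension of the fraction field of a DVR is finite. -/
theorem finite_residueField_of_dominates {A K F : Type u} [CommRing A] [IsDomain A]
    [IsDiscreteValuationRing A] [Field K] [Algebra A K] [IsFractionRing A K] [Field F] [Algebra K F]
    [Algebra A F] [IsScalarTower A K F] [FiniteDimensional K F] (V : ValuationSubring F) [IsDiscreteValuationRing V]
    [Algebra A V] [IsScalarTower A V F] [IsLocalHom (algebraMap A V)] :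
    Module.Finite (ResidueField A) (ResidueField V) := by
  obtain ⟨ϖ, hϖ⟩ := IsDiscreteValuationRing.exists_irreducible V
  have hAF : Function.Injective (algebraMap A F) := by
    rw [IsScalarTower.algebraMap_eq A K F]
    exact (algebraMap K F).injective.comp (IsFractionRing.injective A K)
  have hinj : Function.Injective (algebraMap A V) := fun a b h => hAF (by
    rw [IsScalarTower.algebraMap_apply A V F, IsScalarTower.algebraMap_apply A V F, h])
  refine Module.finite_of_rank_eq_nat (n := (Module.rank (ResidueField A) (ResidueField V)).toNat)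
    (Cardinal.cast_toNat_of_lt_aleph0 (lt_of_le_of_lt (rank_le (n := Module.finrank K F) fun s hs => ?_)
      Cardinal.natCast_lt_aleph0)).symm
  choose b hb using fun i : s => residue_surjective (R := V) (i : ResidueField V)
  obtain ⟨π, hπ⟩ := IsDiscreteValuationRing.exists_irreducible A
  obtain ⟨u, -, he⟩ := DVR7.exists_eq_unit_mul_pow hinj hπ hϖ
  have hli := (DVR7.linearIndependent_pow_mul hinj hϖ b (by simpa [hb] using hs)).comp
    (fun i : s => (⟨0, he⟩, i)) fun i j h => (Prod.ext_iff.1 h).2
  have hli2 := (LinearIndependent.iff_fractionRing (R := A) (K := K)).1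
    (hli.map' (IsScalarTower.toAlgHom A V F).toLinearMap (LinearMap.ker_eq_bot.2 Subtype.val_injective))
  simpa using hli2.fintype_card_le_finrank

set_option maxHeartbeats 1000000 in
/-- Every finite extension is a solution for a weakly unramified separable extension. -/
theorem isSolution_of_weaklyUnramified_separable (A B K L : Type u) [CommRing A] [IsDomain A]
    [IsDiscreteValuationRing A] [CommRing B] [IsDomain B] [IsDiscreteValuationRing B] [Algebra A B]
    [IsLocalHom (algebraMap A B)]
    [Field K] [Field L] [Algebra A K] [IsFractionRing A K] [Algebra B L] [IsFractionRing B L]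
    [Algebra K L] [Algebra A L] [IsScalarTower A K L] [IsScalarTower A B L]
    (hw : EtRam.IsWeaklyUnramified A B) [Algebra.IsGeometricallyReduced (ResidueField A) (ResidueField B)]
    (K₁ : Type u) [Field K₁] [Algebra K K₁] [FiniteDimensional K K₁] : EtRam.IsSolution B K L K₁ := by
  intro M _ _ _ _ _ _ hgenM W hW
  let f : K₁ →+* M := algebraMap K₁ M
  let V := W.comap f
  letI : Algebra A K₁ := ((algebraMap K K₁).comp (algebraMap A K)).toAlgebra
  haveI : IsScalarTower A K K₁ := IsScalarTower.of_algebraMap_eq fun _ => rfl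
  letI : Algebra B W := (((algebraMap L M).comp (algebraMap B L)).codRestrict W hW.1).toAlgebra
  haveI hlocB : IsLocalHom (algebraMap B W) := isLocalHom_of_dominates _ W hW
  letI : Algebra A W := ((algebraMap B W).comp (algebraMap A B)).toAlgebra
  haveI : IsScalarTower A B W := IsScalarTower.of_algebraMap_eq' rfl
  haveI : IsLocalHom ((algebraMap B W).comp (algebraMap A B)) := RingHom.isLocalHom_comp _ _
  haveI : IsLocalHom (algebraMap A W) := ‹IsLocalHom ((algebraMap B W).comp (algebraMap A B))›
  have hAM : ∀ a, ((algebraMap A W a : W) : M) = f (algebraMap A K₁ a) := fun a => by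
    show algebraMap L M (algebraMap B L (algebraMap A B a)) = algebraMap K₁ M (algebraMap K K₁ (algebraMap A K a))
    rw [← IsScalarTower.algebraMap_apply A B L, IsScalarTower.algebraMap_apply A K L,
      ← IsScalarTower.algebraMap_apply K L M, ← IsScalarTower.algebraMap_apply K K₁ M]
  haveI : Module.Finite L M := by
    let g : L ⊗[K] K₁ →ₐ[L] M := Algebra.TensorProduct.lift (Algebra.ofId L M)
      (IsScalarTower.toAlgHom K K₁ M) fun _ _ => Commute.all _ _
    refine Module.Finite.of_surjective g.toLinearMap ((g.range_eq_top).1 (top_le_iff.1 ?_))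
    rw [← hgenM]
    refine Algebra.adjoin_le ?_
    rintro _ ⟨x, rfl⟩
    exact ⟨1 ⊗ₜ x, by simp [g]⟩
  haveI := isDiscreteValuationRing_of_dominates_finite (A := B) (K := L) W hW
  have hVdom : EtRam.Dominates A ((algebraMap K K₁).comp (algebraMap A K)) V := by
    refine dominates_comap _ f W ⟨fun a => (show f (algebraMap A K₁ a) ∈ W from hAM a ▸ (algebraMap A W a).2),
      fun a ha => ?_⟩
    show W.valuation (f (algebraMap A K₁ a)) < 1
    rw [← hAM, ← ValuationSubring.valuation_lt_one_iff]
    exact map_nonunit (algebraMap A W) a ha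
  haveI : IsDiscreteValuationRing V := isDiscreteValuationRing_of_dominates_finite V hVdom
  letI : Algebra A V := (((algebraMap K K₁).comp (algebraMap A K)).codRestrict V hVdom.1).toAlgebra
  haveI : IsScalarTower A V K₁ := IsScalarTower.of_algebraMap_eq fun _ => rfl
  haveI : IsLocalHom (algebraMap A V) := isLocalHom_of_dominates _ V hVdom
  haveI := finite_residueField_of_dominates (A := A) (K := K) V
  letI : Algebra V W := (EtRam.inclOfComap W f).toAlgebra
  haveI : IsScalarTower A V W := IsScalarTower.of_algebraMap_eq fun a => Subtype.ext (hAM a)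
  haveI : IsLocalHom (algebraMap V W) := inferInstanceAs (IsLocalHom (EtRam.inclOfComap W f))
  let kV := ResidueField V
  let kB := ResidueField B
  let φ : V ⊗[A] B →ₐ[A] W := Algebra.TensorProduct.lift (IsScalarTower.toAlgHom A V W)
    (IsScalarTower.toAlgHom A B W) fun _ _ => Commute.all _ _
  let ψ : V ⊗[A] B →ₐ[A] kV ⊗[A] kB := Algebra.TensorProduct.map
    (IsScalarTower.toAlgHom A V kV) (IsScalarTower.toAlgHom A B kB)
  let θ : kV ⊗[A] kB →ₐ[A] ResidueField W := Algebra.TensorProduct.lift
    (IsScalarTower.toAlgHom A kV (ResidueField W)) (IsScalarTower.toAlgHom A kB (ResidueField W))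
    fun _ _ => Commute.all _ _
  obtain ⟨ϖ, hϖ⟩ := IsDiscreteValuationRing.exists_irreducible V
  obtain ⟨π, hπ⟩ := IsDiscreteValuationRing.exists_irreducible A
  let t : V ⊗[A] B := ϖ ⊗ₜ[A] (1 : B)
  have hψ : Function.Surjective ψ := fun y => by
    induction y using TensorProduct.induction_on with
    | zero => exact ⟨0, map_zero _⟩
    | tmul a b =>
      obtain ⟨a, rfl⟩ := residue_surjective a
      obtain ⟨b, rfl⟩ := residue_surjective b
      exact ⟨a ⊗ₜ b, rfl⟩
    | add a b ha hb =>
      obtain ⟨a, rfl⟩ := ha
      obtain ⟨b, rfl⟩ := hb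
      exact ⟨a + b, map_add _ _ _⟩
  have hker : ∀ x, ψ x = 0 → ∃ x', x = t * x' := by
    intro x hx
    have hx' : x ∈ RingHom.ker ψ := hx
    rw [Algebra.TensorProduct.map_ker _ _ residue_surjective residue_surjective] at hx'
    refine Ideal.mem_span_singleton.1 ((sup_le ?_ ?_ : _ ≤ Ideal.span {t}) hx')
    · rw [show RingHom.ker (IsScalarTower.toAlgHom A V kV) = Ideal.span {ϖ} by
        rw [← hϖ.maximalIdeal_eq]; exact IsLocalRing.ker_residue, Ideal.map_span, Set.image_singleton]
      rfl
    · have hmB : RingHom.ker (IsScalarTower.toAlgHom A B kB) = Ideal.span {algebraMap A B π} := by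
        rw [show RingHom.ker (IsScalarTower.toAlgHom A B kB) = maximalIdeal B from IsLocalRing.ker_residue,
          ← hw, hπ.maximalIdeal_eq, Ideal.map_span, Set.image_singleton]
      rw [hmB, Ideal.map_span, Set.image_singleton, Ideal.span_singleton_le_span_singleton]
      show t ∣ (1 : V) ⊗ₜ[A] algebraMap A B π
      obtain ⟨c, hc⟩ : ϖ ∣ algebraMap A V π := by
        rw [← Ideal.mem_span_singleton, ← hϖ.maximalIdeal_eq]
        exact map_nonunit (algebraMap A V) π hπ.1
      refine ⟨c ⊗ₜ[A] 1, ?_⟩
      rw [Algebra.TensorProduct.tmul_mul_tmul, one_mul, ← hc, Algebra.algebraMap_eq_smul_one (A := B),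
        Algebra.algebraMap_eq_smul_one (A := V), TensorProduct.smul_tmul]

  haveI hgr : Algebra.IsGeometricallyReduced kV (kV ⊗[A] kB) := by
    rw [Algebra.isGeometricallyReduced_field_iff]
    let Ω := AlgebraicClosure kV
    haveI : IsReduced (Ω ⊗[ResidueField A] kB) := FBaseLib.isReduced_field_tensor kB Ω
    haveI : CompatibleSMul A (ResidueField A) Ω kB := ⟨fun r a b => by
      obtain ⟨r, rfl⟩ := residue_surjective r
      rw [show residue A r = algebraMap A (ResidueField A) r from rfl, algebraMap_smul, algebraMap_smul,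
        TensorProduct.smul_tmul]⟩
    haveI : IsReduced (Ω ⊗[A] kB) :=
      isReduced_of_injective
        (Algebra.TensorProduct.equivOfCompatibleSMul (R := A) (S := ResidueField A) (T := A) (A := Ω) (B := kB)).symm
        (AlgEquiv.injective _)
    exact isReduced_of_injective (Algebra.TensorProduct.cancelBaseChange A kV Ω Ω kB) (AlgEquiv.injective _)
  have hflat : ∀ d : kV ⊗[A] kB, ∃ y, d ^ 2 * y = d := by
    intro d
    haveI : Algebra.IsIntegral (ResidueField A) kV := Algebra.IsIntegral.of_finite _ _
    haveI : IsReduced (kB ⊗[ResidueField A] kV) := by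
      haveI : IsReduced (kV ⊗[ResidueField A] kB) := FBaseLib.isReduced_field_tensor kB kV
      exact isReduced_of_injective (Algebra.TensorProduct.comm _ kB kV) (AlgEquiv.injective _)
    haveI : CompatibleSMul A (ResidueField A) kV kB := ⟨fun r a b => by
      obtain ⟨r, rfl⟩ := residue_surjective r
      rw [show residue A r = algebraMap A (ResidueField A) r from rfl, algebraMap_smul, algebraMap_smul,
        TensorProduct.smul_tmul]⟩
    let e := ((Algebra.TensorProduct.comm (ResidueField A) kB kV).toRingEquiv).trans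
      (Algebra.TensorProduct.equivOfCompatibleSMul (R := A) (S := ResidueField A) (T := A) (A := kV) (B := kB)).toRingEquiv
    obtain ⟨y, hy⟩ := HenzFib7.exists_sq_mul_eq kB (kB ⊗[ResidueField A] kV) (e.symm d)
    exact ⟨e y, e.symm.injective (by rw [map_mul, map_pow, e.symm_apply_apply, hy])⟩
  have hθ : ∀ x, θ (ψ x) = residue W (φ x) := fun x => by
    induction x using TensorProduct.induction_on with
    | zero => simp
    | add a b ha hb => rw [map_add, map_add, ha, hb, map_add, map_add]
    | tmul a b => simp [θ, ψ, φ]; rfl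
  have hφ1 : ∀ v : V, ((φ (v ⊗ₜ[A] (1 : B)) : W) : M) = f (v : K₁) := fun v => by simp [φ]; rfl
  have hgen : ∀ z : W, ∃ x d : V ⊗[A] B, φ d ≠ 0 ∧ z * φ d = φ x := by
    let S : Subalgebra L M :=
      { carrier := {m | ∃ x d : V ⊗[A] B, φ d ≠ 0 ∧ m * (φ d : M) = (φ x : M)}
        mul_mem' := by
          rintro a b ⟨x, d, hd, hx⟩ ⟨y, e, he, hy⟩
          exact ⟨x * y, d * e, by rw [map_mul]; exact mul_ne_zero hd he, by
            rw [map_mul, map_mul]; push_cast; linear_combination (b * (φ e : M)) * hx + (φ x : M) * hy⟩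
        add_mem' := by
          rintro a b ⟨x, d, hd, hx⟩ ⟨y, e, he, hy⟩
          exact ⟨x * e + y * d, d * e, by rw [map_mul]; exact mul_ne_zero hd he, by
            rw [map_mul, map_add, map_mul, map_mul]; push_cast; linear_combination (φ e : M) * hx + (φ d : M) * hy⟩
        algebraMap_mem' := fun l => by
          obtain ⟨x, d, hd, rfl⟩ := IsFractionRing.div_surjective (A := B) l
          have hd0 : algebraMap B L d ≠ 0 := IsFractionRing.to_map_ne_zero_of_mem_nonZeroDivisors hd
          have hφ2 : ∀ b : B, ((φ ((1 : V) ⊗ₜ[A] b) : W) : M) = algebraMap L M (algebraMap B L b) := fun b => by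
            simp [φ]; rfl
          refine ⟨1 ⊗ₜ x, 1 ⊗ₜ d, fun h => ?_, ?_⟩
          · have h1 := congrArg Subtype.val h
            rw [hφ2] at h1
            exact hd0 ((algebraMap L M).injective (h1.trans (map_zero _).symm))
          · rw [hφ2, hφ2, ← map_mul, div_mul_cancel₀ _ hd0] }
    have hS : S = ⊤ := top_le_iff.1 (hgenM.ge.trans (Algebra.adjoin_le (by
      rintro _ ⟨x, rfl⟩
      rcases V.mem_or_inv_mem x with hx | hx
      · exact ⟨(⟨x, hx⟩ : V) ⊗ₜ 1, 1, by rw [map_one]; exact one_ne_zero, by rw [map_one, hφ1]; simp [f]⟩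
      · rcases eq_or_ne x 0 with rfl | hx0
        · exact ⟨0, 1, by rw [map_one]; exact one_ne_zero, by simp⟩
        · refine ⟨1, (⟨x⁻¹, hx⟩ : V) ⊗ₜ 1, fun h => ?_, ?_⟩
          · have h1 := congrArg Subtype.val h
            rw [hφ1] at h1
            exact inv_ne_zero hx0 (f.injective (h1.trans (map_zero f).symm))
          · rw [hφ1, map_one, ← map_mul]; simp [hx0, f])))
    intro z
    obtain ⟨x, d, hd, hx⟩ : (z : M) ∈ S := hS ▸ trivial
    exact ⟨x, d, hd, Subtype.ext hx⟩
  have ht : φ t ∈ maximalIdeal W := by
    show φ (ϖ ⊗ₜ[A] (1 : B)) ∈ _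
    rw [show φ (ϖ ⊗ₜ[A] (1 : B)) = algebraMap V W ϖ by simp [φ]]
    exact map_nonunit (algebraMap V W) ϖ hϖ.1
  obtain ⟨hmax, hsurj⟩ := maximalIdeal_eq_span_of_absolutelyFlat (C := V ⊗[A] B) (T := kV ⊗[A] kB) W
    φ.toRingHom t ψ.toRingHom hψ (fun x hx => by obtain ⟨x', rfl⟩ := hker x hx; exact ⟨x', map_mul φ t x'⟩) hflat ht θ.toRingHom hθ hgen
  refine ⟨?_, ?_⟩
  · unfold EtRam.IsWeaklyUnramified
    rw [hϖ.maximalIdeal_eq, Ideal.map_span, Set.image_singleton, hmax]
    congr 2
    show algebraMap V W ϖ = φ t
    simp [φ, t]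
  · let θ' : kV ⊗[A] kB →ₐ[kV] ResidueField W :=
      { θ.toRingHom with
        commutes' := fun c => by
          show θ (c ⊗ₜ[A] (1 : kB)) = algebraMap kV (ResidueField W) c
          simp [θ] }
    have halg : (inferInstance : Algebra kV (ResidueField W)) = (ResidueField.map (EtRam.inclOfComap W f)).toAlgebra :=
      Algebra.algebra_ext _ _ fun c => by
        obtain ⟨c, rfl⟩ := residue_surjective c
        rfl
    exact halg ▸ isGeometricallyReduced_of_surjective (F := kV) (T := kV ⊗[A] kB) (E := ResidueField W) hflat θ' hsurj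

end Groth.Agent.EtRam7
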