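import Groth.Agent.EtRam7.Dominate
import Groth.Agent.EtRam7.Down
import Groth.Agent.EtRam7.WeakSolMain
import Groth.Agent.FBaseLib.Reduced
import Groth.Agent.GrpSchLib.Reduced
import Mathlib

/-! Solutions after a weakly unramified extension with separable algebraic residue field descend. -/

set_option autoImplicit false
set_option linter.style.haveILetI false
universe u

namespace Groth.Agent.EtRam7

open IsLocalRing TensorProduct

/-- Separable algebraic extensions are geometrically reduced. -/
theorem isGeometricallyReduced_of_isSeparable (k F : Type u) [Field k] [Field F] [Algebra k F]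
    [Algebra.IsSeparable k F] : Algebra.IsGeometricallyReduced k F := by
  rw [Algebra.isGeometricallyReduced_field_iff]
  exact GrpSchLib.isReduced_tensor_of_isSeparable k F (AlgebraicClosure k)

/-- Geometric reducedness is transitive. -/
theorem isGeometricallyReduced_trans (k F E : Type u) [Field k] [Field F] [Field E] [Algebra k F] [Algebra F E]
    [Algebra k E] [IsScalarTower k F E] [Algebra.IsGeometricallyReduced k F]
    [Algebra.IsGeometricallyReduced F E] : Algebra.IsGeometricallyReduced k E := by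
  rw [Algebra.isGeometricallyReduced_field_iff]
  let Ω := AlgebraicClosure k
  haveI : IsReduced (Ω ⊗[k] F) := FBaseLib.isReduced_field_tensor F Ω
  haveI : IsReduced (F ⊗[k] Ω) :=
    isReduced_of_injective (Algebra.TensorProduct.comm k F Ω) (AlgEquiv.injective _)
  haveI : IsReduced ((F ⊗[k] Ω) ⊗[F] E) :=
    FBaseLib.isReduced_tensor_of_fields E (F ⊗[k] Ω) fun L _ _ => FBaseLib.isReduced_field_tensor E L
  haveI : IsReduced (E ⊗[F] (F ⊗[k] Ω)) :=
    isReduced_of_injective (Algebra.TensorProduct.comm F E (F ⊗[k] Ω)) (AlgEquiv.injective _)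
  haveI : IsReduced (E ⊗[k] Ω) :=
    isReduced_of_injective (Algebra.TensorProduct.cancelBaseChange k F E E Ω).symm (AlgEquiv.injective _)
  exact isReduced_of_injective (Algebra.TensorProduct.comm k Ω E) (AlgEquiv.injective _)

/-- The property required of each local extension by a solution. -/
abbrev Good {K₁ M : Type u} [Field K₁] [Field M] (W : ValuationSubring M) (f : K₁ →+* M) : Prop :=
  letI : Algebra (W.comap f) W := (EtRam.inclOfComap W f).toAlgebra
  EtRam.IsWeaklyUnramified (W.comap f) W ∧
    @Algebra.IsGeometricallyReduced (ResidueField (W.comap f)) (ResidueField W) _ _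
      (ResidueField.map (EtRam.inclOfComap W f)).toAlgebra

theorem Good.comap {K₁ M M' : Type u} [Field K₁] [Field M] [Field M'] {f : K₁ →+* M} {g : M →+* M'}
    {W : ValuationSubring M'} (h : Good W (g.comp f)) : Good (W.comap g) f :=
  ⟨isWeaklyUnramified_comap f g W h.1, isGeometricallyReduced_comap f g W h.2⟩

theorem Good.trans {K₁ M M' : Type u} [Field K₁] [Field M] [Field M'] {f : K₁ →+* M} {g : M →+* M'}
    {W : ValuationSubring M'} (h₁ : Good (W.comap g) f) (h₂ : Good W g) : Good W (g.comp f) := by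
  letI : Algebra ((W.comap g).comap f) (W.comap g) := (EtRam.inclOfComap (W.comap g) f).toAlgebra
  letI : Algebra (W.comap g) W := (EtRam.inclOfComap W g).toAlgebra
  letI : Algebra ((W.comap g).comap f) W := (EtRam.inclOfComap W (g.comp f)).toAlgebra
  haveI : IsScalarTower ((W.comap g).comap f) (W.comap g) W := IsScalarTower.of_algebraMap_eq fun _ => rfl
  letI : Algebra (ResidueField ((W.comap g).comap f)) (ResidueField (W.comap g)) :=
    (ResidueField.map (EtRam.inclOfComap (W.comap g) f)).toAlgebra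
  letI : Algebra (ResidueField (W.comap g)) (ResidueField W) :=
    (ResidueField.map (EtRam.inclOfComap W g)).toAlgebra
  letI : Algebra (ResidueField ((W.comap g).comap f)) (ResidueField W) :=
    (ResidueField.map (EtRam.inclOfComap W (g.comp f))).toAlgebra
  haveI : IsScalarTower (ResidueField ((W.comap g).comap f)) (ResidueField (W.comap g)) (ResidueField W) :=
    IsScalarTower.of_algebraMap_eq fun x => by
      obtain ⟨x, rfl⟩ := residue_surjective x
      rfl
  haveI : Algebra.IsGeometricallyReduced (ResidueField ((W.comap g).comap f)) (ResidueField (W.comap g)) := h₁.2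
  haveI : Algebra.IsGeometricallyReduced (ResidueField (W.comap g)) (ResidueField W) := h₂.2
  exact ⟨isWeaklyUnramified_trans (A := (W.comap g).comap f) (V := W.comap g) h₁.1 h₂.1,
    isGeometricallyReduced_trans (ResidueField ((W.comap g).comap f)) (ResidueField (W.comap g)) (ResidueField W)⟩

/-- A field generated by algebraic elements is generated by them as an algebra. -/
theorem adjoin_eq_top_of_intermediate {F E : Type u} [Field F] [Field E] [Algebra F E]
    (N : IntermediateField F E) {S : Set E} (hN : N = IntermediateField.adjoin F S)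
    (halg : ∀ x ∈ S, IsAlgebraic F x) (T : Subalgebra F N) (hS : ∀ x (hx : x ∈ N), x ∈ S → (⟨x, hx⟩ : N) ∈ T) :
    T = ⊤ := by
  refine top_le_iff.1 fun z _ => ?_
  have h1 : (z : E) ∈ Algebra.adjoin F S := by
    rw [← IntermediateField.adjoin_toSubalgebra_of_isAlgebraic halg, ← hN]
    exact z.2
  have h2 : Algebra.adjoin F S ≤ T.map N.val :=
    Algebra.adjoin_le fun x hx => ⟨⟨x, hN ▸ IntermediateField.subset_adjoin F S hx⟩, hS x _ hx, rfl⟩
  obtain ⟨w, hw, hwz⟩ := h2 h1
  exact (Subtype.ext hwz : w = z) ▸ hw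

set_option maxHeartbeats 1000000 in
/-- A solution for the extension `A' → B'` yields one for `A → B`. -/
theorem exists_solution_of_extension {A B A' B' K L K' L' : Type u} [CommRing A] [IsDomain A]
    [IsDiscreteValuationRing A] [CommRing B] [IsDomain B] [IsDiscreteValuationRing B]
    [CommRing A'] [IsDomain A'] [IsDiscreteValuationRing A'] [CommRing B'] [IsDomain B'] [IsDiscreteValuationRing B']
    [Algebra A A'] [IsLocalHom (algebraMap A A')] [Algebra B B'] [IsLocalHom (algebraMap B B')]
    (hBB' : Function.Injective (algebraMap B B'))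
    [Algebra A' B'] [IsLocalHom (algebraMap A' B')]
    [Field K] [Field L] [Field K'] [Field L'] [Algebra A K] [IsFractionRing A K] [Algebra B L] [IsFractionRing B L]
    [Algebra A' K'] [IsFractionRing A' K'] [Algebra B' L'] [IsFractionRing B' L']
    [Algebra K L] [Algebra K' L'] [Algebra K K'] [Algebra L L'] [Algebra A K'] [IsScalarTower A K K']
    [IsScalarTower A A' K']
    (hsq : ∀ b, algebraMap B' L' (algebraMap B B' b) = algebraMap L L' (algebraMap B L b))
    (hsqA : ∀ a, algebraMap B' L' (algebraMap A' B' a) = algebraMap K' L' (algebraMap A' K' a))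
    (hcomm : ∀ x : K, algebraMap K' L' (algebraMap K K' x) = algebraMap L L' (algebraMap K L x))
    (hw : EtRam.IsWeaklyUnramified A A') [Algebra.IsGeometricallyReduced (ResidueField A) (ResidueField A')]
    [Algebra.IsAlgebraic K K']
    (K₁' : Type u) [Field K₁'] [Algebra K' K₁'] [FiniteDimensional K' K₁'] (hsol : EtRam.IsSolution B' K' L' K₁') :
    ∃ (K₁ : Type u) (_ : Field K₁) (_ : Algebra K K₁), FiniteDimensional K K₁ ∧
      (Algebra.IsSeparable K K' → Algebra.IsSeparable K' K₁' → Algebra.IsSeparable K K₁) ∧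
      EtRam.IsSolution B K L K₁ := by
  classical
  let Ω₁ := AlgebraicClosure K₁'
  letI : Algebra K K₁' := ((algebraMap K' K₁').comp (algebraMap K K')).toAlgebra
  haveI : IsScalarTower K K' K₁' := IsScalarTower.of_algebraMap_eq fun _ => rfl
  haveI : IsScalarTower K K' Ω₁ := IsScalarTower.of_algebraMap_eq fun x => by
    rw [IsScalarTower.algebraMap_apply K K₁' Ω₁, IsScalarTower.algebraMap_apply K K' K₁',
      ← IsScalarTower.algebraMap_apply K' K₁' Ω₁]
  haveI : Algebra.IsAlgebraic K K₁' := Algebra.IsAlgebraic.trans K K' K₁'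
  haveI : Algebra.IsAlgebraic K Ω₁ := Algebra.IsAlgebraic.trans K K₁' Ω₁
  let b := Module.finBasis K' K₁'
  let S : Set Ω₁ := Set.range fun i => algebraMap K₁' Ω₁ (b i)
  let K₀ := IntermediateField.adjoin K S
  haveI : FiniteDimensional K K₀ :=
    IntermediateField.finiteDimensional_adjoin fun x _ => Algebra.IsIntegral.isIntegral x
  let K₁ := IntermediateField.normalClosure K K₀ Ω₁
  haveI : FiniteDimensional K K₁ := normalClosure.is_finiteDimensional K K₀ Ω₁
  haveI : Normal K K₁ := normalClosure.normal K K₀ Ω₁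
  have hK₀ : K₀ ≤ K₁ := K₀.le_normalClosure
  refine ⟨K₁, inferInstance, inferInstance, inferInstance, fun hs hs' => ?_, ?_⟩
  · haveI : Algebra.IsSeparable K K₁' := Algebra.IsSeparable.trans K K' K₁'
    haveI : Algebra.IsSeparable K K₀ := (IntermediateField.isSeparable_adjoin_iff_isSeparable K Ω₁).2 (by
      rintro _ ⟨i, rfl⟩
      show (minpoly K _).Separable
      rw [minpoly.algebraMap_eq (algebraMap K₁' Ω₁).injective]
      exact Algebra.IsSeparable.isSeparable K (b i))
    have hle : K₁ ≤ separableClosure K Ω₁ := by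
      refine normalClosure_le_iff.2 fun g => ?_
      rintro _ ⟨y, rfl⟩
      rw [mem_separableClosure_iff, IsSeparable]
      show (minpoly K (g y)).Separable
      rw [minpoly.algHom_eq g g.injective]
      exact Algebra.IsSeparable.isSeparable K y
    exact Algebra.IsSeparable.of_algHom K (separableClosure K Ω₁) (IntermediateField.inclusion hle)
  intro M _ _ _ _ _ _ hgen W hW
  obtain ⟨Ω, _, _, ι, j, U, hιj, hUW, hUB⟩ := exists_joint_dominating hBB' hsq W hW
  letI : Algebra L' Ω := ι.toAlgebra
  letI : Algebra K Ω := (j.comp (algebraMap K M)).toAlgebra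
  letI : Algebra K' Ω := (ι.comp (algebraMap K' L')).toAlgebra
  haveI : IsScalarTower K' L' Ω := IsScalarTower.of_algebraMap_eq fun _ => rfl
  haveI : IsScalarTower K K' Ω := IsScalarTower.of_algebraMap_eq fun x => by
    show j (algebraMap K M x) = ι (algebraMap K' L' (algebraMap K K' x))
    rw [hcomm, IsScalarTower.algebraMap_apply K L M]
    exact (RingHom.congr_fun hιj _).symm
  haveI : Algebra.IsAlgebraic K' Ω₁ := Algebra.IsAlgebraic.trans K' K₁' Ω₁
  let φ : Ω₁ →ₐ[K'] Ω := IsAlgClosed.lift
  -- twist the embedding of `K₁`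
  letI aK₁Ω : Algebra K₁ Ω := ((φ.restrictScalars K).comp K₁.val).toRingHom.toAlgebra
  haveI : IsScalarTower K K₁ Ω := IsScalarTower.of_algebraMap_eq fun x =>
    (((φ.restrictScalars K).comp K₁.val).commutes x).symm
  let fΩ : K₁ →ₐ[K] Ω :=
    { j.comp (algebraMap K₁ M) with
      commutes' := fun x => by
        show j (algebraMap K₁ M (algebraMap K K₁ x)) = j (algebraMap K M x)
        rw [← IsScalarTower.algebraMap_apply] }
  let σ : K₁ →ₐ[K] K₁ := fΩ.restrictNormal K₁
  have hσ : ∀ x, φ (σ x : Ω₁) = j (algebraMap K₁ M x) := fun x => fΩ.restrictNormal_commutes K₁ x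
  -- the two fields on the side of `K'`
  let b₁ := Module.finBasis K K₁
  let T : Set Ω₁ := Set.range fun i => (b₁ i : Ω₁)
  let K₂ := IntermediateField.adjoin K' T
  haveI : FiniteDimensional K' K₂ :=
    IntermediateField.finiteDimensional_adjoin fun x _ => Algebra.IsIntegral.isIntegral x
  have hK₁₂ : ∀ x : K₁, (x : Ω₁) ∈ K₂ := fun x => by
    have hx : x ∈ Submodule.span K (Set.range b₁) := by rw [b₁.span_eq]; trivial
    induction hx using Submodule.span_induction with
    | mem y hy => obtain ⟨i, rfl⟩ := hy; exact IntermediateField.subset_adjoin K' T ⟨i, rfl⟩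
    | zero => exact zero_mem _
    | add y z _ _ hy hz => exact add_mem hy hz
    | smul c y _ hy =>
      rw [IntermediateField.coe_smul, Algebra.smul_def]
      refine mul_mem ?_ hy
      show algebraMap K Ω₁ c ∈ K₂
      rw [IsScalarTower.algebraMap_apply K K' Ω₁]
      exact K₂.algebraMap_mem _
  have hK₁'₂ : ∀ y : K₁', algebraMap K₁' Ω₁ y ∈ K₂ := fun y => by
    rw [← b.sum_repr y, map_sum]
    refine sum_mem fun i _ => ?_
    rw [Algebra.smul_def, map_mul, ← IsScalarTower.algebraMap_apply]
    exact mul_mem (K₂.algebraMap_mem _) (hK₁₂ ⟨_, hK₀ (IntermediateField.subset_adjoin K S ⟨i, rfl⟩)⟩)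
  let i₁ : K₁' →ₐ[K'] K₂ := (IsScalarTower.toAlgHom K' K₁' Ω₁).codRestrict K₂.toSubalgebra hK₁'₂
  letI : Algebra K₁' K₂ := i₁.toRingHom.toAlgebra
  haveI : IsScalarTower K' K₁' K₂ := IsScalarTower.of_algebraMap_eq fun c => (i₁.commutes c).symm
  haveI : FiniteDimensional K₁' K₂ := Module.Finite.of_restrictScalars_finite K' K₁' K₂
  -- the two fields on the side of `L'`
  have halg : ∀ z : Ω₁, IsAlgebraic L' (φ z) := fun z =>
    (IsIntegral.map φ (Algebra.IsIntegral.isIntegral (R := K') z)).tower_top.isAlgebraic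
  let S₁ : Set Ω := φ '' Set.range (algebraMap K₁' Ω₁)
  let S₂ : Set Ω := φ '' (K₂ : Set Ω₁)
  let N₁ := IntermediateField.adjoin L' S₁
  let N₂ := IntermediateField.adjoin L' S₂
  have hN : N₁ ≤ N₂ := IntermediateField.adjoin.mono L' _ _ (by
    rintro _ ⟨_, ⟨y, rfl⟩, rfl⟩
    exact ⟨_, hK₁'₂ y, rfl⟩)
  let i : N₁ →+* N₂ := (IntermediateField.inclusion hN).toRingHom
  let f₁ : K₁' →+* N₁ := (φ.toRingHom.comp (algebraMap K₁' Ω₁)).codRestrict N₁ fun y =>
    IntermediateField.subset_adjoin L' S₁ ⟨_, ⟨y, rfl⟩, rfl⟩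
  let f₂ : K₂ →+* N₂ := (φ.toRingHom.comp K₂.val.toRingHom).codRestrict N₂ fun y =>
    IntermediateField.subset_adjoin L' S₂ ⟨_, y.2, rfl⟩
  let W₂ : ValuationSubring N₂ := U.comap (N₂.val.toRingHom)
  let W₁ : ValuationSubring N₁ := W₂.comap i
  have hdom₁ : EtRam.Dominates B' ((algebraMap L' N₁).comp (algebraMap B' L')) W₁ := by
    have h := dominates_comap ((algebraMap L' N₁).comp (algebraMap B' L')) (N₁.val.toRingHom) U hUB
    exact h
  have hdom₂ : EtRam.Dominates B' ((algebraMap L' N₂).comp (algebraMap B' L')) W₂ :=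
    dominates_comap ((algebraMap L' N₂).comp (algebraMap B' L')) (N₂.val.toRingHom) U hUB
  -- step 1: the given solution
  have h₁ : Good W₁ f₁ := by
    letI : Algebra K' N₁ := ((algebraMap L' N₁).comp (algebraMap K' L')).toAlgebra
    haveI : IsScalarTower K' L' N₁ := IsScalarTower.of_algebraMap_eq fun _ => rfl
    letI : Algebra K₁' N₁ := f₁.toAlgebra
    haveI : IsScalarTower K' K₁' N₁ := IsScalarTower.of_algebraMap_eq fun c => Subtype.ext (by
      show algebraMap K' Ω c = φ (algebraMap K₁' Ω₁ (algebraMap K' K₁' c))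
      rw [← IsScalarTower.algebraMap_apply, AlgHom.commutes])
    refine hsol N₁ (adjoin_eq_top_of_intermediate N₁ rfl
      (fun x hx => by obtain ⟨z, -, rfl⟩ := hx; exact halg z) _ fun x hx hxS => ?_) W₁ hdom₁
    obtain ⟨_, ⟨y, rfl⟩, rfl⟩ := hxS
    exact Algebra.subset_adjoin ⟨y, rfl⟩
  -- step 2: a finite extension of the solution
  let V₁ := W₁.comap f₁
  let V₂ := W₂.comap f₂
  letI : Algebra K' N₁ := ((algebraMap L' N₁).comp (algebraMap K' L')).toAlgebra
  haveI : Module.Finite L' N₁ := by
    haveI : FiniteDimensional L' (IntermediateField.adjoin L' (φ '' Set.range fun i => algebraMap K₁' Ω₁ (b i))) :=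
      IntermediateField.finiteDimensional_adjoin fun x hx => by
        obtain ⟨z, -, rfl⟩ := hx; exact (halg z).isIntegral
    refine FiniteDimensional.of_injective (IntermediateField.inclusion
      (show N₁ ≤ IntermediateField.adjoin L' (φ '' Set.range fun i => algebraMap K₁' Ω₁ (b i)) from ?_)).toLinearMap
      (fun a c h => Subtype.ext (congrArg Subtype.val h :))
    rw [IntermediateField.adjoin_le_iff]
    rintro _ ⟨_, ⟨y, rfl⟩, rfl⟩
    rw [← b.sum_repr y, map_sum, map_sum]
    refine sum_mem fun i _ => ?_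
    rw [Algebra.smul_def, map_mul, map_mul, ← IsScalarTower.algebraMap_apply, AlgHom.commutes,
      IsScalarTower.algebraMap_apply K' L' Ω]
    exact mul_mem (IntermediateField.algebraMap_mem _ _) (IntermediateField.subset_adjoin _ _ ⟨_, ⟨i, rfl⟩, rfl⟩)
  haveI : IsDiscreteValuationRing W₁ := isDiscreteValuationRing_of_dominates_finite (A := B') (K := L') W₁ hdom₁
  have hdomA' : EtRam.Dominates A' ((algebraMap K' K₁').comp (algebraMap A' K')) V₁ := by
    refine dominates_comap _ f₁ W₁ ?_
    have he : ∀ a, f₁ (algebraMap K' K₁' (algebraMap A' K' a)) =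
        algebraMap L' N₁ (algebraMap B' L' (algebraMap A' B' a)) := fun a => Subtype.ext (by
      show φ (algebraMap K₁' Ω₁ (algebraMap K' K₁' (algebraMap A' K' a))) = ι (algebraMap B' L' (algebraMap A' B' a))
      rw [← IsScalarTower.algebraMap_apply, AlgHom.commutes, hsqA]
      rfl)
    refine ⟨fun a => ?_, fun a ha => ?_⟩
    · show f₁ _ ∈ W₁
      rw [RingHom.comp_apply, he]; exact hdom₁.1 _
    · show W₁.valuation (f₁ _) < 1
      rw [RingHom.comp_apply, he]
      exact hdom₁.2 _ (map_nonunit (algebraMap A' B') a ha)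
  haveI : IsDiscreteValuationRing V₁ := isDiscreteValuationRing_of_dominates_finite (A := A') (K := K') V₁ hdomA'
  have h₂ : Good W₂ f₂ := by
    letI : Algebra V₁ W₁ := (EtRam.inclOfComap W₁ f₁).toAlgebra
    haveI : IsLocalHom (algebraMap V₁ W₁) := inferInstanceAs (IsLocalHom (EtRam.inclOfComap W₁ f₁))
    letI : Algebra K₁' N₁ := f₁.toAlgebra
    letI : Algebra V₁ N₁ := (f₁.comp V₁.subtype).toAlgebra
    haveI : IsScalarTower V₁ K₁' N₁ := IsScalarTower.of_algebraMap_eq fun _ => rfl
    haveI : IsScalarTower V₁ W₁ N₁ := IsScalarTower.of_algebraMap_eq fun _ => rfl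
    haveI : Algebra.IsGeometricallyReduced (ResidueField V₁) (ResidueField W₁) := by
      convert h₁.2 using 2
      refine Algebra.algebra_ext _ _ fun r => ?_
      obtain ⟨r, rfl⟩ := residue_surjective r
      rfl
    letI : Algebra N₁ N₂ := i.toAlgebra
    letI : Algebra K₁' N₂ := (i.comp f₁).toAlgebra
    haveI : IsScalarTower K₁' N₁ N₂ := IsScalarTower.of_algebraMap_eq fun _ => rfl
    letI : Algebra K₂ N₂ := f₂.toAlgebra
    haveI : IsScalarTower K₁' K₂ N₂ := IsScalarTower.of_algebraMap_eq fun _ => rfl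
    haveI : IsScalarTower L' N₁ N₂ := IsScalarTower.of_algebraMap_eq fun _ => rfl
    refine isSolution_of_weaklyUnramified_separable V₁ W₁ K₁' N₁ h₁.1 K₂ N₂ ?_ W₂ (dominates_self_comap i W₂)
    have h := adjoin_eq_top_of_intermediate N₂ rfl (fun x hx => by obtain ⟨z, -, rfl⟩ := hx; exact halg z)
      ((Algebra.adjoin N₁ (Set.range (algebraMap K₂ N₂))).restrictScalars L') fun x hx hxS => by
        obtain ⟨z, hz, rfl⟩ := hxS
        exact Algebra.subset_adjoin (R := N₁) ⟨⟨z, hz⟩, rfl⟩
    exact top_le_iff.1 fun z _ => (h.symm ▸ Algebra.mem_top :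
      z ∈ (Algebra.adjoin N₁ (Set.range (algebraMap K₂ N₂))).restrictScalars L')
  -- step 3: descend along `A → A'`
  let f₃ : K₁ →+* K₂ := (K₁.val.comp σ).toRingHom.codRestrict K₂ fun x => hK₁₂ (σ x)
  have hdom₃ : EtRam.Dominates A' ((algebraMap K' K₂).comp (algebraMap A' K')) V₂ := by
    refine dominates_comap _ f₂ W₂ ?_
    have he : ∀ a, f₂ (algebraMap K' K₂ (algebraMap A' K' a)) =
        algebraMap L' N₂ (algebraMap B' L' (algebraMap A' B' a)) := fun a => Subtype.ext (by
      show φ (algebraMap K' Ω₁ (algebraMap A' K' a)) = ι (algebraMap B' L' (algebraMap A' B' a))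
      rw [AlgHom.commutes, hsqA]
      rfl)
    refine ⟨fun a => ?_, fun a ha => ?_⟩
    · show f₂ _ ∈ W₂
      rw [RingHom.comp_apply, he]; exact hdom₂.1 _
    · show W₂.valuation (f₂ _) < 1
      rw [RingHom.comp_apply, he]
      exact hdom₂.2 _ (map_nonunit (algebraMap A' B') a ha)
  have h₃ : Good V₂ f₃ := by
    letI : Algebra K₁ K₂ := f₃.toAlgebra
    haveI : IsScalarTower K K₁ K₂ := IsScalarTower.of_algebraMap_eq fun c => Subtype.ext (by
      show algebraMap K Ω₁ c = (σ (algebraMap K K₁ c) : Ω₁)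
      rw [σ.commutes]; rfl)
    refine isSolution_of_weaklyUnramified_separable A A' K K' hw K₁ K₂
      (adjoin_eq_top_of_intermediate K₂ rfl (fun x _ => (Algebra.IsIntegral.isIntegral x).isAlgebraic) _
        fun x hx hxT => ?_) V₂ hdom₃
    obtain ⟨l, rfl⟩ := hxT
    obtain ⟨z, hz⟩ := (AlgHom.bijective σ).2 (b₁ l)
    refine Algebra.subset_adjoin ⟨z, Subtype.ext ?_⟩
    show (σ z : Ω₁) = (b₁ l : Ω₁)
    rw [hz]
  have h₄ : Good W₂ (f₂.comp f₃) := Good.trans h₃ h₂
  -- back to `M`
  have hjM : ∀ m : M, j m ∈ N₂ := by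
    intro m
    have hm : m ∈ Algebra.adjoin L (Set.range (algebraMap K₁ M)) := hgen ▸ Algebra.mem_top
    induction hm using Algebra.adjoin_induction with
    | mem x hx =>
      obtain ⟨y, rfl⟩ := hx
      rw [← hσ]
      exact IntermediateField.subset_adjoin L' S₂ ⟨_, hK₁₂ (σ y), rfl⟩
    | algebraMap l =>
      rw [← RingHom.comp_apply, ← hιj]
      exact N₂.algebraMap_mem _
    | add x y _ _ hx hy => rw [map_add]; exact add_mem hx hy
    | mul x y _ _ hx hy => rw [map_mul]; exact mul_mem hx hy
  let g : M →+* N₂ := j.codRestrict N₂ hjM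
  have hg : g.comp (algebraMap K₁ M) = f₂.comp f₃ := RingHom.ext fun x => Subtype.ext (hσ x).symm
  rw [← hg] at h₄
  have hWg : W₂.comap g = W := by rw [← hUW]; rfl
  rw [← hWg]
  exact h₄.comap

end Groth.Agent.EtRam7
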