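import Groth.Agent.EtRam7.WeakSolMain
import Mathlib

/-! Totally ramified extensions are weak solutions for weakly unramified extensions. -/

set_option autoImplicit false
set_option linter.style.haveILetI false
universe u

namespace Groth.Agent.EtRam7

open IsLocalRing TensorProduct

set_option maxHeartbeats 1000000 in
/-- A totally ramified extension is a weak solution for a weakly unramified extension. -/
theorem isWeakSolution_of_totallyRamified (A B K L : Type u) [CommRing A] [IsDomain A]
    [IsDiscreteValuationRing A] [CommRing B] [IsDomain B] [IsDiscreteValuationRing B] [Algebra A B]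
    [IsLocalHom (algebraMap A B)]
    [Field K] [Field L] [Algebra A K] [IsFractionRing A K] [Algebra B L] [IsFractionRing B L]
    [Algebra K L] [Algebra A L] [IsScalarTower A K L] [IsScalarTower A B L]
    (hw : EtRam.IsWeaklyUnramified A B)
    (K₁ : Type u) [Field K₁] [Algebra K K₁] [FiniteDimensional K K₁]
    (ht : EtRam.IsTotallyRamified A ((algebraMap K K₁).comp (algebraMap A K))) : EtRam.IsWeakSolution B K L K₁ := by
  intro M _ _ _ _ _ _ hgenM W hW
  let f : K₁ →+* M := algebraMap K₁ M
  let V := W.comap f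
  letI : Algebra A K₁ := ((algebraMap K K₁).comp (algebraMap A K)).toAlgebra
  haveI : IsScalarTower A K K₁ := IsScalarTower.of_algebraMap_eq fun _ => rfl
  letI : Algebra B W := (((algebraMap L M).comp (algebraMap B L)).codRestrict W hW.1).toAlgebra
  haveI hlocB : IsLocalHom (algebraMap B W) := isLocalHom_of_dominates _ W hW
  letI : Algebra A W := ((algebraMap B W).comp (algebraMap A B)).toAlgebra
  haveI : IsScalarTower A B W := IsScalarTower.of_algebraMap_eq' rfl
  haveI : IsLocalHom ((algebraMap B W).comp (algebraMap A B)) := RingHom.isLocalHom_comp _ _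
  haveI : IsLocalHom (algebraMap A W) := ‹IsLocalHom ((algebraMap B W).comp (algebraMap A B))›
  have hAM : ∀ a, ((algebraMap A W a : W) : M) = f (algebraMap A K₁ a) := fun a => by
    show algebraMap L M (algebraMap B L (algebraMap A B a)) = algebraMap K₁ M (algebraMap K K₁ (algebraMap A K a))
    rw [← IsScalarTower.algebraMap_apply A B L, IsScalarTower.algebraMap_apply A K L,
      ← IsScalarTower.algebraMap_apply K L M, ← IsScalarTower.algebraMap_apply K K₁ M]
  haveI : Module.Finite L M := by
    let g : L ⊗[K] K₁ →ₐ[L] M := Algebra.TensorProduct.lift (Algebra.ofId L M)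
      (IsScalarTower.toAlgHom K K₁ M) fun _ _ => Commute.all _ _
    refine Module.Finite.of_surjective g.toLinearMap ((g.range_eq_top).1 (top_le_iff.1 ?_))
    rw [← hgenM]
    refine Algebra.adjoin_le ?_
    rintro _ ⟨x, rfl⟩
    exact ⟨1 ⊗ₜ x, by simp [g]⟩
  haveI := isDiscreteValuationRing_of_dominates_finite (A := B) (K := L) W hW
  have hVdom : EtRam.Dominates A ((algebraMap K K₁).comp (algebraMap A K)) V := by
    refine dominates_comap _ f W ⟨fun a => (show f (algebraMap A K₁ a) ∈ W from hAM a ▸ (algebraMap A W a).2),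
      fun a ha => ?_⟩
    show W.valuation (f (algebraMap A K₁ a)) < 1
    rw [← hAM, ← ValuationSubring.valuation_lt_one_iff]
    exact map_nonunit (algebraMap A W) a ha
  haveI : IsDiscreteValuationRing V := isDiscreteValuationRing_of_dominates_finite V hVdom
  letI : Algebra A V := (((algebraMap K K₁).comp (algebraMap A K)).codRestrict V hVdom.1).toAlgebra
  haveI : IsScalarTower A V K₁ := IsScalarTower.of_algebraMap_eq fun _ => rfl
  haveI : IsLocalHom (algebraMap A V) := isLocalHom_of_dominates _ V hVdom
  haveI := finite_residueField_of_dominates (A := A) (K := K) V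
  letI : Algebra V W := (EtRam.inclOfComap W f).toAlgebra
  haveI : IsScalarTower A V W := IsScalarTower.of_algebraMap_eq fun a => Subtype.ext (hAM a)
  haveI : IsLocalHom (algebraMap V W) := inferInstanceAs (IsLocalHom (EtRam.inclOfComap W f))
  let kV := ResidueField V
  let kB := ResidueField B
  let φ : V ⊗[A] B →ₐ[A] W := Algebra.TensorProduct.lift (IsScalarTower.toAlgHom A V W)
    (IsScalarTower.toAlgHom A B W) fun _ _ => Commute.all _ _
  let ψ : V ⊗[A] B →ₐ[A] kV ⊗[A] kB := Algebra.TensorProduct.map
    (IsScalarTower.toAlgHom A V kV) (IsScalarTower.toAlgHom A B kB)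
  let θ : kV ⊗[A] kB →ₐ[A] ResidueField W := Algebra.TensorProduct.lift
    (IsScalarTower.toAlgHom A kV (ResidueField W)) (IsScalarTower.toAlgHom A kB (ResidueField W))
    fun _ _ => Commute.all _ _
  obtain ⟨ϖ, hϖ⟩ := IsDiscreteValuationRing.exists_irreducible V
  obtain ⟨π, hπ⟩ := IsDiscreteValuationRing.exists_irreducible A
  let t : V ⊗[A] B := ϖ ⊗ₜ[A] (1 : B)
  have hψ : Function.Surjective ψ := fun y => by
    induction y using TensorProduct.induction_on with
    | zero => exact ⟨0, map_zero _⟩
    | tmul a b =>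
      obtain ⟨a, rfl⟩ := residue_surjective a
      obtain ⟨b, rfl⟩ := residue_surjective b
      exact ⟨a ⊗ₜ b, rfl⟩
    | add a b ha hb =>
      obtain ⟨a, rfl⟩ := ha
      obtain ⟨b, rfl⟩ := hb
      exact ⟨a + b, map_add _ _ _⟩
  have hker : ∀ x, ψ x = 0 → ∃ x', x = t * x' := by
    intro x hx
    have hx' : x ∈ RingHom.ker ψ := hx
    rw [Algebra.TensorProduct.map_ker _ _ residue_surjective residue_surjective] at hx'
    refine Ideal.mem_span_singleton.1 ((sup_le ?_ ?_ : _ ≤ Ideal.span {t}) hx')
    · rw [show RingHom.ker (IsScalarTower.toAlgHom A V kV) = Ideal.span {ϖ} by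
        rw [← hϖ.maximalIdeal_eq]; exact IsLocalRing.ker_residue, Ideal.map_span, Set.image_singleton]
      rfl
    · have hmB : RingHom.ker (IsScalarTower.toAlgHom A B kB) = Ideal.span {algebraMap A B π} := by
        rw [show RingHom.ker (IsScalarTower.toAlgHom A B kB) = maximalIdeal B from IsLocalRing.ker_residue,
          ← hw, hπ.maximalIdeal_eq, Ideal.map_span, Set.image_singleton]
      rw [hmB, Ideal.map_span, Set.image_singleton, Ideal.span_singleton_le_span_singleton]
      show t ∣ (1 : V) ⊗ₜ[A] algebraMap A B π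
      obtain ⟨c, hc⟩ : ϖ ∣ algebraMap A V π := by
        rw [← Ideal.mem_span_singleton, ← hϖ.maximalIdeal_eq]
        exact map_nonunit (algebraMap A V) π hπ.1
      refine ⟨c ⊗ₜ[A] 1, ?_⟩
      rw [Algebra.TensorProduct.tmul_mul_tmul, one_mul, ← hc, Algebra.algebraMap_eq_smul_one (A := B),
        Algebra.algebraMap_eq_smul_one (A := V), TensorProduct.smul_tmul]

  have hflat : ∀ d : kV ⊗[A] kB, ∃ y, d ^ 2 * y = d := by
    have hs : ∀ x : kV, ∃ a : A, algebraMap A kV a = x := fun x => by
      obtain ⟨a, ha⟩ := ht.2.2 V hVdom x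
      exact ⟨a, ha⟩
    let i : kB →ₐ[A] kV ⊗[A] kB := Algebra.TensorProduct.includeRight
    have hi : Function.Surjective i := fun z => by
      induction z using TensorProduct.induction_on with
      | zero => exact ⟨0, map_zero i⟩
      | tmul x b =>
        obtain ⟨a, rfl⟩ := hs x
        exact ⟨a • b, by simp [i, Algebra.algebraMap_eq_smul_one, TensorProduct.smul_tmul]⟩
      | add x y hx hy =>
        obtain ⟨x, rfl⟩ := hx
        obtain ⟨y, rfl⟩ := hy
        exact ⟨x + y, map_add i x y⟩
    intro d
    obtain ⟨b, rfl⟩ := hi d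
    refine ⟨i b⁻¹, ?_⟩
    rw [← map_pow, ← map_mul]
    congr 1
    rcases eq_or_ne b 0 with rfl | hb
    · simp
    · rw [pow_two, mul_assoc, mul_inv_cancel₀ hb, mul_one]
  have hθ : ∀ x, θ (ψ x) = residue W (φ x) := fun x => by
    induction x using TensorProduct.induction_on with
    | zero => simp
    | add a b ha hb => rw [map_add, map_add, ha, hb, map_add, map_add]
    | tmul a b => simp [θ, ψ, φ]; rfl
  have hφ1 : ∀ v : V, ((φ (v ⊗ₜ[A] (1 : B)) : W) : M) = f (v : K₁) := fun v => by simp [φ]; rfl
  have hgen : ∀ z : W, ∃ x d : V ⊗[A] B, φ d ≠ 0 ∧ z * φ d = φ x := by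
    let S : Subalgebra L M :=
      { carrier := {m | ∃ x d : V ⊗[A] B, φ d ≠ 0 ∧ m * (φ d : M) = (φ x : M)}
        mul_mem' := by
          rintro a b ⟨x, d, hd, hx⟩ ⟨y, e, he, hy⟩
          exact ⟨x * y, d * e, by rw [map_mul]; exact mul_ne_zero hd he, by
            rw [map_mul, map_mul]; push_cast; linear_combination (b * (φ e : M)) * hx + (φ x : M) * hy⟩
        add_mem' := by
          rintro a b ⟨x, d, hd, hx⟩ ⟨y, e, he, hy⟩
          exact ⟨x * e + y * d, d * e, by rw [map_mul]; exact mul_ne_zero hd he, by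
            rw [map_mul, map_add, map_mul, map_mul]; push_cast; linear_combination (φ e : M) * hx + (φ d : M) * hy⟩
        algebraMap_mem' := fun l => by
          obtain ⟨x, d, hd, rfl⟩ := IsFractionRing.div_surjective (A := B) l
          have hd0 : algebraMap B L d ≠ 0 := IsFractionRing.to_map_ne_zero_of_mem_nonZeroDivisors hd
          have hφ2 : ∀ b : B, ((φ ((1 : V) ⊗ₜ[A] b) : W) : M) = algebraMap L M (algebraMap B L b) := fun b => by
            simp [φ]; rfl
          refine ⟨1 ⊗ₜ x, 1 ⊗ₜ d, fun h => ?_, ?_⟩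
          · have h1 := congrArg Subtype.val h
            rw [hφ2] at h1
            exact hd0 ((algebraMap L M).injective (h1.trans (map_zero _).symm))
          · rw [hφ2, hφ2, ← map_mul, div_mul_cancel₀ _ hd0] }
    have hS : S = ⊤ := top_le_iff.1 (hgenM.ge.trans (Algebra.adjoin_le (by
      rintro _ ⟨x, rfl⟩
      rcases V.mem_or_inv_mem x with hx | hx
      · exact ⟨(⟨x, hx⟩ : V) ⊗ₜ 1, 1, by rw [map_one]; exact one_ne_zero, by rw [map_one, hφ1]; simp [f]⟩
      · rcases eq_or_ne x 0 with rfl | hx0
        · exact ⟨0, 1, by rw [map_one]; exact one_ne_zero, by simp⟩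
        · refine ⟨1, (⟨x⁻¹, hx⟩ : V) ⊗ₜ 1, fun h => ?_, ?_⟩
          · have h1 := congrArg Subtype.val h
            rw [hφ1] at h1
            exact inv_ne_zero hx0 (f.injective (h1.trans (map_zero f).symm))
          · rw [hφ1, map_one, ← map_mul]; simp [hx0, f])))
    intro z
    obtain ⟨x, d, hd, hx⟩ : (z : M) ∈ S := hS ▸ trivial
    exact ⟨x, d, hd, Subtype.ext hx⟩
  have ht : φ t ∈ maximalIdeal W := by
    show φ (ϖ ⊗ₜ[A] (1 : B)) ∈ _
    rw [show φ (ϖ ⊗ₜ[A] (1 : B)) = algebraMap V W ϖ by simp [φ]]
    exact map_nonunit (algebraMap V W) ϖ hϖ.1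
  obtain ⟨hmax, hsurj⟩ := maximalIdeal_eq_span_of_absolutelyFlat (C := V ⊗[A] B) (T := kV ⊗[A] kB) W
    φ.toRingHom t ψ.toRingHom hψ (fun x hx => by obtain ⟨x', rfl⟩ := hker x hx; exact ⟨x', map_mul φ t x'⟩) hflat ht θ.toRingHom hθ hgen
  show EtRam.IsWeaklyUnramified V W
  unfold EtRam.IsWeaklyUnramified
  rw [hϖ.maximalIdeal_eq, Ideal.map_span, Set.image_singleton, hmax]
  congr 2
  show algebraMap V W ϖ = φ t
  simp [φ, t]

end Groth.Agent.EtRam7

namespace Groth.Agent.EtRam7

open IsLocalRing TensorProduct

/-- A weakly unramified extension has ramification index one. -/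
theorem ramificationIdx'_eq_one {A B : Type u} [CommRing A] [IsDomain A] [IsDiscreteValuationRing A]
    [CommRing B] [IsDomain B] [IsDiscreteValuationRing B] [Algebra A B] [IsLocalHom (algebraMap A B)]
    (h : EtRam.IsWeaklyUnramified A B) :
    Ideal.ramificationIdx' (maximalIdeal A) (maximalIdeal B) = 1 := by
  refine Ideal.ramificationIdx'_spec ?_ ?_
  · rw [pow_one, h]
  · rw [h]
    obtain ⟨ϖ, hϖ⟩ := IsDiscreteValuationRing.exists_irreducible B
    rw [hϖ.maximalIdeal_eq, Ideal.span_singleton_pow, Ideal.span_singleton_le_span_singleton]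
    intro hd
    exact hϖ.1 ((pow_dvd_pow_iff hϖ.ne_zero hϖ.1 (n := 2) (m := 1)).1 (by rwa [pow_one]) |> fun h => absurd h (by norm_num))

/-- The ramification index of a separable totally ramified extension is at least its degree. -/
theorem finrank_le_ramificationIdx' {A K K₁ : Type u} [CommRing A] [IsDomain A] [IsDiscreteValuationRing A]
    [Field K] [Algebra A K] [IsFractionRing A K] [Field K₁] [Algebra K K₁] [FiniteDimensional K K₁]
    [Algebra.IsSeparable K K₁] [Algebra A K₁] [IsScalarTower A K K₁]
    (ht : EtRam.IsTotallyRamified A ((algebraMap K K₁).comp (algebraMap A K)))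
    (V : ValuationSubring K₁) [IsDiscreteValuationRing V] [Algebra A V] [IsScalarTower A V K₁]
    [IsLocalHom (algebraMap A V)]
    (hV : EtRam.Dominates A ((algebraMap K K₁).comp (algebraMap A K)) V) :
    Module.finrank K K₁ ≤ Ideal.ramificationIdx' (maximalIdeal A) (maximalIdeal V) := by
  let g := (algebraMap K K₁).comp (algebraMap A K)
  have hg : g = algebraMap A K₁ := (IsScalarTower.algebraMap_eq A K K₁).symm
  haveI : FaithfulSMul A K₁ := (faithfulSMul_iff_algebraMap_injective A K₁).2
    (hg ▸ (algebraMap K K₁).injective.comp (IsFractionRing.injective A K))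
  have hint : ∀ x : V, IsIntegral A (x : K₁) := by
    intro x
    let A' : Subring K₁ := (algebraMap A K₁).range
    have hi : IsIntegral A' (x : K₁) := by
      refine KrullAki.isIntegral_of_forall_mem fun U hU => ?_
      by_cases hdom : EtRam.Dominates A g U
      · rw [ht.2.1 U V hdom hV]
        exact x.2
      · have hmem : ∀ a : A, g a ∈ U := fun a => hU ⟨a, (RingHom.congr_fun hg a).symm⟩
        obtain ⟨a, ha, hau⟩ : ∃ a ∈ maximalIdeal A, ¬ U.valuation (g a) < 1 := by
          by_contra hc
          push Not at hc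
          exact hdom ⟨hmem, hc⟩
        obtain ⟨π, hπ⟩ := IsDiscreteValuationRing.exists_irreducible A
        have hu : IsUnit (⟨g π, hmem π⟩ : U) := by
          by_contra hn
          obtain ⟨c, rfl⟩ := Ideal.mem_span_singleton.1 (hπ.maximalIdeal_eq ▸ ha)
          refine hau ?_
          show U.valuation ((⟨g (π * c), hmem _⟩ : U) : K₁) < 1
          rw [← ValuationSubring.valuation_lt_one_iff,
            show (⟨g (π * c), hmem _⟩ : U) = ⟨g π, hmem π⟩ * ⟨g c, hmem c⟩ from Subtype.ext (map_mul g π c)]
          exact Ideal.mul_mem_right _ _ hn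
        have hK : ∀ k : K, algebraMap K K₁ k ∈ U := by
          intro k
          obtain ⟨a, b, hb, rfl⟩ := IsFractionRing.div_surjective (A := A) k
          obtain ⟨n, v, rfl⟩ := IsDiscreteValuationRing.eq_unit_mul_pow_irreducible (nonZeroDivisors.ne_zero hb) hπ
          obtain ⟨w, hw⟩ := hu.exists_left_inv
          have hw' : (w : K₁) * g π = 1 := congrArg Subtype.val hw
          have hv' : g (v : A) * g ((v⁻¹ : Aˣ) : A) = 1 := by rw [← map_mul, Units.mul_inv, map_one]
          have hne : g π ≠ 0 := right_ne_zero_of_mul_eq_one hw'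
          have e : algebraMap K K₁ (algebraMap A K a / algebraMap A K ((v : A) * π ^ n)) =
              g a * g ((v⁻¹ : Aˣ) : A) * (w : K₁) ^ n := by
            rw [map_div₀, div_eq_iff (by
              show g ((v : A) * π ^ n) ≠ 0
              rw [map_mul, map_pow]
              exact mul_ne_zero (left_ne_zero_of_mul_eq_one hv') (pow_ne_zero _ hne))]
            show g a = _ * g ((v : A) * π ^ n)
            rw [map_mul g (v : A), map_pow]
            calc g a = g a * (g (v : A) * g ((v⁻¹ : Aˣ) : A)) * ((w : K₁) * g π) ^ n := by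
                  rw [hv', hw', one_pow, mul_one, mul_one]
              _ = _ := by ring
          rw [e]
          exact mul_mem (mul_mem (hmem a) (hmem _)) (pow_mem w.2 n)
        have hxi : IsIntegral K (x : K₁) := Algebra.IsIntegral.isIntegral _
        letI : Algebra K U := ((algebraMap K K₁).codRestrict U hK).toAlgebra
        haveI : IsScalarTower K U K₁ := IsScalarTower.of_algebraMap_eq fun _ => rfl
        obtain ⟨y, hy⟩ := IsIntegrallyClosed.isIntegral_iff.1 (hxi.tower_top (A := U))
        exact hy ▸ y.2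
    obtain ⟨p, hp, hpx⟩ := hi
    obtain ⟨p', hp', hp'm⟩ : ∃ p' : Polynomial A, p'.Monic ∧
        p'.map (algebraMap A K₁).rangeRestrict = p := by
      obtain ⟨q, hq1, -, hq3⟩ := Polynomial.lifts_and_natDegree_eq_and_monic
        ((Polynomial.lifts_iff_coeff_lifts p).2 fun i => RingHom.rangeRestrict_surjective _ _) hp
      exact ⟨q, hq3, hq1⟩
    refine ⟨p', hp', ?_⟩
    rw [← hp'm, Polynomial.eval₂_map] at hpx
    exact hpx
  haveI : IsIntegralClosure V A K₁ := ⟨Subtype.val_injective, fun {x} => ⟨fun hx => by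
    obtain ⟨y, hy⟩ := IsIntegrallyClosed.isIntegral_iff.1 (hx.tower_top (A := V))
    exact ⟨y, hy⟩, fun ⟨y, hy⟩ => hy ▸ hint y⟩⟩
  haveI : Module.Finite A V := IsIntegralClosure.finite A K K₁ V
  obtain ⟨π, hπ⟩ := IsDiscreteValuationRing.exists_irreducible A
  obtain ⟨ϖ, hϖ⟩ := IsDiscreteValuationRing.exists_irreducible V
  have hinjV : Function.Injective (algebraMap A V) := fun a b h => FaithfulSMul.algebraMap_injective A K₁ (by
    rw [IsScalarTower.algebraMap_apply A V K₁, IsScalarTower.algebraMap_apply A V K₁, h])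
  obtain ⟨u, hu, -⟩ := DVR7.exists_eq_unit_mul_pow hinjV hπ hϖ
  set e := Ideal.ramificationIdx' (maximalIdeal A) (maximalIdeal V)
  let N : Submodule A V := Submodule.span A (Set.range fun i : Fin e => ϖ ^ (i : ℕ))
  have hj : ∀ x : V, ∀ j ≤ e, ∃ y ∈ N, ϖ ^ j ∣ x - y := by
    intro x j
    induction j with
    | zero => exact fun _ => ⟨0, zero_mem _, by simp⟩
    | succ j ih =>
      intro hje
      obtain ⟨y, hy, z, hz⟩ := ih (Nat.le_of_succ_le hje)
      obtain ⟨a, ha⟩ := ht.2.2 V hV (residue V z)
      have ha' : residue V (algebraMap A V a) = residue V z := by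
        rw [← ha]
        congr 1
        exact Subtype.ext ((IsScalarTower.algebraMap_apply A V K₁ a).symm.trans (RingHom.congr_fun hg a).symm)
      obtain ⟨c, hc⟩ : ϖ ∣ z - algebraMap A V a := by
        rw [← Ideal.mem_span_singleton, ← hϖ.maximalIdeal_eq, ← residue_eq_zero_iff, map_sub, ha', sub_self]
      refine ⟨y + a • ϖ ^ j, add_mem hy (N.smul_mem a (Submodule.subset_span ⟨⟨j, hje⟩, rfl⟩)), c, ?_⟩
      rw [Algebra.smul_def, pow_succ]
      linear_combination hz + ϖ ^ j * hc
  have htop : (⊤ : Submodule A V) ≤ N ⊔ maximalIdeal A • ⊤ := by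
    intro x _
    obtain ⟨y, hy, c, hc⟩ := hj x e le_rfl
    refine Submodule.mem_sup.2 ⟨y, hy, π • (c * ((u⁻¹ : Vˣ) : V)),
      Submodule.smul_mem_smul (hπ.maximalIdeal_eq ▸ Ideal.mem_span_singleton_self π) trivial, ?_⟩
    rw [Algebra.smul_def, hu, show (u : V) * ϖ ^ e * (c * ((u⁻¹ : Vˣ) : V)) = ϖ ^ e * c * ((u : V) * ((u⁻¹ : Vˣ) : V)) by ring,
      Units.mul_inv, mul_one, ← hc, add_sub_cancel]
  have hN : N = ⊤ := top_le_iff.1
    (Submodule.le_of_le_smul_of_le_jacobson_bot Module.Finite.fg_top (maximalIdeal_le_jacobson _) htop)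
  calc Module.finrank K K₁ = Module.finrank A V := (IsIntegralClosure.rank A K K₁ V).symm
    _ = Module.finrank A N := by rw [hN, finrank_top]
    _ ≤ e := (finrank_range_le_card _).trans_eq (Fintype.card_fin e)

/-- Totally ramified separable extensions stay fields after a weakly unramified base change. -/
theorem isField_tensor_of_totallyRamified {A B K L : Type u} [CommRing A] [IsDomain A] [IsDiscreteValuationRing A]
    [CommRing B] [IsDomain B] [IsDiscreteValuationRing B] [Algebra A B] [IsLocalHom (algebraMap A B)]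
    (hinj : Function.Injective (algebraMap A B))
    [Field K] [Field L] [Algebra A K] [IsFractionRing A K] [Algebra B L] [IsFractionRing B L]
    [Algebra K L] [Algebra A L] [IsScalarTower A K L] [IsScalarTower A B L]
    (hw : EtRam.IsWeaklyUnramified A B) (K₁ : Type u) [Field K₁] [Algebra K K₁] [FiniteDimensional K K₁]
    [Algebra.IsSeparable K K₁] (ht : EtRam.IsTotallyRamified A ((algebraMap K K₁).comp (algebraMap A K))) :
    IsField (L ⊗[K] K₁) := by
  obtain ⟨Q, hQ⟩ := Ideal.exists_maximal (L ⊗[K] K₁)
  let M := (L ⊗[K] K₁) ⧸ Q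
  letI : Field M := Ideal.Quotient.field Q
  letI : Algebra K₁ M := ((Ideal.Quotient.mk Q).comp
    (Algebra.TensorProduct.includeRight : K₁ →ₐ[K] L ⊗[K] K₁).toRingHom).toAlgebra
  haveI : IsScalarTower K K₁ M := IsScalarTower.of_algebraMap_eq fun c =>
    congrArg (Ideal.Quotient.mk Q) ((Algebra.TensorProduct.includeRight : K₁ →ₐ[K] L ⊗[K] K₁).commutes c).symm
  have hgen : Algebra.adjoin L (Set.range (algebraMap K₁ M)) = ⊤ := by
    refine top_le_iff.1 fun z _ => ?_
    obtain ⟨z, rfl⟩ := Ideal.Quotient.mk_surjective z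
    induction z using TensorProduct.induction_on with
    | zero => rw [map_zero]; exact zero_mem _
    | add a b ha hb => rw [map_add]; exact add_mem (ha trivial) (hb trivial)
    | tmul l c =>
      rw [show l ⊗ₜ[K] c = algebraMap L (L ⊗[K] K₁) l * ((1 : L) ⊗ₜ[K] c) by
        simp [Algebra.TensorProduct.algebraMap_apply], map_mul]
      exact mul_mem (Subalgebra.algebraMap_mem _ l) (Algebra.subset_adjoin ⟨c, rfl⟩)
  let gB : B →+* M := (algebraMap L M).comp (algebraMap B L)
  obtain ⟨W, hWle, hWloc⟩ := LocalSubring.exists_le_valuationSubring (LocalSubring.range gB)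
  have hW : EtRam.Dominates B gB W := by
    refine ⟨fun b => hWle ⟨b, rfl⟩, fun b hb => ?_⟩
    show W.valuation ((⟨gB b, hWle ⟨b, rfl⟩⟩ : W) : M) < 1
    rw [← ValuationSubring.valuation_lt_one_iff]
    intro hu
    obtain ⟨⟨_, c, rfl⟩, hc⟩ := (hWloc.map_nonunit (⟨gB b, b, rfl⟩ : (LocalSubring.range gB).toSubring) hu).exists_right_inv
    have h1 : gB (b * c) = gB 1 := by rw [map_mul, map_one]; exact congrArg Subtype.val hc
    exact hb (isUnit_iff_exists_inv.2 ⟨c, (algebraMap L M).injective.comp (IsFractionRing.injective B L) h1⟩)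
  have hws := isWeakSolution_of_totallyRamified A B K L hw K₁ ht M hgen W hW
  let f : K₁ →+* M := algebraMap K₁ M
  let V := W.comap f
  letI : Algebra A K₁ := ((algebraMap K K₁).comp (algebraMap A K)).toAlgebra
  haveI : IsScalarTower A K K₁ := IsScalarTower.of_algebraMap_eq fun _ => rfl
  letI : Algebra B W := (gB.codRestrict W hW.1).toAlgebra
  haveI : IsLocalHom (algebraMap B W) := isLocalHom_of_dominates _ W hW
  letI : Algebra A W := ((algebraMap B W).comp (algebraMap A B)).toAlgebra
  haveI : IsScalarTower A B W := IsScalarTower.of_algebraMap_eq' rfl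
  haveI : IsLocalHom ((algebraMap B W).comp (algebraMap A B)) := RingHom.isLocalHom_comp _ _
  haveI : IsLocalHom (algebraMap A W) := ‹IsLocalHom ((algebraMap B W).comp (algebraMap A B))›
  have hAM : ∀ a, ((algebraMap A W a : W) : M) = f (algebraMap A K₁ a) := fun a => by
    show algebraMap L M (algebraMap B L (algebraMap A B a)) = algebraMap K₁ M (algebraMap K K₁ (algebraMap A K a))
    rw [← IsScalarTower.algebraMap_apply A B L, IsScalarTower.algebraMap_apply A K L,
      ← IsScalarTower.algebraMap_apply K L M, ← IsScalarTower.algebraMap_apply K K₁ M]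
  have hVdom : EtRam.Dominates A ((algebraMap K K₁).comp (algebraMap A K)) V := by
    refine dominates_comap _ f W ⟨fun a => (show f (algebraMap A K₁ a) ∈ W from hAM a ▸ (algebraMap A W a).2),
      fun a ha => ?_⟩
    show W.valuation (f (algebraMap A K₁ a)) < 1
    rw [← hAM, ← ValuationSubring.valuation_lt_one_iff]
    exact map_nonunit (algebraMap A W) a ha
  haveI : Module.Finite L M := Module.Finite.of_surjective (Ideal.Quotient.mkₐ L Q).toLinearMap Ideal.Quotient.mk_surjective
  haveI := isDiscreteValuationRing_of_dominates_finite (A := B) (K := L) W hW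
  haveI : IsDiscreteValuationRing V := isDiscreteValuationRing_of_dominates_finite V hVdom
  letI : Algebra A V := (((algebraMap K K₁).comp (algebraMap A K)).codRestrict V hVdom.1).toAlgebra
  haveI : IsScalarTower A V K₁ := IsScalarTower.of_algebraMap_eq fun _ => rfl
  haveI : IsLocalHom (algebraMap A V) := isLocalHom_of_dominates _ V hVdom
  letI : Algebra V W := (EtRam.inclOfComap W f).toAlgebra
  haveI : IsScalarTower A V W := IsScalarTower.of_algebraMap_eq fun a => Subtype.ext (hAM a)
  haveI : IsLocalHom (algebraMap V W) := inferInstanceAs (IsLocalHom (EtRam.inclOfComap W f))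
  have hinjV : Function.Injective (algebraMap A V) := fun a b h =>
    (IsFractionRing.injective A K) ((algebraMap K K₁).injective (congrArg Subtype.val h))
  have hinjB : Function.Injective (algebraMap B W) := fun a b h =>
    (IsFractionRing.injective B L) ((algebraMap L M).injective (congrArg Subtype.val h))
  have hinjVW : Function.Injective (algebraMap V W) := fun a b h =>
    Subtype.ext (f.injective (congrArg Subtype.val h))
  have h1 := ramificationIdx'_mul (A := A) (B := V) (C := W) hinjV hinjVW
  have h2 := ramificationIdx'_mul (A := A) (B := B) (C := W) hinj hinjB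
  rw [ramificationIdx'_eq_one (A := V) (B := W) hws, mul_one] at h1
  rw [ramificationIdx'_eq_one hw, one_mul, h1] at h2
  have hn := finrank_le_ramificationIdx' ht V hVdom
  rw [h2] at hn
  obtain ⟨σ, hσ⟩ := IsDiscreteValuationRing.exists_irreducible W
  haveI : IsScalarTower B W M := IsScalarTower.of_algebraMap_eq fun _ => rfl
  have hli := DVR7.linearIndependent_pow_mul (A := B) hinjB hσ (fun _ : Unit => (1 : W))
    (LinearIndependent.of_subsingleton () (by simp))
  have hli2 := (LinearIndependent.iff_fractionRing (R := B) (K := L)).1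
    (hli.map' (IsScalarTower.toAlgHom B W M).toLinearMap (LinearMap.ker_eq_bot.2 Subtype.val_injective))
  have hd := hli2.fintype_card_le_finrank
  simp only [Fintype.card_prod, Fintype.card_fin, Fintype.card_unit, mul_one] at hd
  have hT : Module.finrank L (L ⊗[K] K₁) = Module.finrank K K₁ := Module.finrank_baseChange
  have hsurj : Function.Surjective (Ideal.Quotient.mkₐ L Q).toLinearMap := Ideal.Quotient.mk_surjective
  have hker : LinearMap.ker (Ideal.Quotient.mkₐ L Q).toLinearMap = ⊥ := by
    refine Submodule.finrank_eq_zero.1 ?_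
    have h3 := LinearMap.finrank_range_add_finrank_ker (Ideal.Quotient.mkₐ L Q).toLinearMap
    rw [LinearMap.range_eq_top.2 hsurj, finrank_top, hT] at h3
    change Module.finrank L M + _ = _ at h3
    omega
  exact MulEquiv.isField (Field.toIsField M)
    (RingEquiv.ofBijective (Ideal.Quotient.mk Q) ⟨LinearMap.ker_eq_bot.1 hker, Ideal.Quotient.mk_surjective⟩).toMulEquiv

end Groth.Agent.EtRam7
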