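import Groth.Prelude.Def_EtRam
import Groth.Agent.DVR7.Basic
import Groth.Agent.KrullAki.Valuation
import Mathlib

/-! Valuation subrings dominating a DVR in towers of field extensions. -/

set_option autoImplicit false
set_option linter.style.haveILetI false
universe u

namespace Groth.Agent.EtRam7

open IsLocalRing

variable {A : Type u} [CommRing A] [IsLocalRing A] {L M : Type u} [Field L] [Field M]

theorem isLocalHom_of_dominates (g : A →+* L) (V : ValuationSubring L) (h : EtRam.Dominates A g V) :
    IsLocalHom (g.codRestrict V h.1) := ⟨fun a ha => by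
  by_contra hn
  have h1 : V.valuation ((⟨g a, h.1 a⟩ : V) : L) < 1 := h.2 a hn
  rw [← V.valuation_lt_one_iff] at h1
  exact h1 ha⟩

theorem dominates_comap (g : A →+* L) (f : L →+* M) (W : ValuationSubring M)
    (h : EtRam.Dominates A (f.comp g) W) : EtRam.Dominates A g (W.comap f) := by
  refine ⟨h.1, fun a ha => ?_⟩
  show (W.comap f).valuation ((⟨g a, h.1 a⟩ : W.comap f) : L) < 1
  rw [← ValuationSubring.valuation_lt_one_iff]
  intro hu
  have h1 : W.valuation ((⟨f (g a), h.1 a⟩ : W) : M) < 1 := h.2 a ha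
  rw [← ValuationSubring.valuation_lt_one_iff] at h1
  exact h1 (hu.map (EtRam.inclOfComap W f))

theorem dominates_self_comap (f : L →+* M) (W : ValuationSubring M) :
    EtRam.Dominates (W.comap f) (f.comp (W.comap f).subtype) W := by
  refine ⟨fun v => v.2, fun v hv => ?_⟩
  show W.valuation ((⟨f v, v.2⟩ : W) : M) < 1
  rw [← ValuationSubring.valuation_lt_one_iff]
  exact fun hu => hv (IsLocalHom.map_nonunit (f := EtRam.inclOfComap W f) v hu)

theorem exists_extension (f : L →+* M) (V : ValuationSubring L) :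
    ∃ W : ValuationSubring M, W.comap f = V := by
  letI : Algebra V M := (f.comp V.subtype).toAlgebra
  obtain ⟨W, hW⟩ := LocalSubring.exists_le_valuationSubring
    (LocalSubring.range (f.comp V.subtype : V →+* M))
  obtain ⟨hle, hloc⟩ := hW
  refine ⟨W, ?_⟩
  ext x
  constructor
  · intro hx
    by_contra hn
    have hx' : x⁻¹ ∈ V := (V.mem_or_inv_mem x).resolve_left hn
    have hx0 : x ≠ 0 := fun e => hn (e ▸ zero_mem V)
    have hnu : ¬ IsUnit (⟨f x⁻¹, ⟨⟨x⁻¹, hx'⟩, rfl⟩⟩ : (LocalSubring.range (f.comp V.subtype : V →+* M)).toSubring) := by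
      rintro hu
      obtain ⟨⟨_, y, rfl⟩, hy⟩ := hu.exists_right_inv
      have h1 : f x⁻¹ * f y = 1 := congrArg Subtype.val hy
      rw [← map_mul, ← f.map_one] at h1
      have h2 : (y : L) = x := by
        have h3 := f.injective h1
        field_simp at h3
        exact h3
      exact hn (h2 ▸ y.2)
    refine hnu (hloc.1 _ ?_)
    refine isUnit_iff_exists_inv.2 ⟨⟨f x, hx⟩, Subtype.ext ?_⟩
    show f x⁻¹ * f x = 1
    rw [← map_mul, inv_mul_cancel₀ hx0, map_one]
  · intro hx
    exact hle ⟨⟨x, hx⟩, rfl⟩

variable {K : Type u} [Field K] [IsDomain A] [IsDiscreteValuationRing A] [Algebra A K] [IsFractionRing A K]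

theorem isDiscreteValuationRing_of_dominates [Algebra K L] [FiniteDimensional K L] [Algebra.IsSeparable K L]
    (V : ValuationSubring L) (h : EtRam.Dominates A ((algebraMap K L).comp (algebraMap A K)) V) :
    IsDiscreteValuationRing V := by
  letI : Algebra A L := ((algebraMap K L).comp (algebraMap A K)).toAlgebra
  haveI : IsScalarTower A K L := IsScalarTower.of_algebraMap_eq fun _ => rfl
  let A' := integralClosure A L
  haveI : Module.Finite A A' := IsIntegralClosure.finite A K L A'
  haveI : IsFractionRing A' L := IsIntegralClosure.isFractionRing_of_finite_extension A K L A'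
  haveI : IsDedekindDomain A' := integralClosure.isDedekindDomain A K L
  haveI : IsFractionRing A'.toSubring L := ‹IsFractionRing A' L›
  haveI : IsNoetherianRing A'.toSubring := show IsNoetherianRing A' from inferInstance
  haveI : Ring.KrullDimLE 1 A'.toSubring := show Ring.KrullDimLE 1 A' from inferInstance
  letI : Algebra A V := (((algebraMap K L).comp (algebraMap A K)).codRestrict V h.1).toAlgebra
  haveI : IsScalarTower A V L := IsScalarTower.of_algebraMap_eq fun _ => rfl
  refine KrullAki.isDiscreteValuationRing_of_le A'.toSubring (fun x hx => ?_) (fun e => ?_)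
  · obtain ⟨y, hy⟩ := IsIntegrallyClosed.isIntegral_iff.1 ((show IsIntegral A x from hx).tower_top (A := V))
    exact hy ▸ y.2
  · subst e
    obtain ⟨π, hπ⟩ := IsDiscreteValuationRing.exists_irreducible A
    have h1 : (⊤ : ValuationSubring L).valuation
        ((⟨algebraMap A L π, h.1 π⟩ : (⊤ : ValuationSubring L)) : L) < 1 := h.2 π hπ.1
    rw [← ValuationSubring.valuation_lt_one_iff] at h1
    refine h1 (isUnit_iff_exists_inv.2 ⟨⟨(algebraMap A L π)⁻¹, trivial⟩, Subtype.ext (mul_inv_cancel₀ ?_)⟩)
    show algebraMap K L (algebraMap A K π) ≠ 0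
    exact (map_ne_zero _).2 fun e => hπ.ne_zero (IsFractionRing.injective A K (e.trans (map_zero _).symm))

omit [Algebra A K] [IsFractionRing A K] in
theorem ramificationIdx'_mul {B C : Type u} [CommRing B] [IsDomain B] [IsDiscreteValuationRing B]
    [CommRing C] [IsDomain C] [IsDiscreteValuationRing C] [Algebra A B] [Algebra B C] [Algebra A C]
    [IsScalarTower A B C] [IsLocalHom (algebraMap A B)] [IsLocalHom (algebraMap B C)] [IsLocalHom (algebraMap A C)]
    (hB : Function.Injective (algebraMap A B)) (hC : Function.Injective (algebraMap B C)) :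
    Ideal.ramificationIdx' (maximalIdeal A) (maximalIdeal C) =
      Ideal.ramificationIdx' (maximalIdeal A) (maximalIdeal B) *
        Ideal.ramificationIdx' (maximalIdeal B) (maximalIdeal C) := by
  obtain ⟨π, hπ⟩ := IsDiscreteValuationRing.exists_irreducible A
  obtain ⟨ϖ, hϖ⟩ := IsDiscreteValuationRing.exists_irreducible B
  obtain ⟨ψ, hψ⟩ := IsDiscreteValuationRing.exists_irreducible C
  obtain ⟨u, hu, -⟩ := DVR7.exists_eq_unit_mul_pow hB hπ hϖ
  obtain ⟨v, hv, -⟩ := DVR7.exists_eq_unit_mul_pow hC hϖ hψ
  obtain ⟨w, hw, -⟩ := DVR7.exists_eq_unit_mul_pow (A := A) (B := C)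
    (by rw [IsScalarTower.algebraMap_eq A B C]; exact hC.comp hB) hπ hψ
  rw [IsScalarTower.algebraMap_apply A B C, hu, map_mul, map_pow, hv, mul_pow, ← pow_mul, ← mul_assoc] at hw
  exact (IsDiscreteValuationRing.unit_mul_pow_congr_pow hψ hψ
    (Units.map (algebraMap B C).toMonoidHom u * v ^ Ideal.ramificationIdx' (maximalIdeal A) (maximalIdeal B)) w _ _
    (by rw [Units.val_mul, Units.val_pow_eq_pow_val]; simpa [mul_comm] using hw)).symm.trans
      (Nat.mul_comm _ _)

end Groth.Agent.EtRam7

namespace Groth.Agent.EtRam7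

open IsLocalRing

/-- Weak unramifiedness descends from the top of a tower of valuation subrings. -/
theorem map_maximalIdeal_comap_eq {A : Type u} [CommRing A] [IsDomain A] [IsDiscreteValuationRing A]
    {L M : Type u} [Field L] [Field M] (f : L →+* M) (W : ValuationSubring M)
    [Algebra A (W.comap f)] [IsLocalHom (algebraMap A (W.comap f))] [Algebra A W]
    (hc : ∀ a, algebraMap A W a = EtRam.inclOfComap W f (algebraMap A (W.comap f) a))
    (h : EtRam.IsWeaklyUnramified A W) : EtRam.IsWeaklyUnramified A (W.comap f) := by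
  unfold EtRam.IsWeaklyUnramified at *
  obtain ⟨π, hπ⟩ := IsDiscreteValuationRing.exists_irreducible A
  rw [hπ.maximalIdeal_eq, Ideal.map_span, Set.image_singleton] at *
  refine le_antisymm ((Ideal.span_singleton_le_iff_mem _).2
    (map_nonunit (algebraMap A (W.comap f)) π hπ.1)) fun x hx => ?_
  have hxW : EtRam.inclOfComap W f x ∈ maximalIdeal W :=
    fun hu => hx (IsLocalHom.map_nonunit (f := EtRam.inclOfComap W f) x hu)
  rw [← h] at hxW
  obtain ⟨w, hw⟩ := Ideal.mem_span_singleton'.1 hxW
  rw [hc] at hw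
  have hw' : (w : M) * f (algebraMap A (W.comap f) π : L) = f (x : L) := congrArg Subtype.val hw
  by_cases h0 : (algebraMap A (W.comap f) π : L) = 0
  · rw [h0, map_zero, mul_zero, eq_comm, map_eq_zero] at hw'
    rw [show x = 0 from Subtype.ext hw']
    exact zero_mem _
  have hmem : (x : L) / (algebraMap A (W.comap f) π : L) ∈ W.comap f := by
    show f _ ∈ W
    rw [map_div₀, ← hw', mul_div_cancel_right₀ _ ((map_ne_zero f).2 h0)]
    exact w.2
  exact Ideal.mem_span_singleton'.2 ⟨⟨_, hmem⟩, Subtype.ext (div_mul_cancel₀ _ h0)⟩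

theorem isWeaklyUnramified_trans {A V W : Type u} [CommRing A] [IsLocalRing A] [CommRing V] [IsLocalRing V]
    [CommRing W] [IsLocalRing W] [Algebra A V] [Algebra V W] [Algebra A W] [IsScalarTower A V W]
    (h₁ : EtRam.IsWeaklyUnramified A V) (h₂ : EtRam.IsWeaklyUnramified V W) : EtRam.IsWeaklyUnramified A W := by
  unfold EtRam.IsWeaklyUnramified at *
  rw [IsScalarTower.algebraMap_eq A V W, ← Ideal.map_map, h₁, h₂]

end Groth.Agent.EtRam7
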