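import Groth.Agent.EtRam7.KummerRing
import Groth.Agent.S1989
import Groth.Agent.EtRam7.TotRam
import Groth.Agent.SmoothingLib.GeomFrameBasic
import Mathlib

/-! Tame extensions become unramified after adjoining a root of a uniformiser. -/

set_option autoImplicit false
set_option linter.style.haveILetI false
universe u

namespace Groth.Agent.EtRam7

open IsLocalRing Polynomial TensorProduct

theorem finite_dominating {A K L : Type u} [CommRing A] [IsDomain A] [IsDiscreteValuationRing A]
    [Field K] [Algebra A K] [IsFractionRing A K] [Field L] [Algebra K L] [Algebra A L] [IsScalarTower A K L]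
    [FiniteDimensional K L] [Algebra.IsSeparable K L] :
    {V : ValuationSubring L | EtRam.Dominates A (algebraMap A L) V}.Finite := by
  let A' := integralClosure A L
  haveI : Module.Finite A A' := IsIntegralClosure.finite A K L A'
  haveI : IsFractionRing A' L := IsIntegralClosure.isFractionRing_of_finite_extension A K L A'
  haveI : IsDedekindDomain A' := integralClosure.isDedekindDomain A K L
  haveI : IsFractionRing A'.toSubring L := ‹IsFractionRing A' L›
  haveI : IsNoetherianRing A'.toSubring := show IsNoetherianRing A' from inferInstance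
  haveI : Ring.KrullDimLE 1 A'.toSubring := show Ring.KrullDimLE 1 A' from inferInstance
  haveI : Finite (MaximalSpectrum A') := by
    haveI : Finite ((maximalIdeal A).primesOver A') :=
      (Algebra.QuasiFinite.finite_primesOver (maximalIdeal A)).to_subtype
    refine Finite.of_injective (β := (maximalIdeal A).primesOver A') (fun P => ⟨P.asIdeal, P.isMaximal.isPrime, ⟨?_⟩⟩) fun P Q h => MaximalSpectrum.ext (congrArg Subtype.val h)
    haveI := P.isMaximal
    exact (IsLocalRing.eq_maximalIdeal (Ideal.isMaximal_comap_of_isIntegral_of_isMaximal P.asIdeal)).symm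
  haveI : Finite (MaximalSpectrum A'.toSubring) := ‹Finite (MaximalSpectrum A')›
  refine (KrullAki.finite_valuationSubrings A'.toSubring).subset fun V hV => ⟨fun x hx => ?_, ?_⟩
  · letI : Algebra A V := ((algebraMap A L).codRestrict V hV.1).toAlgebra
    haveI : IsScalarTower A V L := IsScalarTower.of_algebraMap_eq fun _ => rfl
    obtain ⟨y, hy⟩ := IsIntegrallyClosed.isIntegral_iff.1 ((show IsIntegral A x from hx).tower_top (A := V))
    exact hy ▸ y.2
  · rintro rfl
    obtain ⟨π, hπ⟩ := IsDiscreteValuationRing.exists_irreducible A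
    have h := hV.2 π hπ.1
    have hne : algebraMap A L π ≠ 0 := by
      rw [IsScalarTower.algebraMap_apply A K L]
      exact (_root_.map_ne_zero _).2 fun e => hπ.ne_zero (IsFractionRing.injective A K (e.trans (map_zero _).symm))
    rw [show algebraMap A L π = ((⟨algebraMap A L π, hV.1 π⟩ : (⊤ : ValuationSubring L)) : L) from rfl,
      ← ValuationSubring.valuation_lt_one_iff] at h
    exact h (isUnit_iff_exists_inv.2 ⟨⟨(algebraMap A L π)⁻¹, trivial⟩, Subtype.ext (mul_inv_cancel₀ hne)⟩)

/-- A valuation ring of the Kummer field dominating `A` is the Kummer ring. -/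
theorem kummer_maximalIdeal {A B F : Type u} [CommRing A] [IsDomain A] [IsDiscreteValuationRing A]
    [CommRing B] [IsDomain B] [IsDiscreteValuationRing B] [Algebra A B] [Algebra.IsIntegral A B]
    [Field F] [Algebra B F] [IsFractionRing B F] (π : A) (hπ : maximalIdeal A = Ideal.span {π}) (r : B) (n : ℕ)
    (hn : 0 < n) (hr : maximalIdeal B = Ideal.span {r}) (hrn : r ^ n = algebraMap A B π)
    (V : ValuationSubring F) (hV : EtRam.Dominates A ((algebraMap B F).comp (algebraMap A B)) V) :
    ∃ h : ∀ b, algebraMap B F b ∈ V, Function.Surjective ((algebraMap B F).codRestrict V h) ∧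
      IsLocalHom ((algebraMap B F).codRestrict V h) := by
  let g := (algebraMap B F).comp (algebraMap A B)
  letI : Algebra A V := (g.codRestrict V hV.1).toAlgebra
  letI : Algebra A F := g.toAlgebra
  haveI : IsScalarTower A V F := IsScalarTower.of_algebraMap_eq fun _ => rfl
  let φ : B →ₐ[A] F := { algebraMap B F with commutes' := fun _ => rfl }
  have hB : ∀ b, algebraMap B F b ∈ V := fun b => by
    obtain ⟨y, hy⟩ := IsIntegrallyClosed.isIntegral_iff.1
      (((Algebra.IsIntegral.isIntegral (R := A) b).map φ).tower_top (A := V))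
    exact (show algebraMap B F b = y from hy.symm) ▸ y.2
  let ι := (algebraMap B F).codRestrict V hB
  have hrV : ι r ∈ maximalIdeal V := fun hu => by
    have h1 : V.valuation ((⟨g π, hV.1 π⟩ : V) : F) < 1 := hV.2 π (hπ ▸ Ideal.mem_span_singleton_self π)
    rw [← ValuationSubring.valuation_lt_one_iff] at h1
    refine h1 ?_
    have : (⟨g π, hV.1 π⟩ : V) = ι r ^ n := by
      rw [← map_pow, hrn]; rfl
    rw [this]
    exact hu.pow n
  have hloc : IsLocalHom ι := ⟨fun b hb => by
    by_contra hnu
    obtain ⟨c, rfl⟩ := Ideal.mem_span_singleton.1 (hr ▸ hnu : b ∈ Ideal.span {r})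
    rw [map_mul] at hb
    exact hrV (isUnit_of_mul_isUnit_left hb)⟩
  refine ⟨hB, fun x => ?_, hloc⟩
  obtain ⟨b, hb⟩ | ⟨b, hb⟩ := ValuationRing.isInteger_or_isInteger B (x : F)
  · exact ⟨b, Subtype.ext hb⟩
  · rcases eq_or_ne (x : F) 0 with hx | hx
    · exact ⟨0, Subtype.ext (by simp [hx])⟩
    have hu : IsUnit (ι b) := isUnit_iff_exists_inv.2 ⟨x, Subtype.ext (by
      show algebraMap B F b * (x : F) = 1
      rw [hb, inv_mul_cancel₀ hx])⟩
    obtain ⟨c, hc⟩ := (hloc.map_nonunit b hu).exists_right_inv
    refine ⟨c, Subtype.ext ?_⟩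
    show algebraMap B F c = (x : F)
    have h1 := congrArg (algebraMap B F) hc
    rw [map_mul, map_one, hb, inv_mul_eq_iff_eq_mul₀ hx, mul_one] at h1
    exact h1

variable {A K L : Type u} [CommRing A] [IsDomain A] [IsDiscreteValuationRing A] [Field K] [Algebra A K]
  [IsFractionRing A K] [Field L] [Algebra K L] [Algebra A L] [IsScalarTower A K L] [FiniteDimensional K L]
  [Algebra.IsSeparable K L]

include K in
theorem exists_bound_of_tame (h : EtRam.IsTamelyRamified A (algebraMap A L)) :
    ∃ e₀ : ℕ, 0 < e₀ ∧ (e₀ : ResidueField A) ≠ 0 ∧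
      ∀ (V : ValuationSubring L) (hV : EtRam.Dominates A (algebraMap A L) V),
        letI : Algebra A V := ((algebraMap A L).codRestrict V hV.1).toAlgebra
        Ideal.ramificationIdx' (maximalIdeal A) (maximalIdeal V) ∣ e₀ := by
  classical
  haveI := (finite_dominating (A := A) (K := K) (L := L)).fintype
  let eV : {V : ValuationSubring L | EtRam.Dominates A (algebraMap A L) V} → ℕ := fun V =>
    letI : Algebra A V.1 := ((algebraMap A L).codRestrict V.1 V.2.1).toAlgebra
    Ideal.ramificationIdx' (maximalIdeal A) (maximalIdeal V.1)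
  have hinjA : Function.Injective (algebraMap A L) := by
    rw [IsScalarTower.algebraMap_eq A K L]
    exact (algebraMap K L).injective.comp (IsFractionRing.injective A K)
  have hne : ∀ V, (eV V : ResidueField A) ≠ 0 ∧ 0 < eV V := by
    rintro ⟨V, hV⟩
    have hV' : EtRam.Dominates A ((algebraMap K L).comp (algebraMap A K)) V := by
      rwa [← IsScalarTower.algebraMap_eq]
    haveI := isDiscreteValuationRing_of_dominates V hV'
    letI : Algebra A V := ((algebraMap A L).codRestrict V hV.1).toAlgebra
    haveI : IsLocalHom (algebraMap A V) := isLocalHom_of_dominates _ V hV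
    obtain ⟨π, hπ⟩ := IsDiscreteValuationRing.exists_irreducible A
    obtain ⟨ϖ, hϖ⟩ := IsDiscreteValuationRing.exists_irreducible V
    obtain ⟨u, -, he⟩ := DVR7.exists_eq_unit_mul_pow (A := A) (B := V)
      (fun a b e => hinjA (congrArg Subtype.val e)) hπ hϖ
    refine ⟨fun h0 => ?_, he⟩
    obtain ⟨p, hp⟩ := CharP.exists (ResidueField A)
    rcases CharP.char_is_prime_or_zero (ResidueField A) p with hpp | hpp
    · exact (h V hV).2 p hpp hp ((CharP.cast_eq_zero_iff _ p _).1 h0)
    · subst hpp
      haveI : CharZero (ResidueField A) := CharP.charP_to_charZero _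
      exact he.ne' (Nat.cast_eq_zero.1 h0)
  refine ⟨∏ V, eV V, Finset.prod_pos fun V _ => (hne V).2, ?_, fun V hV => Finset.dvd_prod_of_mem eV (Finset.mem_univ ⟨V, hV⟩)⟩
  rw [Nat.cast_prod]
  exact Finset.prod_ne_zero_iff.2 fun V _ => (hne V).1

set_option maxHeartbeats 1000000 in
/-- Unramifiedness after adjoining a root of order divisible by all ramification indices. -/
theorem exists_unramified_over_root (π : A) (hπ : maximalIdeal A = Ideal.span {π})
    (h : EtRam.IsTamelyRamified A (algebraMap A L)) (e : ℕ) (he0 : 0 < e) (he : (e : ResidueField A) ≠ 0)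
    (hdiv : ∀ (V : ValuationSubring L) (hV : EtRam.Dominates A (algebraMap A L) V),
        letI : Algebra A V := ((algebraMap A L).codRestrict V hV.1).toAlgebra
        Ideal.ramificationIdx' (maximalIdeal A) (maximalIdeal V) ∣ e) :
    ∃ (L' : Type u) (_ : Field L') (_ : Algebra K L')
      (_ : Algebra (AdjoinRoot (X ^ e - C π : A[X])) L') (_ : L →ₐ[K] L'),
      FiniteDimensional K L' ∧ Algebra.IsSeparable K L' ∧
      (algebraMap (AdjoinRoot (X ^ e - C π : A[X])) L').comp (AdjoinRoot.of (X ^ e - C π)) =
        (algebraMap K L').comp (algebraMap A K) ∧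
      ∀ [IsLocalRing (AdjoinRoot (X ^ e - C π : A[X]))],
        EtRam.IsUnramifiedExt (AdjoinRoot (X ^ e - C π : A[X]))
          (algebraMap (AdjoinRoot (X ^ e - C π : A[X])) L') := by
  classical
  have hπi : Irreducible π := (IsDiscreteValuationRing.irreducible_iff_uniformizer π).2 hπ
  obtain ⟨hdom, hdvr, hfinA, hinjA', hmaxA', hrn, hsplit⟩ := exists_kummerRing A π hπi e he0
  let f : A[X] := X ^ e - C π
  let A' := AdjoinRoot f
  let r : A' := AdjoinRoot.root f
  haveI : FaithfulSMul A A' := (faithfulSMul_iff_algebraMap_injective A A').2 hinjA'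
  let K' := FractionRing A'
  haveI : FaithfulSMul A K' := (faithfulSMul_iff_algebraMap_injective A K').2 (by
    rw [IsScalarTower.algebraMap_eq A A' K']
    exact (IsFractionRing.injective A' K').comp hinjA')
  letI : Algebra K K' := (IsFractionRing.lift (A := A) (K := K) (g := algebraMap A K')
    (FaithfulSMul.algebraMap_injective A K')).toAlgebra
  haveI : IsScalarTower A K K' := IsScalarTower.of_algebraMap_eq fun a =>
    (IsFractionRing.lift_algebraMap (FaithfulSMul.algebraMap_injective A K') a).symm
  let ρ : K' := algebraMap A' K' r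
  have hρ : ρ ^ e = algebraMap K K' (algebraMap A K π) := by
    rw [← IsScalarTower.algebraMap_apply A K K', IsScalarTower.algebraMap_apply A A' K', ← hrn]
    exact (map_pow (algebraMap A' K') r e).symm
  have heA : IsUnit (e : A) := by
    by_contra hu
    exact he (by rw [← map_natCast (residue A)]; exact (residue_eq_zero_iff _).2 hu)
  have hesep : IsSeparable K ρ := by
    have hmonic : (X ^ e - C (algebraMap A K π) : K[X]).Monic := monic_X_pow_sub_C _ he0.ne'
    have hsep : (X ^ e - C (algebraMap A K π) : K[X]).Separable :=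
      separable_X_pow_sub_C _ (by simpa using ((heA.map (algebraMap A K)).ne_zero))
        (IsFractionRing.to_map_ne_zero_of_mem_nonZeroDivisors (mem_nonZeroDivisors_of_ne_zero hπi.ne_zero))
    exact hsep.of_dvd (minpoly.dvd K ρ (by simp [hρ]))
  have htop : IntermediateField.adjoin K {ρ} = ⊤ := by
    refine top_le_iff.1 fun x _ => ?_
    have hmem : ∀ b : A', algebraMap A' K' b ∈ IntermediateField.adjoin K {ρ} := fun b => by
      obtain ⟨p, rfl⟩ := AdjoinRoot.mk_surjective b
      induction p using Polynomial.induction_on' with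
      | add p q hp hq => rw [map_add, map_add]; exact add_mem hp hq
      | monomial n c =>
        rw [← C_mul_X_pow_eq_monomial, map_mul, map_pow, AdjoinRoot.mk_C, AdjoinRoot.mk_X, map_mul, map_pow]
        refine mul_mem ?_ (pow_mem (IntermediateField.mem_adjoin_simple_self K ρ) n)
        rw [show algebraMap A' K' (AdjoinRoot.of f c) = algebraMap K K' (algebraMap A K c) by
          rw [← IsScalarTower.algebraMap_apply A K K', IsScalarTower.algebraMap_apply A A' K']; rfl]
        exact IntermediateField.algebraMap_mem _ _
    obtain ⟨a, b, -, rfl⟩ := IsFractionRing.div_surjective (A := A') x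
    exact div_mem (hmem a) (hmem b)
  haveI : FiniteDimensional K K' := by
    haveI := IntermediateField.adjoin.finiteDimensional hesep.isIntegral
    rw [htop] at this
    exact Module.Finite.equiv (IntermediateField.topEquiv (F := K) (E := K')).toLinearEquiv
  haveI : Algebra.IsSeparable K K' := by
    haveI := (IntermediateField.isSeparable_adjoin_simple_iff_isSeparable K K').2 hesep
    rw [htop] at this
    exact Algebra.IsSeparable.of_algHom K _ (IntermediateField.topEquiv (F := K) (E := K')).symm.toAlgHom
  obtain ⟨Q, hQ⟩ := Ideal.exists_maximal (L ⊗[K] K')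
  let L' := (L ⊗[K] K') ⧸ Q
  letI : Field L' := Ideal.Quotient.field Q
  letI : Algebra K' L' := ((Ideal.Quotient.mk Q).comp
    (Algebra.TensorProduct.includeRight : K' →ₐ[K] L ⊗[K] K').toRingHom).toAlgebra
  haveI : IsScalarTower K K' L' := IsScalarTower.of_algebraMap_eq fun c =>
    congrArg (Ideal.Quotient.mk Q) ((Algebra.TensorProduct.includeRight : K' →ₐ[K] L ⊗[K] K').commutes c).symm
  haveI : Module.Finite K L' := Module.Finite.of_surjective (Ideal.Quotient.mkₐ K Q).toLinearMap Ideal.Quotient.mk_surjective
  let iL : L →ₐ[K] L' := (Ideal.Quotient.mkₐ K Q).comp Algebra.TensorProduct.includeLeft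
  let iK : K' →ₐ[K] L' := (Ideal.Quotient.mkₐ K Q).comp Algebra.TensorProduct.includeRight
  haveI hsepL' : Algebra.IsSeparable K L' := by
    refine ⟨fun z => ?_⟩
    obtain ⟨z, rfl⟩ := Ideal.Quotient.mk_surjective z
    rw [← mem_separableClosure_iff]
    induction z using TensorProduct.induction_on with
    | zero => rw [map_zero]; exact zero_mem _
    | add a b ha hb => rw [map_add]; exact add_mem ha hb
    | tmul l c =>
      rw [show l ⊗ₜ[K] c = (l ⊗ₜ[K] (1 : K')) * ((1 : L) ⊗ₜ[K] c) by simp, map_mul]
      refine mul_mem (mem_separableClosure_iff.2 ?_) (mem_separableClosure_iff.2 ?_)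
      · show IsSeparable K (iL l)
        rw [IsSeparable, minpoly.algHom_eq iL iL.toRingHom.injective]
        exact Algebra.IsSeparable.isSeparable K l
      · show IsSeparable K (iK c)
        rw [IsSeparable, minpoly.algHom_eq iK iK.toRingHom.injective]
        exact Algebra.IsSeparable.isSeparable K c
  letI : Algebra A' L' := ((algebraMap K' L').comp (algebraMap A' K')).toAlgebra
  haveI : IsScalarTower A' K' L' := IsScalarTower.of_algebraMap_eq fun _ => rfl
  have hcompat : (algebraMap A' L').comp (AdjoinRoot.of f) = (algebraMap K L').comp (algebraMap A K) := by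
    ext a
    show algebraMap K' L' (algebraMap A' K' (algebraMap A A' a)) = algebraMap K L' (algebraMap A K a)
    rw [← IsScalarTower.algebraMap_apply A A' K', IsScalarTower.algebraMap_apply A K K',
      ← IsScalarTower.algebraMap_apply K K' L']
  refine ⟨L', inferInstance, inferInstance, inferInstance, iL, inferInstance, hsepL', hcompat, ?_⟩
  intro _ W hW
  letI : Algebra A' W := ((algebraMap A' L').codRestrict W hW.1).toAlgebra
  intro hlocW
  have hgen : Algebra.adjoin L (Set.range (algebraMap K' L')) = ⊤ := by
    refine top_le_iff.1 fun z _ => ?_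
    obtain ⟨z, rfl⟩ := Ideal.Quotient.mk_surjective z
    induction z using TensorProduct.induction_on with
    | zero => rw [map_zero]; exact zero_mem _
    | add a b ha hb => rw [map_add]; exact add_mem (ha trivial) (hb trivial)
    | tmul l c =>
      rw [show l ⊗ₜ[K] c = (l ⊗ₜ[K] (1 : K')) * ((1 : L) ⊗ₜ[K] c) by simp, map_mul]
      exact mul_mem (Subalgebra.algebraMap_mem _ l) (Algebra.subset_adjoin ⟨c, rfl⟩)
  have hAA' : ∀ a ∈ maximalIdeal A, algebraMap A A' a ∈ maximalIdeal A' := fun a ha => by
    rw [hmaxA', Ideal.mem_span_singleton]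
    obtain ⟨c, rfl⟩ := Ideal.mem_span_singleton.1 (hπ ▸ ha)
    rw [map_mul, ← hrn]
    exact (dvd_pow_self _ he0.ne').mul_right _
  let gA : A →+* L' := (algebraMap A' L').comp (algebraMap A A')
  have hgA : gA = (algebraMap L L').comp (algebraMap A L) := by
    rw [show gA = (algebraMap K L').comp (algebraMap A K) from hcompat, IsScalarTower.algebraMap_eq A K L,
      ← RingHom.comp_assoc, ← IsScalarTower.algebraMap_eq K L L']
  have hdomA : EtRam.Dominates A gA W := ⟨fun a => hW.1 _, fun a ha => hW.2 _ (hAA' a ha)⟩
  let V := W.comap (algebraMap L L')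
  have hV : EtRam.Dominates A (algebraMap A L) V := dominates_comap _ _ W (hgA ▸ hdomA)
  have hV' : EtRam.Dominates A ((algebraMap K L).comp (algebraMap A K)) V := by
    rwa [← IsScalarTower.algebraMap_eq]
  haveI := isDiscreteValuationRing_of_dominates V hV'
  letI : Algebra A V := ((algebraMap A L).codRestrict V hV.1).toAlgebra
  haveI : IsScalarTower A V L := IsScalarTower.of_algebraMap_eq fun _ => rfl
  haveI hlocV : IsLocalHom (algebraMap A V) := isLocalHom_of_dominates _ V hV
  have hinjV : Function.Injective (algebraMap A V) := fun a b he' =>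
    IsFractionRing.injective A K ((algebraMap K L).injective (by
      rw [← IsScalarTower.algebraMap_apply A K L, ← IsScalarTower.algebraMap_apply A K L]
      exact congrArg Subtype.val he'))
  haveI : IsFractionRing V L := inferInstance
  obtain ⟨htame1, htame2⟩ := h V hV
  have heV := hdiv V hV
  haveI : Algebra.IsGeometricallyReduced (ResidueField A) (ResidueField V) :=
    haveI := finite_residueField_of_dominates (A := A) (K := K) V
    haveI := htame1
    haveI : Algebra.FormallyUnramified (ResidueField A) (ResidueField V) :=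
      (Algebra.FormallyUnramified.iff_isSeparable _ _).2 htame1
    SmoothingLib.GeomDiff.isGeometricallyReduced_of_formallyUnramified _ _
  have heV0 : IsUnit ((Ideal.ramificationIdx' (maximalIdeal A) (maximalIdeal V) : ℕ) : ResidueField A) := by
    refine isUnit_iff_ne_zero.2 fun h0 => he ?_
    obtain ⟨d, hd⟩ := heV
    rw [hd, Nat.cast_mul, h0, zero_mul]
  let fK : K' →+* L' := algebraMap K' L'
  have hVdom : EtRam.Dominates V ((algebraMap L L').comp (algebraMap V L)) W := dominates_self_comap (algebraMap L L') W
  have hA' : ∀ a : A, (algebraMap K K') (algebraMap A K a) ∈ W.comap fK := fun a => by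
    show fK _ ∈ W
    rw [show fK (algebraMap K K' (algebraMap A K a)) = algebraMap K L' (algebraMap A K a) from
      (IsScalarTower.algebraMap_apply K K' L' _).symm, show algebraMap K L' (algebraMap A K a) = gA a from
      (RingHom.congr_fun hcompat a).symm]
    exact hdomA.1 a
  have habh := abhyankar A V K L hinjV heV0 K' L' hgen W hVdom hA'
  have hU : EtRam.Dominates A ((algebraMap A' K').comp (algebraMap A A')) (W.comap fK) := by
    refine dominates_comap _ fK W ?_
    show EtRam.Dominates A gA W
    exact hdomA
  obtain ⟨hUmem, hUsurj, hUloc⟩ := kummer_maximalIdeal π hπ r e he0 hmaxA' hrn (W.comap fK) hU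
  let U := W.comap fK
  let ι : A' →+* U := (algebraMap A' K').codRestrict U hUmem
  haveI : IsLocalHom ι := hUloc
  letI : Algebra A U := (((algebraMap K K').comp (algebraMap A K)).codRestrict U hA').toAlgebra
  letI : Algebra U W := (EtRam.inclOfComap W fK).toAlgebra
  have hrm : r ∈ maximalIdeal A' := by rw [hmaxA']; exact Ideal.mem_span_singleton_self r
  have hmU : maximalIdeal U = Ideal.span {ι r} := by
    refine le_antisymm (fun x hx => ?_) ((Ideal.span_singleton_le_iff_mem _).2 (map_nonunit ι r hrm))
    obtain ⟨b, rfl⟩ := hUsurj x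
    have hb : b ∈ maximalIdeal A' := fun hu => hx (hu.map ι)
    rw [hmaxA', Ideal.mem_span_singleton] at hb
    obtain ⟨c, rfl⟩ := hb
    rw [show (algebraMap A' K').codRestrict U hUmem = ι from rfl, map_mul]
    exact Ideal.mul_mem_right _ _ (Ideal.mem_span_singleton_self _)
  haveI hUdvr : IsDiscreteValuationRing U :=
    isDiscreteValuationRing_of_dominates_finite U (show EtRam.Dominates A ((algebraMap K K').comp (algebraMap A K)) U from
      ⟨hA', fun a ha => by
        have := hU.2 a ha
        rwa [RingHom.comp_apply, ← IsScalarTower.algebraMap_apply A A' K', IsScalarTower.algebraMap_apply A K K'] at this⟩)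
  have hιπ : algebraMap A U π = ι r ^ e := by
    refine Subtype.ext ?_
    show algebraMap K K' (algebraMap A K π) = ((ι r ^ e : U) : K')
    rw [← hρ]; rfl
  have heU : Ideal.ramificationIdx' (maximalIdeal A) (maximalIdeal U) = e := by
    have hri : Irreducible (ι r) := (IsDiscreteValuationRing.irreducible_iff_uniformizer _).2 hmU
    refine Ideal.ramificationIdx'_spec ?_ ?_
    · rw [hπ, Ideal.map_span, Set.image_singleton, hιπ, hmU, Ideal.span_singleton_pow]
    · rw [hπ, Ideal.map_span, Set.image_singleton, hιπ, hmU, Ideal.span_singleton_pow,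
        Ideal.span_singleton_le_span_singleton, pow_dvd_pow_iff hri.ne_zero hri.1]
      omega
  obtain ⟨hweak, hgr⟩ := habh (heU.symm ▸ heV)
  have hfac : ∀ b, algebraMap A' W b = EtRam.inclOfComap W fK (ι b) := fun b => Subtype.ext rfl
  refine ⟨?_, ?_⟩
  · unfold EtRam.IsWeaklyUnramified at hweak ⊢
    rw [hmU, Ideal.map_span, Set.image_singleton] at hweak
    rw [hmaxA', Ideal.map_span, Set.image_singleton, hfac, ← hweak]
    rfl
  · letI : Algebra A' U := ι.toAlgebra
    haveI : IsLocalHom (algebraMap A' U) := hUloc
    haveI : IsScalarTower A' U W := IsScalarTower.of_algebraMap_eq hfac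
    haveI : IsLocalHom (algebraMap U W) := EtRam.isLocalHom_inclOfComap W fK
    haveI : IsScalarTower (ResidueField A') (ResidueField U) (ResidueField W) := IsScalarTower.of_algebraMap_eq fun x => by
      obtain ⟨b, rfl⟩ := residue_surjective x
      exact congrArg (residue W) (hfac b)
    haveI : Algebra.IsSeparable (ResidueField A') (ResidueField U) := ⟨fun y => by
      obtain ⟨y, rfl⟩ := residue_surjective y
      obtain ⟨b, rfl⟩ := hUsurj y
      exact isSeparable_algebraMap (residue A' b)⟩
    haveI : Module.Finite K' L' := Module.Finite.of_restrictScalars_finite K K' L'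
    haveI := isDiscreteValuationRing_of_dominates_finite (A := A') (K := K') W hW
    haveI : IsScalarTower A' W L' := IsScalarTower.of_algebraMap_eq fun _ => rfl
    haveI := finite_residueField_of_dominates (A := A') (K := K') W
    haveI : Module.Finite (ResidueField U) (ResidueField W) :=
      Module.Finite.of_restrictScalars_finite (ResidueField A') (ResidueField U) (ResidueField W)
    haveI : Algebra.IsGeometricallyReduced (ResidueField U) (ResidueField W) := by
      convert hgr using 1
      exact Algebra.algebra_ext _ _ fun c => by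
        obtain ⟨c, rfl⟩ := residue_surjective c
        rfl
    haveI : Algebra.IsSeparable (ResidueField U) (ResidueField W) := isSeparable_of_isGeometricallyReduced
    exact Algebra.IsSeparable.trans (ResidueField A') (ResidueField U) (ResidueField W)

set_option maxHeartbeats 1000000 in
/-- Unramified over the Kummer ring of invertible order implies tame. -/
theorem isTamelyRamified_of_unramified_over_root (π : A) (hπ : maximalIdeal A = Ideal.span {π})
    (e : ℕ) (he0 : 0 < e) (he : (e : ResidueField A) ≠ 0)
    (L' : Type u) [Field L'] [Algebra K L'] [Algebra (AdjoinRoot (X ^ e - C π : A[X])) L'] (i : L →ₐ[K] L')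
    [FiniteDimensional K L'] [Algebra.IsSeparable K L']
    (hcompat : (algebraMap (AdjoinRoot (X ^ e - C π : A[X])) L').comp (AdjoinRoot.of (X ^ e - C π)) =
        (algebraMap K L').comp (algebraMap A K))
    (hu : ∀ [IsLocalRing (AdjoinRoot (X ^ e - C π : A[X]))],
        EtRam.IsUnramifiedExt (AdjoinRoot (X ^ e - C π : A[X]))
          (algebraMap (AdjoinRoot (X ^ e - C π : A[X])) L')) :
    EtRam.IsTamelyRamified A (algebraMap A L) := by
  classical
  have hπi : Irreducible π := (IsDiscreteValuationRing.irreducible_iff_uniformizer π).2 hπ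
  obtain ⟨hdom, hdvr, hfinA, hinjA', hmaxA', hrn, hsplit⟩ := exists_kummerRing A π hπi e he0
  let f : A[X] := X ^ e - C π
  let A' := AdjoinRoot f
  let r : A' := AdjoinRoot.root f
  letI : Algebra L L' := i.toRingHom.toAlgebra
  haveI : IsScalarTower K L L' := IsScalarTower.of_algebraMap_eq fun c => (i.commutes c).symm
  rw [IsScalarTower.algebraMap_eq A K L]
  refine (S1989.result A K L L').1 ?_
  intro W hW
  letI : Algebra A W := (((algebraMap K L').comp (algebraMap A K)).codRestrict W hW.1).toAlgebra
  intro hlocAW
  haveI := isDiscreteValuationRing_of_dominates W hW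
  letI : Algebra A L' := ((algebraMap K L').comp (algebraMap A K)).toAlgebra
  haveI : IsScalarTower A W L' := IsScalarTower.of_algebraMap_eq fun _ => rfl
  let φ : A' →ₐ[A] L' := { algebraMap A' L' with commutes' := fun a => RingHom.congr_fun hcompat a }
  have hinjL : Function.Injective (algebraMap A L') :=
    (algebraMap K L').injective.comp (IsFractionRing.injective A K)
  have hmem : ∀ b : A', algebraMap A' L' b ∈ W := fun b => by
    obtain ⟨y, hy⟩ := IsIntegrallyClosed.isIntegral_iff.1
      (((Algebra.IsIntegral.isIntegral (R := A) b).map φ).tower_top (A := W))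
    exact (show algebraMap A' L' b = y from hy.symm) ▸ y.2
  let ι : A' →+* W := (algebraMap A' L').codRestrict W hmem
  letI : Algebra A' W := ι.toAlgebra
  haveI : IsScalarTower A A' W := IsScalarTower.of_algebraMap_eq fun a => Subtype.ext (RingHom.congr_fun hcompat a).symm
  have hrW : ι r ∈ maximalIdeal W := fun hu' => map_nonunit (algebraMap A W) π hπi.1 (by
    rw [IsScalarTower.algebraMap_apply A A' W π, ← hrn, map_pow]
    exact hu'.pow e)
  haveI hloc : IsLocalHom ι := ⟨fun b hb => by
    by_contra hnu
    have hb' : b ∈ maximalIdeal A' := hnu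
    rw [hmaxA', Ideal.mem_span_singleton] at hb'
    obtain ⟨c, rfl⟩ := hb'
    rw [map_mul] at hb
    exact hrW (isUnit_of_mul_isUnit_left hb)⟩
  haveI : IsLocalHom (algebraMap A' W) := hloc
  have hrm : r ∈ maximalIdeal A' := by rw [hmaxA']; exact Ideal.mem_span_singleton_self r
  haveI : IsLocalHom (algebraMap A A') := ⟨fun a ha => by
    by_contra hnu
    have h1 : algebraMap A W a ∈ maximalIdeal W := map_nonunit (algebraMap A W) a hnu
    rw [IsScalarTower.algebraMap_apply A A' W] at h1
    exact h1 (ha.map _)⟩
  have hdom' : EtRam.Dominates A' (algebraMap A' L') W := ⟨hmem, fun b hb => by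
    show W.valuation ((ι b : W) : L') < 1
    rw [← ValuationSubring.valuation_lt_one_iff]
    exact map_nonunit ι b hb⟩
  obtain ⟨h1, h2⟩ := hu W hdom'
  have hinjA'W : Function.Injective (algebraMap A' W) := by
    rw [injective_iff_map_eq_zero]
    intro b hb
    by_contra hb0
    obtain ⟨a, ha0, c, hc⟩ := (Algebra.IsIntegral.isIntegral (R := A) b).isAlgebraic.exists_nonzero_dvd
      (mem_nonZeroDivisors_of_ne_zero hb0)
    have h3 := congrArg (algebraMap A' W) hc
    rw [map_mul, hb, zero_mul, ← IsScalarTower.algebraMap_apply] at h3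
    exact ha0 (hinjL ((congrArg Subtype.val h3).trans (map_zero _).symm))
  haveI : IsScalarTower (ResidueField A) (ResidueField A') (ResidueField W) := IsScalarTower.of_algebraMap_eq fun x => by
    obtain ⟨a, rfl⟩ := residue_surjective x
    exact congrArg (residue W) (IsScalarTower.algebraMap_apply A A' W a)
  haveI : Algebra.IsSeparable (ResidueField A) (ResidueField A') := ⟨fun y => by
    obtain ⟨y, rfl⟩ := residue_surjective y
    obtain ⟨a, b', rfl⟩ := hsplit y
    rw [map_add, map_mul, (residue_eq_zero_iff _).2 hrm, zero_mul, add_zero]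
    exact isSeparable_algebraMap (residue A a)⟩
  haveI := h2
  refine ⟨Algebra.IsSeparable.trans (ResidueField A) (ResidueField A') (ResidueField W), fun p hp hc hd => he ?_⟩
  rw [ramificationIdx'_mul (A := A) (B := A') (C := W) hinjA' hinjA'W, ramificationIdx'_eq_one h1, mul_one] at hd
  have hee : Ideal.ramificationIdx' (maximalIdeal A) (maximalIdeal A') = e := by
    have hri : Irreducible r := (IsDiscreteValuationRing.irreducible_iff_uniformizer _).2 hmaxA'
    refine Ideal.ramificationIdx'_spec ?_ ?_
    · rw [hπ, Ideal.map_span, Set.image_singleton, ← hrn, hmaxA', Ideal.span_singleton_pow]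
    · rw [hπ, Ideal.map_span, Set.image_singleton, ← hrn, hmaxA', Ideal.span_singleton_pow,
        Ideal.span_singleton_le_span_singleton, pow_dvd_pow_iff hri.ne_zero hri.1]
      omega
  exact (CharP.cast_eq_zero_iff _ p _).2 (hee ▸ hd)

end Groth.Agent.EtRam7
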