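import Groth.Prelude.Def_EtRam
import Mathlib

/-! Unramified extensions of DVRs: unramifiedness of the integral closure and base change. -/

set_option autoImplicit false
set_option linter.style.haveILetI false
universe u

namespace Groth.Agent.EtRam7

open IsLocalRing

/-- The integral closure of a DVR in an unramified extension is formally unramified. -/
theorem formallyUnramified_integralClosure (A K K' : Type u) [CommRing A] [IsDomain A] [IsDiscreteValuationRing A]
    [Field K] [Field K'] [Algebra A K] [IsFractionRing A K] [Algebra K K'] [Algebra A K'] [IsScalarTower A K K']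
    [FiniteDimensional K K'] [Algebra.IsSeparable K K'] (h : EtRam.IsUnramifiedExt A (algebraMap A K')) :
    Algebra.FormallyUnramified A (integralClosure A K') := by
  let A' := integralClosure A K'
  haveI : Module.Finite A A' := IsIntegralClosure.finite A K K' A'
  haveI : IsFractionRing A' K' := IsIntegralClosure.isFractionRing_of_finite_extension A K K' A'
  haveI : IsDedekindDomain A' := integralClosure.isDedekindDomain A K K'
  refine Algebra.formallyUnramified_iff_forall.2 fun 𝔫 => ?_
  by_cases h0 : 𝔫.asIdeal = ⊥
  · haveI : IsLocalization 𝔫.asIdeal.primeCompl K' := by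
      have hs : 𝔫.asIdeal.primeCompl = nonZeroDivisors A' := by
        ext x
        rw [Ideal.mem_primeCompl_iff, h0, Ideal.mem_bot, mem_nonZeroDivisors_iff_ne_zero]
      rw [hs]
      infer_instance
    haveI : Algebra.FormallyUnramified A K := Algebra.FormallyUnramified.of_isLocalization (Rₘ := K) (nonZeroDivisors A)
    haveI : Algebra.FormallyUnramified K K' := (Algebra.FormallyUnramified.iff_isSeparable K K').2 inferInstance
    haveI : Algebra.FormallyUnramified A K' := Algebra.FormallyUnramified.comp A K K'
    exact Algebra.FormallyUnramified.of_equiv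
      (((IsLocalization.algEquiv 𝔫.asIdeal.primeCompl (Localization.AtPrime 𝔫.asIdeal) K').restrictScalars A).symm)
  let R := Localization.AtPrime 𝔫.asIdeal
  haveI : IsDiscreteValuationRing R := IsLocalization.AtPrime.isDiscreteValuationRing_of_dedekind_domain A' h0 R
  haveI : 𝔫.asIdeal.IsMaximal := 𝔫.2.isMaximal h0
  haveI : (𝔫.asIdeal.under A).IsMaximal := Ideal.IsMaximal.under A _
  haveI : IsLocalHom (algebraMap A R) := by
    refine ((IsLocalRing.local_hom_TFAE _).out 0 4).2 ?_
    rw [IsScalarTower.algebraMap_eq A A' R, ← Ideal.comap_comap, show (maximalIdeal R).comap (algebraMap A' R) = 𝔫.asIdeal from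
      IsLocalization.AtPrime.under_maximalIdeal R 𝔫.asIdeal]
    exact IsLocalRing.eq_maximalIdeal ‹_›
  have hle : 𝔫.asIdeal.primeCompl ≤ nonZeroDivisors A' := Ideal.primeCompl_le_nonZeroDivisors _
  letI : Algebra R K' := (IsLocalization.lift (M := 𝔫.asIdeal.primeCompl) (S := R)
    (g := algebraMap A' K') fun y => IsLocalization.map_units K' (⟨y, hle y.2⟩ : nonZeroDivisors A')).toAlgebra
  haveI : IsScalarTower A' R K' := IsScalarTower.of_algebraMap_eq fun x => (IsLocalization.lift_eq _ x).symm
  haveI : IsFractionRing R K' := IsFractionRing.isFractionRing_of_isDomain_of_isLocalization 𝔫.asIdeal.primeCompl R K'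
  haveI : IsScalarTower A R K' := IsScalarTower.of_algebraMap_eq fun x => by
    rw [IsScalarTower.algebraMap_apply A A' R, ← IsScalarTower.algebraMap_apply A' R K',
      ← IsScalarTower.algebraMap_apply]
  let V : ValuationSubring K' := ValuationSubring.ofSubring (algebraMap R K').range fun x => by
    rcases ValuationRing.isInteger_or_isInteger R x with ⟨r, hr⟩ | ⟨r, hr⟩
    · exact Or.inl ⟨r, hr⟩
    · exact Or.inr ⟨r, hr⟩
  let e : R ≃+* V := RingEquiv.ofBijective ((algebraMap R K').codRestrict V fun r => ⟨r, rfl⟩)
    ⟨fun a b hab => IsFractionRing.injective R K' (congrArg Subtype.val hab),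
      fun ⟨_, r, hr⟩ => ⟨r, Subtype.ext hr⟩⟩
  have hdom : EtRam.Dominates A (algebraMap A K') V := by
    have hv : ∀ a : A, algebraMap A K' a ∈ V := fun a =>
      ⟨algebraMap A R a, (IsScalarTower.algebraMap_apply A R K' a).symm⟩
    refine ⟨hv, fun a ha => ?_⟩
    show V.valuation ((⟨algebraMap A K' a, hv a⟩ : V) : K') < 1
    rw [← ValuationSubring.valuation_lt_one_iff]
    have h1 : algebraMap A R a ∈ maximalIdeal R := map_nonunit (algebraMap A R) a ha
    have he : e (algebraMap A R a) = ⟨algebraMap A K' a, hv a⟩ :=
      Subtype.ext (IsScalarTower.algebraMap_apply A R K' a).symm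
    rw [← he]
    exact fun hu => h1 (isUnit_map_iff e _ |>.1 hu)
  letI : Algebra A V := ((algebraMap A K').codRestrict V hdom.1).toAlgebra
  have hcomm : e.toRingHom.comp (algebraMap A R) = algebraMap A V :=
    RingHom.ext fun a => Subtype.ext (IsScalarTower.algebraMap_apply A R K' a).symm
  haveI : IsLocalHom (algebraMap A V) := by
    rw [← hcomm]
    haveI : IsLocalHom e.toRingHom := ⟨fun x hx => (isUnit_map_iff e x).1 hx⟩
    infer_instance
  obtain ⟨hw, hsep⟩ := h V hdom
  haveI : Algebra.EssFiniteType A R := Algebra.EssFiniteType.comp A A' R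
  refine (Algebra.FormallyUnramified.iff_map_maximalIdeal_eq (R := A) (S := R)).2 ⟨?_, ?_⟩
  · refine Algebra.IsSeparable.of_equiv_equiv (A₁ := ResidueField A) (B₁ := ResidueField V) (RingEquiv.refl _)
      (IsLocalRing.ResidueField.mapEquiv e.symm) ?_
    refine RingHom.ext fun x => ?_
    obtain ⟨a, rfl⟩ := residue_surjective x
    show residue R (algebraMap A R a) = residue R (e.symm (algebraMap A V a))
    rw [← hcomm, RingHom.comp_apply]
    congr 1
    exact (e.symm_apply_apply _).symm
  · have hm : ∀ x : R, x ∈ maximalIdeal R ↔ e x ∈ maximalIdeal V := fun x =>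
      not_congr (isUnit_map_iff e x).symm
    have hcm : ∀ J : Ideal R, (J.map e.toRingHom).comap e.toRingHom = J := fun J => by
      exact Ideal.comap_map_of_bijective e.toRingHom e.bijective
    rw [← hcm ((maximalIdeal A).map (algebraMap A R)), Ideal.map_map, hcomm, hw]
    ext x
    exact (hm x).symm

end Groth.Agent.EtRam7
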