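import Mathlib

/-! An algebraic geometrically reduced field extension is separable. -/

set_option autoImplicit false
set_option linter.style.haveILetI false
universe u

namespace Groth.Agent.EtRam7

open TensorProduct Polynomial

theorem isSeparable_of_isReduced_tensor {F E Ω : Type u} [Field F] [Field E] [Algebra F E]
    [Algebra.IsAlgebraic F E] [Field Ω] [IsAlgClosed Ω] [Algebra F Ω] [IsReduced (Ω ⊗[F] E)] :
    Algebra.IsSeparable F E := by
  obtain ⟨p, hp⟩ := CharP.exists F
  rcases CharP.char_is_prime_or_zero F p with hpp | hpp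
  swap
  · subst hpp
    haveI : CharZero F := CharP.charP_to_charZero F
    infer_instance
  haveI := Fact.mk hpp
  refine ⟨fun x => ?_⟩
  have hx : IsIntegral F x := Algebra.IsIntegral.isIntegral x
  by_contra hns
  obtain ⟨h, -, hg⟩ : ∃ g : F[X], Irreducible g ∧ expand F p g = minpoly F x :=
    ((separable_or p (minpoly.irreducible hx)).resolve_left hns).2
  have hdeg : (minpoly F x).natDegree = h.natDegree * p := by rw [← hg, natDegree_expand]
  have hpos : 0 < h.natDegree := by
    by_contra h0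
    rw [not_lt, Nat.le_zero] at h0
    rw [h0, zero_mul] at hdeg
    exact (minpoly.natDegree_pos hx).ne' hdeg
  haveI : CharP (Ω ⊗[F] E) p := charP_of_injective_algebraMap (algebraMap F (Ω ⊗[F] E)).injective p
  have hr : ∀ c : F, ∃ r : Ω, r ^ p = algebraMap F Ω c := fun c =>
    IsAlgClosed.exists_pow_nat_eq _ hpp.pos
  choose r hr using hr
  let y : Ω ⊗[F] E := ∑ i ∈ Finset.range (h.natDegree + 1), r (h.coeff i) ⊗ₜ[F] (x ^ i)
  have hy : y ^ p = 0 := by
    have : ∀ i, (r (h.coeff i) ⊗ₜ[F] (x ^ i)) ^ p = (1 : Ω) ⊗ₜ[F] (h.coeff i • (x ^ p) ^ i) := fun i => by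
      rw [Algebra.TensorProduct.tmul_pow]
      rw [hr, ← pow_mul, mul_comm, pow_mul, Algebra.algebraMap_eq_smul_one]
      exact TensorProduct.smul_tmul _ _ _
    rw [show y = ∑ i ∈ Finset.range (h.natDegree + 1), r (h.coeff i) ⊗ₜ[F] (x ^ i) from rfl, sum_pow_char]
    simp only [this]
    rw [← TensorProduct.tmul_sum]
    have h0 : aeval (x ^ p) h = 0 := by rw [← expand_aeval, hg, minpoly.aeval]
    rw [aeval_eq_sum_range] at h0
    rw [h0, TensorProduct.tmul_zero]
  have hy0 : y = 0 := IsReduced.eq_zero _ ⟨p, hy⟩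
  have hli := linearIndependent_pow (K := F) (S := E) x
  have hlt : h.natDegree < (minpoly F x).natDegree := by
    rw [hdeg]; exact lt_mul_of_one_lt_right hpos hpp.one_lt
  obtain ⟨φ, hφ⟩ := LinearMap.exists_extend
    ((Finsupp.lapply (⟨h.natDegree, hlt⟩ : Fin (minpoly F x).natDegree)).comp hli.repr)
  have hφi : ∀ i : Fin (minpoly F x).natDegree, φ (x ^ (i : ℕ)) = if (i : ℕ) = h.natDegree then 1 else 0 := by
    intro i
    have h1 := LinearMap.congr_fun hφ ⟨x ^ (i : ℕ), Submodule.subset_span ⟨i, rfl⟩⟩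
    simp only [LinearMap.comp_apply, Submodule.subtype_apply, Finsupp.lapply_apply] at h1
    rw [h1, hli.repr_eq_single i _ rfl, Finsupp.single_apply]
    simp [Fin.ext_iff]
  let Φ : Ω ⊗[F] E →ₗ[F] Ω := (TensorProduct.rid F Ω).toLinearMap.comp (φ.lTensor Ω)
  have hΦ : ∀ (a : Ω) (e : E), Φ (a ⊗ₜ[F] e) = φ e • a := fun a e => by simp [Φ]
  have h2 : Φ y = r (h.coeff h.natDegree) := by
    show Φ (∑ i ∈ Finset.range (h.natDegree + 1), r (h.coeff i) ⊗ₜ[F] (x ^ i)) = _
    rw [map_sum, Finset.sum_eq_single h.natDegree]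
    · rw [hΦ]; rw [hφi ⟨h.natDegree, hlt⟩, if_pos rfl, one_smul]
    · intro i hi hne
      have hi' : i < (minpoly F x).natDegree := lt_of_le_of_lt (Nat.lt_succ_iff.1 (Finset.mem_range.1 hi)) hlt
      rw [hΦ]; rw [hφi ⟨i, hi'⟩, if_neg hne, zero_smul]
    · exact fun hn => absurd (Finset.self_mem_range_succ _) hn
  rw [hy0, map_zero, eq_comm] at h2
  have h3 := hr (h.coeff h.natDegree)
  rw [h2, zero_pow hpp.ne_zero, eq_comm, map_eq_zero, ← leadingCoeff, leadingCoeff_eq_zero] at h3
  rw [h3, natDegree_zero] at hpos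
  exact lt_irrefl 0 hpos

theorem isSeparable_of_isGeometricallyReduced {F E : Type u} [Field F] [Field E] [Algebra F E]
    [Algebra.IsAlgebraic F E] [Algebra.IsGeometricallyReduced F E] : Algebra.IsSeparable F E :=
  haveI := (Algebra.isGeometricallyReduced_field_iff F E).1 inferInstance
  isSeparable_of_isReduced_tensor (Ω := AlgebraicClosure F)

end Groth.Agent.EtRam7
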