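import Groth.Agent.HenzFib7.Basic
import Mathlib

/-! Kummer algebras `R[X]/(X^e - c)` of order invertible in `R`. -/

set_option autoImplicit false
set_option linter.style.haveILetI false
universe u

namespace Groth.Agent.EtRam7

open Polynomial TensorProduct

/-- `R[X]/(X^e-c)` is reduced for `R` reduced and `e`, `c` units. -/
theorem isReduced_adjoinRoot_X_pow_sub_C {R : Type u} [CommRing R] [IsReduced R] {e : ℕ} (he : IsUnit (e : R))
    (c : Rˣ) : IsReduced (AdjoinRoot (X ^ e - C (c : R))) := by
  refine ⟨fun z hz => ?_⟩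
  rcases subsingleton_or_nontrivial R with hR | hR
  · obtain ⟨g, rfl⟩ := AdjoinRoot.mk_surjective z
    rw [Subsingleton.elim g 0, map_zero]
  have he0 : e ≠ 0 := fun h => by rw [h, Nat.cast_zero] at he; exact not_isUnit_zero he
  have hf : (X ^ e - C (c : R)).Monic := monic_X_pow_sub_C _ he0
  obtain ⟨g, rfl⟩ := AdjoinRoot.mk_surjective z
  obtain ⟨n, hn⟩ := hz
  rw [← map_pow, AdjoinRoot.mk_eq_zero] at hn
  rw [AdjoinRoot.mk_eq_zero, ← modByMonic_eq_zero_iff_dvd hf]
  refine Polynomial.ext fun i => ?_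
  rw [coeff_zero]
  refine IsReduced.eq_zero _ (mem_nilradical.1 ?_)
  rw [nilradical_eq_sInf, Submodule.mem_sInf]
  intro (p : Ideal R) hp
  haveI : p.IsPrime := hp
  let χ : R →+* p.ResidueField := algebraMap R p.ResidueField
  have hdvd : (X ^ e - C (c : R)).map χ ∣ g.map χ := by
    have hsep : ((X ^ e - C (c : R)).map χ).Separable := by
      rw [Polynomial.map_sub, Polynomial.map_pow, map_X, map_C]
      exact separable_X_pow_sub_C _ (by rw [← map_natCast χ]; exact (he.map χ).ne_zero) (c.isUnit.map χ).ne_zero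
    refine hsep.squarefree.isRadical n _ ?_
    rw [← Polynomial.map_pow]
    exact Polynomial.map_dvd χ hn
  have h0 : (g %ₘ (X ^ e - C (c : R))).map χ = 0 := by
    rw [map_modByMonic χ hf]
    exact (modByMonic_eq_zero_iff_dvd (hf.map χ)).2 hdvd
  have h1 := congrArg (fun q => coeff q i) h0
  simp only [coeff_map, coeff_zero] at h1
  exact Ideal.algebraMap_residueField_eq_zero.1 h1

end Groth.Agent.EtRam7
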