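import Groth.Agent.EtRam7.WeakSolMain
import Groth.Agent.EtRam7.AbhPre
import Mathlib

/-! Abhyankar's lemma. -/

set_option autoImplicit false
set_option linter.style.haveILetI false
universe u

namespace Groth.Agent.EtRam7

open IsLocalRing TensorProduct

theorem mem_sup_ker_of_map_eq {S S' : Type*} [CommRing S] [CommRing S'] (φ : S →+* S') {a t x : S} {d : ℕ}
    (hd : 0 < d) (h : φ a = φ t ^ d * φ x) : a ∈ Ideal.span {t} ⊔ RingHom.ker φ := by
  rw [← sub_add_cancel a (t ^ d * x)]
  exact Ideal.add_mem _ (Ideal.mem_sup_right (by rw [RingHom.mem_ker, map_sub, map_mul, map_pow, h, sub_self]))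
    (Ideal.mem_sup_left (Ideal.mul_mem_right x _ (Ideal.pow_mem_of_mem _ (Ideal.mem_span_singleton_self t) d hd)))

theorem C_mem_sup_ker_of_map_eq {R₀ S' : Type u} [CommRing R₀] [CommRing S'] (φ : Polynomial R₀ →+* S')
    {a t₀ : R₀} {d : ℕ} (hd : 0 < d) (h : φ (Polynomial.C a) = φ (Polynomial.C t₀) ^ d * φ Polynomial.X) :
    Polynomial.C a ∈ Ideal.span {Polynomial.C t₀} ⊔ RingHom.ker φ :=
  mem_sup_ker_of_map_eq φ hd h

theorem mem_of_mk_map_eq_zero {R₀ R : Type u} [CommRing R₀] [CommRing R] (ψ : R₀ →+* R)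
    (hψ : Function.Surjective ψ) (J : Ideal (Polynomial R₀)) {F : Polynomial R₀} {f : Polynomial R}
    (hF : F ∈ J) (hFmap : F.map ψ = f) (hcoeff : ∀ r, ψ r = 0 → Polynomial.C r ∈ J) {x : Polynomial R₀}
    (hx : AdjoinRoot.mk f (x.map ψ) = 0) : x ∈ J := by
  obtain ⟨q, hq⟩ := AdjoinRoot.mk_eq_zero.1 hx
  obtain ⟨Q, rfl⟩ := Polynomial.map_surjective ψ hψ q
  have h2 : x - F * Q ∈ J := by
    rw [← Polynomial.sum_C_mul_X_pow_eq (x - F * Q)]
    refine Ideal.sum_mem _ fun i _ => Ideal.mul_mem_right _ _ (hcoeff _ ?_)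
    rw [← Polynomial.coeff_map, Polynomial.map_sub, Polynomial.map_mul, hFmap, hq, sub_self, Polynomial.coeff_zero]
  simpa using J.add_mem h2 (Ideal.mul_mem_right Q _ hF)

set_option maxHeartbeats 2000000 in
/-- Abhyankar's lemma for extensions of DVRs. -/
theorem abhyankar (A B K L : Type u) [CommRing A] [IsDomain A] [IsDiscreteValuationRing A]
    [CommRing B] [IsDomain B] [IsDiscreteValuationRing B] [Algebra A B] [IsLocalHom (algebraMap A B)]
    (hinj : Function.Injective (algebraMap A B))
    [Field K] [Field L] [Algebra A K] [IsFractionRing A K] [Algebra B L] [IsFractionRing B L]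
    [Algebra K L] [Algebra A L] [IsScalarTower A K L] [IsScalarTower A B L]
    [Algebra.IsGeometricallyReduced (ResidueField A) (ResidueField B)]
    (he : IsUnit ((Ideal.ramificationIdx' (maximalIdeal A) (maximalIdeal B) : ℕ) : ResidueField A))
    (K₁ : Type u) [Field K₁] [Algebra K K₁] [FiniteDimensional K K₁] :
    EtRam.ForallLocalExt B K L K₁ (fun M _ W f =>
      ∀ hA : ∀ a : A, (algebraMap K K₁) (algebraMap A K a) ∈ W.comap f,
        letI : Algebra A (W.comap f) := (RingHom.codRestrict ((algebraMap K K₁).comp (algebraMap A K)) (W.comap f) hA).toAlgebra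
        letI : Algebra (W.comap f) W := (EtRam.inclOfComap W f).toAlgebra
        Ideal.ramificationIdx' (maximalIdeal A) (maximalIdeal B) ∣
          Ideal.ramificationIdx' (maximalIdeal A) (maximalIdeal (W.comap f)) →
        EtRam.IsWeaklyUnramified (W.comap f) W ∧
          @Algebra.IsGeometricallyReduced (ResidueField (W.comap f)) (ResidueField W) _ _
            (ResidueField.map (EtRam.inclOfComap W f)).toAlgebra) := by
  intro M _ _ _ _ _ _ hgenM W hW hA
  let f : K₁ →+* M := algebraMap K₁ M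
  let V := W.comap f
  letI : Algebra A K₁ := ((algebraMap K K₁).comp (algebraMap A K)).toAlgebra
  haveI : IsScalarTower A K K₁ := IsScalarTower.of_algebraMap_eq fun _ => rfl
  letI : Algebra B W := (((algebraMap L M).comp (algebraMap B L)).codRestrict W hW.1).toAlgebra
  haveI hlocB : IsLocalHom (algebraMap B W) := isLocalHom_of_dominates _ W hW
  letI : Algebra A W := ((algebraMap B W).comp (algebraMap A B)).toAlgebra
  haveI : IsScalarTower A B W := IsScalarTower.of_algebraMap_eq' rfl
  haveI : IsLocalHom ((algebraMap B W).comp (algebraMap A B)) := RingHom.isLocalHom_comp _ _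
  haveI : IsLocalHom (algebraMap A W) := ‹IsLocalHom ((algebraMap B W).comp (algebraMap A B))›
  have hAM : ∀ a, ((algebraMap A W a : W) : M) = f (algebraMap A K₁ a) := fun a => by
    show algebraMap L M (algebraMap B L (algebraMap A B a)) = algebraMap K₁ M (algebraMap K K₁ (algebraMap A K a))
    rw [← IsScalarTower.algebraMap_apply A B L, IsScalarTower.algebraMap_apply A K L,
      ← IsScalarTower.algebraMap_apply K L M, ← IsScalarTower.algebraMap_apply K K₁ M]
  haveI : Module.Finite L M := by
    let g : L ⊗[K] K₁ →ₐ[L] M := Algebra.TensorProduct.lift (Algebra.ofId L M)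
      (IsScalarTower.toAlgHom K K₁ M) fun _ _ => Commute.all _ _
    refine Module.Finite.of_surjective g.toLinearMap ((g.range_eq_top).1 (top_le_iff.1 ?_))
    rw [← hgenM]
    refine Algebra.adjoin_le ?_
    rintro _ ⟨x, rfl⟩
    exact ⟨1 ⊗ₜ x, by simp [g]⟩
  haveI := isDiscreteValuationRing_of_dominates_finite (A := B) (K := L) W hW
  have hVdom : EtRam.Dominates A ((algebraMap K K₁).comp (algebraMap A K)) V := by
    refine dominates_comap _ f W ⟨fun a => (show f (algebraMap A K₁ a) ∈ W from hAM a ▸ (algebraMap A W a).2),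
      fun a ha => ?_⟩
    show W.valuation (f (algebraMap A K₁ a)) < 1
    rw [← hAM, ← ValuationSubring.valuation_lt_one_iff]
    exact map_nonunit (algebraMap A W) a ha
  haveI : IsDiscreteValuationRing V := isDiscreteValuationRing_of_dominates_finite V hVdom
  letI : Algebra A V := (((algebraMap K K₁).comp (algebraMap A K)).codRestrict V hVdom.1).toAlgebra
  haveI : IsScalarTower A V K₁ := IsScalarTower.of_algebraMap_eq fun _ => rfl
  haveI : IsLocalHom (algebraMap A V) := isLocalHom_of_dominates _ V hVdom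
  haveI := finite_residueField_of_dominates (A := A) (K := K) V
  letI : Algebra V W := (EtRam.inclOfComap W f).toAlgebra
  haveI : IsScalarTower A V W := IsScalarTower.of_algebraMap_eq fun a => Subtype.ext (hAM a)
  haveI : IsLocalHom (algebraMap V W) := inferInstanceAs (IsLocalHom (EtRam.inclOfComap W f))
  intro hdvd
  let kV := ResidueField V
  let kB := ResidueField B
  let φ : V ⊗[A] B →ₐ[A] W := Algebra.TensorProduct.lift (IsScalarTower.toAlgHom A V W)
    (IsScalarTower.toAlgHom A B W) fun _ _ => Commute.all _ _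
  let ψ : V ⊗[A] B →ₐ[A] kV ⊗[A] kB := Algebra.TensorProduct.map
    (IsScalarTower.toAlgHom A V kV) (IsScalarTower.toAlgHom A B kB)
  let θ : kV ⊗[A] kB →ₐ[A] ResidueField W := Algebra.TensorProduct.lift
    (IsScalarTower.toAlgHom A kV (ResidueField W)) (IsScalarTower.toAlgHom A kB (ResidueField W))
    fun _ _ => Commute.all _ _
  haveI hgr : Algebra.IsGeometricallyReduced kV (kV ⊗[A] kB) := by
    rw [Algebra.isGeometricallyReduced_field_iff]
    let Ω := AlgebraicClosure kV
    haveI : IsReduced (Ω ⊗[ResidueField A] kB) := FBaseLib.isReduced_field_tensor kB Ω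
    haveI : CompatibleSMul A (ResidueField A) Ω kB := ⟨fun r a b => by
      obtain ⟨r, rfl⟩ := residue_surjective r
      rw [show residue A r = algebraMap A (ResidueField A) r from rfl, algebraMap_smul, algebraMap_smul,
        TensorProduct.smul_tmul]⟩
    haveI : IsReduced (Ω ⊗[A] kB) :=
      isReduced_of_injective
        (Algebra.TensorProduct.equivOfCompatibleSMul (R := A) (S := ResidueField A) (T := A) (A := Ω) (B := kB)).symm
        (AlgEquiv.injective _)
    exact isReduced_of_injective (Algebra.TensorProduct.cancelBaseChange A kV Ω Ω kB) (AlgEquiv.injective _)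
  haveI hredR : IsReduced (kV ⊗[A] kB) := Algebra.isReduced_of_isGeometricallyReduced kV
  obtain ⟨ϖ, hϖ⟩ := IsDiscreteValuationRing.exists_irreducible V
  obtain ⟨π, hπ⟩ := IsDiscreteValuationRing.exists_irreducible A
  obtain ⟨σ, hσ⟩ := IsDiscreteValuationRing.exists_irreducible B
  obtain ⟨u, hu, hepos⟩ := DVR7.exists_eq_unit_mul_pow hinj hπ hσ
  have hVinj : Function.Injective (algebraMap A V) := fun a b h =>
    (IsFractionRing.injective A K) ((algebraMap K K₁).injective (congrArg Subtype.val h))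
  obtain ⟨v, hv, he1pos⟩ := DVR7.exists_eq_unit_mul_pow (B := V) hVinj hπ hϖ
  obtain ⟨d, hd⟩ : Ideal.ramificationIdx' (maximalIdeal A) (maximalIdeal B) ∣
      Ideal.ramificationIdx' (maximalIdeal A) (maximalIdeal V) := hdvd
  rw [hd] at hv he1pos
  generalize Ideal.ramificationIdx' (maximalIdeal A) (maximalIdeal B) = e at he hu hepos hv he1pos
  have hdpos : 0 < d := Nat.pos_of_mul_pos_left he1pos
  let ϖW : W := algebraMap V W ϖ
  let σW : W := algebraMap B W σ
  let uW : Wˣ := Units.map (algebraMap B W).toMonoidHom u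
  let vW : Wˣ := Units.map (algebraMap V W).toMonoidHom v
  have hrel : (uW : W) * σW ^ e = vW * (ϖW ^ d) ^ e := by
    have h1 : algebraMap B W (algebraMap A B π) = algebraMap V W (algebraMap A V π) := by
      rw [← IsScalarTower.algebraMap_apply, ← IsScalarTower.algebraMap_apply]
    rw [hu, hv, map_mul, map_mul, map_pow, map_pow, mul_comm e d, pow_mul] at h1
    exact h1
  have hϖ0 : (ϖW : M) ≠ 0 := fun h => hϖ.ne_zero (Subtype.ext (f.injective (h.trans (map_zero f).symm)))
  let z₀ : M := (σW : M) / (ϖW : M) ^ d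
  have hz0e : z₀ ^ e = (((uW⁻¹ * vW : Wˣ) : W) : M) := by
    show ((σW : M) / (ϖW : M) ^ d) ^ e = _
    rw [div_pow, div_eq_iff (pow_ne_zero _ (pow_ne_zero _ hϖ0))]
    have h2 : σW ^ e = ((uW⁻¹ * vW : Wˣ) : W) * (ϖW ^ d) ^ e := by
      rw [Units.val_mul, mul_assoc, ← hrel, Units.inv_mul_cancel_left]
    exact congrArg Subtype.val h2
  have hz0W : z₀ ∈ W := by
    rcases W.mem_or_inv_mem z₀ with h | h
    · exact h
    · have h3 : z₀ = z₀ ^ e * z₀⁻¹ ^ (e - 1) := by
        rcases eq_or_ne z₀ 0 with h0 | h0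
        · rw [h0, zero_pow hepos.ne', zero_mul]
        · obtain ⟨m, rfl⟩ := Nat.exists_eq_add_of_le' hepos
          rw [Nat.add_sub_cancel, inv_pow, pow_succ']
          field_simp
      rw [h3, hz0e]
      exact mul_mem ((uW⁻¹ * vW : Wˣ) : W).2 (pow_mem h _)
  let z : W := ⟨z₀, hz0W⟩
  have hze : z ^ e = φ ((v : V) ⊗ₜ[A] ((u⁻¹ : Bˣ) : B)) := by
    have h1 : z ^ e = ((uW⁻¹ * vW : Wˣ) : W) := Subtype.ext hz0e
    rw [h1]
    simp [φ, uW, vW, mul_comm]
  let R := kV ⊗[A] kB
  let cR : Rˣ := (Units.map ψ.toRingHom.toMonoidHom)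
    ((Units.map (Algebra.TensorProduct.includeLeftRingHom : V →+* V ⊗[A] B).toMonoidHom v) *
      Units.map (Algebra.TensorProduct.includeRight : B →ₐ[A] V ⊗[A] B).toRingHom.toMonoidHom u⁻¹)
  have hcR : (cR : R) = ψ ((v : V) ⊗ₜ[A] ((u⁻¹ : Bˣ) : B)) := by
    simp [cR, ← map_mul]
  let F : Polynomial (V ⊗[A] B) := Polynomial.X ^ e - Polynomial.C ((v : V) ⊗ₜ[A] ((u⁻¹ : Bˣ) : B))
  let fR : Polynomial R := Polynomial.X ^ e - Polynomial.C (cR : R)
  have hFmap : F.map ψ.toRingHom = fR := by simp [F, fR, hcR]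
  let φC : Polynomial (V ⊗[A] B) →+* W := Polynomial.eval₂RingHom φ.toRingHom z
  let ψC : Polynomial (V ⊗[A] B) →+* AdjoinRoot fR := (AdjoinRoot.mk fR).comp (Polynomial.mapRingHom ψ.toRingHom)
  have hψ : Function.Surjective ψ := fun y => by
    induction y using TensorProduct.induction_on with
    | zero => exact ⟨0, map_zero _⟩
    | tmul a b =>
      obtain ⟨a, rfl⟩ := residue_surjective a
      obtain ⟨b, rfl⟩ := residue_surjective b
      exact ⟨a ⊗ₜ b, rfl⟩
    | add a b ha hb =>
      obtain ⟨a, rfl⟩ := ha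
      obtain ⟨b, rfl⟩ := hb
      exact ⟨a + b, map_add _ _ _⟩
  have hψC : Function.Surjective ψC :=
    AdjoinRoot.mk_surjective.comp (Polynomial.map_surjective ψ.toRingHom hψ)
  let t : Polynomial (V ⊗[A] B) := Polynomial.C (ϖ ⊗ₜ[A] (1 : B))
  have hφt : φC t = ϖW := by simp [φC, t, φ]; rfl
  have hkerC : ∀ x, ψC x = 0 → ∃ x', φC x = φC t * φC x' := by
    intro x hx
    let J := Ideal.span {t} ⊔ RingHom.ker φC
    suffices hJ : x ∈ J by
      obtain ⟨a, ha, b, hb, rfl⟩ := Submodule.mem_sup.1 hJ
      obtain ⟨c, rfl⟩ := Ideal.mem_span_singleton.1 ha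
      exact ⟨c, by rw [map_add, map_mul, (show φC b = 0 from hb), add_zero]⟩
    have hF : F ∈ J := Ideal.mem_sup_right (show φC F = 0 by simp [φC, F, hze])
    refine mem_of_mk_map_eq_zero ψ.toRingHom hψ J hF hFmap (fun r hr => ?_) hx
    have hi : r ∈ RingHom.ker ψ := hr
    rw [Algebra.TensorProduct.map_ker _ _ residue_surjective residue_surjective] at hi
    refine Ideal.mem_comap.1 ((sup_le ?_ ?_ : _ ≤ J.comap Polynomial.C) hi)
    · rw [show RingHom.ker (IsScalarTower.toAlgHom A V kV) = Ideal.span {ϖ} by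
        rw [← hϖ.maximalIdeal_eq]; exact IsLocalRing.ker_residue, Ideal.map_span, Set.image_singleton,
        Ideal.span_singleton_le_iff_mem]
      exact Ideal.mem_sup_left (Ideal.mem_span_singleton_self t)
    · rw [show RingHom.ker (IsScalarTower.toAlgHom A B kB) = Ideal.span {σ} by
        rw [← hσ.maximalIdeal_eq]; exact IsLocalRing.ker_residue, Ideal.map_span, Set.image_singleton,
        Ideal.span_singleton_le_iff_mem, Ideal.mem_comap]
      refine C_mem_sup_ker_of_map_eq (R₀ := V ⊗[A] B) φC hdpos ?_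
      rw [hφt]
      refine Subtype.ext ?_
      have : ((φC (Polynomial.C ((1 : V) ⊗ₜ[A] σ)) : W) : M) = (σW : M) := by simp [φC, φ, σW]
      refine this.trans ?_
      show _ = ((ϖW : M) ^ d) * ((φC Polynomial.X : W) : M)
      rw [show φC Polynomial.X = z by simp [φC]]
      exact (mul_div_cancel₀ _ (pow_ne_zero _ hϖ0)).symm
  have hθ : ∀ x, θ (ψ x) = residue W (φ x) := fun x => by
    induction x using TensorProduct.induction_on with
    | zero => simp
    | add a b ha hb => rw [map_add, map_add, ha, hb, map_add, map_add]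
    | tmul a b => simp [θ, ψ, φ]; rfl
  let θC : AdjoinRoot fR →+* ResidueField W := AdjoinRoot.lift θ.toRingHom (residue W z) (by
    rw [← hFmap, Polynomial.eval₂_map]
    have h1 : (θ.toRingHom.comp ψ.toRingHom) = (residue W).comp φ.toRingHom := RingHom.ext hθ
    rw [h1, ← Polynomial.hom_eval₂]
    simp [F, hze])
  have hθC : ∀ x, θC (ψC x) = residue W (φC x) := fun x => by
    show AdjoinRoot.lift _ _ _ (AdjoinRoot.mk fR (x.map ψ.toRingHom)) = residue W (Polynomial.eval₂ φ.toRingHom z x)
    rw [AdjoinRoot.lift_mk, Polynomial.eval₂_map, Polynomial.hom_eval₂]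
    congr 1
    exact RingHom.ext hθ
  have hφ1 : ∀ v : V, ((φ (v ⊗ₜ[A] (1 : B)) : W) : M) = f (v : K₁) := fun v => by simp [φ]; rfl
  have hgen : ∀ z : W, ∃ x d : V ⊗[A] B, φ d ≠ 0 ∧ z * φ d = φ x := by
    let S : Subalgebra L M :=
      { carrier := {m | ∃ x d : V ⊗[A] B, φ d ≠ 0 ∧ m * (φ d : M) = (φ x : M)}
        mul_mem' := by
          rintro a b ⟨x, d, hd, hx⟩ ⟨y, e, he, hy⟩
          exact ⟨x * y, d * e, by rw [map_mul]; exact mul_ne_zero hd he, by
            rw [map_mul, map_mul]; push_cast; linear_combination (b * (φ e : M)) * hx + (φ x : M) * hy⟩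
        add_mem' := by
          rintro a b ⟨x, d, hd, hx⟩ ⟨y, e, he, hy⟩
          exact ⟨x * e + y * d, d * e, by rw [map_mul]; exact mul_ne_zero hd he, by
            rw [map_mul, map_add, map_mul, map_mul]; push_cast; linear_combination (φ e : M) * hx + (φ d : M) * hy⟩
        algebraMap_mem' := fun l => by
          obtain ⟨x, d, hd, rfl⟩ := IsFractionRing.div_surjective (A := B) l
          have hd0 : algebraMap B L d ≠ 0 := IsFractionRing.to_map_ne_zero_of_mem_nonZeroDivisors hd
          have hφ2 : ∀ b : B, ((φ ((1 : V) ⊗ₜ[A] b) : W) : M) = algebraMap L M (algebraMap B L b) := fun b => by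
            simp [φ]; rfl
          refine ⟨1 ⊗ₜ x, 1 ⊗ₜ d, fun h => ?_, ?_⟩
          · have h1 := congrArg Subtype.val h
            rw [hφ2] at h1
            exact hd0 ((algebraMap L M).injective (h1.trans (map_zero _).symm))
          · rw [hφ2, hφ2, ← map_mul, div_mul_cancel₀ _ hd0] }
    have hS : S = ⊤ := top_le_iff.1 (hgenM.ge.trans (Algebra.adjoin_le (by
      rintro _ ⟨x, rfl⟩
      rcases V.mem_or_inv_mem x with hx | hx
      · exact ⟨(⟨x, hx⟩ : V) ⊗ₜ 1, 1, by rw [map_one]; exact one_ne_zero, by rw [map_one, hφ1]; simp [f]⟩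
      · rcases eq_or_ne x 0 with rfl | hx0
        · exact ⟨0, 1, by rw [map_one]; exact one_ne_zero, by simp⟩
        · refine ⟨1, (⟨x⁻¹, hx⟩ : V) ⊗ₜ 1, fun h => ?_, ?_⟩
          · have h1 := congrArg Subtype.val h
            rw [hφ1] at h1
            exact inv_ne_zero hx0 (f.injective (h1.trans (map_zero f).symm))
          · rw [hφ1, map_one, ← map_mul]; simp [hx0, f])))
    intro z
    obtain ⟨x, d, hd, hx⟩ : (z : M) ∈ S := hS ▸ trivial
    exact ⟨x, d, hd, Subtype.ext hx⟩
  have hgenC : ∀ w : W, ∃ x d : Polynomial (V ⊗[A] B), φC d ≠ 0 ∧ w * φC d = φC x := fun w => by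
    obtain ⟨x, d, h1, h2⟩ := hgen w
    exact ⟨Polynomial.C x, Polynomial.C d, by simpa [φC] using h1, by simpa [φC] using h2⟩
  have heK : IsUnit ((e : ℕ) : kV) := by simpa using he.map (algebraMap (ResidueField A) kV)
  have heR : IsUnit ((e : ℕ) : R) := by simpa using heK.map (algebraMap kV R)
  haveI : IsReduced (AdjoinRoot fR) := isReduced_adjoinRoot_X_pow_sub_C heR cR
  have hflat : ∀ d : AdjoinRoot fR, ∃ y, d ^ 2 * y = d := by
    letI : Algebra kB R := (Algebra.TensorProduct.includeRight : kB →ₐ[A] R).toRingHom.toAlgebra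
    haveI : IsScalarTower A kB R := IsScalarTower.of_algebraMap_eq fun a =>
      ((Algebra.TensorProduct.includeRight : kB →ₐ[A] R).commutes a).symm
    haveI : Algebra.IsIntegral kB R := ⟨fun x => by
      induction x using TensorProduct.induction_on with
      | zero => exact isIntegral_zero
      | add a b ha hb => exact ha.add hb
      | tmul a b =>
        have ha : IsIntegral A (a : kV) := by
          have hA0 : Function.Surjective (algebraMap A (ResidueField A)) := residue_surjective
          haveI : Module.Finite A (ResidueField A) := Module.Finite.of_surjective (Algebra.linearMap A _) hA0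
          haveI : Module.Finite A kV := Module.Finite.trans (ResidueField A) kV
          exact Algebra.IsIntegral.isIntegral a
        rw [show a ⊗ₜ[A] b = (a ⊗ₜ[A] (1 : kB)) * algebraMap kB R b by
          rw [RingHom.algebraMap_toAlgebra]
          show _ = (a ⊗ₜ[A] (1 : kB)) * ((1 : kV) ⊗ₜ[A] b)
          rw [Algebra.TensorProduct.tmul_mul_tmul, mul_one, one_mul]]
        exact ((ha.map (Algebra.TensorProduct.includeLeft : kV →ₐ[A] R)).tower_top).mul isIntegral_algebraMap⟩
    haveI : Module.Finite R (AdjoinRoot fR) :=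
      (AdjoinRoot.powerBasis' (Polynomial.monic_X_pow_sub_C _ hepos.ne')).finite
    haveI : Algebra.IsIntegral kB (AdjoinRoot fR) := Algebra.IsIntegral.trans R
    exact HenzFib7.exists_sq_mul_eq kB (AdjoinRoot fR)
  obtain ⟨hmax, hsurj⟩ := maximalIdeal_eq_span_of_absolutelyFlat W φC t ψC hψC hkerC hflat
    (by rw [hφt]; exact map_nonunit (algebraMap V W) ϖ hϖ.1) θC hθC hgenC
  refine ⟨?_, ?_⟩
  · unfold EtRam.IsWeaklyUnramified
    rw [hϖ.maximalIdeal_eq, Ideal.map_span, Set.image_singleton, hmax, hφt]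
  · let θ' : AdjoinRoot fR →ₐ[kV] ResidueField W :=
      { θC with
        commutes' := fun c => by
          show θC (AdjoinRoot.of fR (c ⊗ₜ[A] (1 : kB))) = algebraMap kV (ResidueField W) c
          rw [show θC (AdjoinRoot.of fR (c ⊗ₜ[A] (1 : kB))) = θ (c ⊗ₜ[A] (1 : kB)) from AdjoinRoot.lift_of _]
          show Algebra.TensorProduct.lift _ _ _ (c ⊗ₜ[A] (1 : kB)) = _
          rw [Algebra.TensorProduct.lift_tmul, map_one, mul_one]
          rfl }
    haveI : Algebra.IsGeometricallyReduced kV (AdjoinRoot fR) := by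
      rw [Algebra.isGeometricallyReduced_field_iff]
      let Ω := AlgebraicClosure kV
      haveI : IsReduced (Ω ⊗[kV] R) := (Algebra.isGeometricallyReduced_field_iff kV R).1 hgr
      let iR : R →ₐ[kV] Ω ⊗[kV] R := Algebra.TensorProduct.includeRight
      let c' : (Ω ⊗[kV] R)ˣ := Units.map iR.toRingHom.toMonoidHom cR
      let fΩ : Polynomial (Ω ⊗[kV] R) := Polynomial.X ^ e - Polynomial.C (c' : Ω ⊗[kV] R)
      haveI : IsReduced (AdjoinRoot fΩ) :=
        isReduced_adjoinRoot_X_pow_sub_C (by simpa using heR.map iR) c'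
      let g₁ : AdjoinRoot fR →+* AdjoinRoot fΩ := AdjoinRoot.lift ((AdjoinRoot.of fΩ).comp iR.toRingHom)
        (AdjoinRoot.root fΩ) (by
          have := AdjoinRoot.eval₂_root fΩ
          simp only [fΩ, c', Polynomial.eval₂_sub, Polynomial.eval₂_X_pow, Polynomial.eval₂_C] at this
          simp only [fR, Polynomial.eval₂_sub, Polynomial.eval₂_X_pow, Polynomial.eval₂_C, RingHom.comp_apply]
          exact this)
      let g₁' : AdjoinRoot fR →ₐ[kV] AdjoinRoot fΩ :=
        { g₁ with
          commutes' := fun c => by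
            show g₁ (AdjoinRoot.of fR (algebraMap kV R c)) = AdjoinRoot.of fΩ (algebraMap kV (Ω ⊗[kV] R) c)
            simp [g₁] }
      let g : Ω ⊗[kV] AdjoinRoot fR →ₐ[kV] AdjoinRoot fΩ := Algebra.TensorProduct.lift
        (((AdjoinRoot.ofAlgHom kV fΩ)).comp (Algebra.TensorProduct.includeLeft : Ω →ₐ[kV] Ω ⊗[kV] R)) g₁'
        fun _ _ => Commute.all _ _
      let h : AdjoinRoot fΩ →+* Ω ⊗[kV] AdjoinRoot fR := AdjoinRoot.lift
        (Algebra.TensorProduct.map (AlgHom.id kV Ω) (AdjoinRoot.ofAlgHom kV fR)).toRingHom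
        ((1 : Ω) ⊗ₜ[kV] AdjoinRoot.root fR) (by
          have h1 := congrArg (Algebra.TensorProduct.includeRight : AdjoinRoot fR →ₐ[kV] Ω ⊗[kV] AdjoinRoot fR)
            (AdjoinRoot.eval₂_root fR)
          simp only [fR, Polynomial.eval₂_sub, Polynomial.eval₂_X_pow, Polynomial.eval₂_C, map_sub, map_pow, map_zero] at h1
          simp only [fΩ, Polynomial.eval₂_sub, Polynomial.eval₂_X_pow, Polynomial.eval₂_C]
          exact h1)
      have hg : ∀ y, h (g y) = y := fun y => by
        induction y using TensorProduct.induction_on with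
        | zero => simp
        | add a b ha hb => rw [map_add, map_add, ha, hb]
        | tmul a b =>
          obtain ⟨p, rfl⟩ := AdjoinRoot.mk_surjective b
          induction p using Polynomial.induction_on' with
          | add p q hp hq => rw [map_add, TensorProduct.tmul_add, map_add, map_add, hp, hq]
          | monomial n r =>
            simp [g, h, g₁', g₁, iR, ← Polynomial.C_mul_X_pow_eq_monomial]
      exact isReduced_of_injective g (Function.LeftInverse.injective hg)
    have halg : (inferInstance : Algebra kV (ResidueField W)) = (ResidueField.map (EtRam.inclOfComap W f)).toAlgebra :=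
      Algebra.algebra_ext _ _ fun c => by
        obtain ⟨c, rfl⟩ := residue_surjective c
        rfl
    exact halg ▸ isGeometricallyReduced_of_surjective (F := kV) (T := AdjoinRoot fR) (E := ResidueField W) hflat θ' hsurj

end Groth.Agent.EtRam7
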