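import Groth.Agent.EtRam7.Unram

/-! Valuation rings above a point where a noetherian local ring has principal maximal ideal. -/

set_option autoImplicit false
set_option linter.style.haveILetI false
universe u

namespace Groth.Agent.EtRam7

open IsLocalRing

variable {B S F : Type u} [CommRing B] [IsLocalRing B] [CommRing S] [Field F] [Algebra B S]

theorem isUnramifiedExt_of_unramified [IsNoetherianRing S] [Algebra.FormallyUnramified B S] [Algebra.EssFiniteType B S]
    (π : B) (hπ : maximalIdeal B = Ideal.span {π}) (g : B →+* F) (φ : S →+* F) (hφ : φ.comp (algebraMap B S) = g)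
    (hπ0 : g π ≠ 0) (hgen : ∀ z : F, ∃ (c : S) (n : ℕ), z * g π ^ n = φ c)
    (hint : ∀ (V : ValuationSubring F), (∀ b : B, g b ∈ V) → ∀ x : S, φ x ∈ V) :
    EtRam.IsUnramifiedExt B g := by
  intro V hV
  letI : Algebra B V := (RingHom.codRestrict g V hV.1).toAlgebra
  intro _
  let φV : S →+* V := φ.codRestrict V (hint V hV.1)
  let q : Ideal S := (maximalIdeal V).comap φV
  let R := Localization.AtPrime q
  have hunit : ∀ y : q.primeCompl, IsUnit (φV y) := fun y => by
    by_contra h
    exact y.2 h
  let ρV : R →+* V := IsLocalization.lift hunit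
  have hρV : ∀ x, ρV (algebraMap S R x) = φV x := fun x => IsLocalization.lift_eq _ x
  have hB : ρV.comp (algebraMap B R) = algebraMap B V := RingHom.ext fun b => by
    rw [RingHom.comp_apply, IsScalarTower.algebraMap_apply B S R, hρV]
    exact Subtype.ext (RingHom.congr_fun hφ b)
  haveI hρloc : IsLocalHom ρV := ⟨fun r hr => by
    obtain ⟨x, s, rfl⟩ := IsLocalization.exists_mk'_eq q.primeCompl r
    have hx : IsUnit (φV x) := by
      rw [← hρV, ← IsLocalization.mk'_spec R x s, map_mul]
      exact hr.mul ((IsLocalization.map_units R s).map ρV)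
    exact (IsLocalization.AtPrime.isUnit_mk'_iff R q x s).2 fun hxq => hxq hx⟩
  haveI : IsLocalHom (algebraMap B R) := ⟨fun b hb => by
    have : IsUnit (algebraMap B V b) := by rw [← hB]; exact hb.map ρV
    exact isUnit_of_map_unit _ b this⟩
  haveI : IsNoetherianRing R := IsLocalization.isNoetherianRing q.primeCompl R inferInstance
  haveI : Algebra.EssFiniteType B R := Algebra.EssFiniteType.comp B S R
  haveI : Algebra.FormallyUnramified S R := Algebra.FormallyUnramified.of_isLocalization (Rₘ := R) q.primeCompl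
  haveI : Algebra.FormallyUnramified B R := Algebra.FormallyUnramified.comp B S R
  obtain ⟨hsep, hm⟩ := (Algebra.FormallyUnramified.iff_map_maximalIdeal_eq (R := B) (S := R)).1 inferInstance
  let ρ : R →+* F := V.subtype.comp ρV
  let p : R := algebraMap B R π
  have hp : maximalIdeal R = Ideal.span {p} := by rw [← hm, hπ, Ideal.map_span, Set.image_singleton]
  have hρp : ρ p = g π := congrArg Subtype.val (RingHom.congr_fun hB π)
  have key : ∀ r : R, ρ r = 0 ∨ ∃ (n : ℕ) (w : Rˣ), ρ r = g π ^ n * ρ w := by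
    intro r
    by_cases hr : r = 0
    · exact Or.inl (by rw [hr, map_zero])
    have : ¬ ∀ n : ℕ, r ∈ maximalIdeal R ^ n := fun hall => hr (by
      have hbot := Ideal.iInf_pow_eq_bot_of_isLocalRing (maximalIdeal R) (maximalIdeal.isMaximal R).ne_top
      rw [← Ideal.mem_bot, ← hbot]
      exact Ideal.mem_iInf.2 hall)
    push Not at this
    classical
    have h0 : Nat.find this ≠ 0 := fun h => Nat.find_spec this (by simp [h])
    obtain ⟨n, hn⟩ := Nat.exists_eq_succ_of_ne_zero h0
    have h1 : r ∈ maximalIdeal R ^ n := of_not_not (Nat.find_min this (by omega))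
    have h2 : r ∉ maximalIdeal R ^ (n + 1) := fun h => Nat.find_spec this (hn ▸ h)
    rw [hp, Ideal.span_singleton_pow, Ideal.mem_span_singleton] at h1
    obtain ⟨w, rfl⟩ := h1
    have hw : IsUnit w := by
      by_contra hw
      refine h2 ?_
      rw [hp, Ideal.span_singleton_pow, Ideal.mem_span_singleton, pow_succ]
      exact mul_dvd_mul_left _ (Ideal.mem_span_singleton.1 (hp ▸ hw))
    exact Or.inr ⟨n, hw.unit, by rw [map_mul, map_pow, hρp, IsUnit.unit_spec]⟩
  have hρπ : (⟨g π, hV.1 π⟩ : V) ∈ maximalIdeal V :=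
    (ValuationSubring.valuation_lt_one_iff V _).2 (hV.2 π (hπ ▸ Ideal.mem_span_singleton_self π))
  have key2 : ∀ v : V, v = 0 ∨ ∃ (n : ℕ) (w : Rˣ), v = (⟨g π, hV.1 π⟩ : V) ^ n * ρV w := by
    intro v
    obtain ⟨c, a, hc⟩ := hgen (v : F)
    rcases key (algebraMap S R c) with h | ⟨n, w, hw⟩
    · left
      have : (v : F) * g π ^ a = 0 := by rw [hc, ← h]; exact (congrArg Subtype.val (hρV c)).symm
      exact Subtype.ext ((mul_eq_zero.1 this).resolve_right (pow_ne_zero _ hπ0))
    · right
      have h1 : v * (⟨g π, hV.1 π⟩ : V) ^ a = (⟨g π, hV.1 π⟩ : V) ^ n * ρV w := Subtype.ext (by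
        push_cast
        rw [hc, ← show ρ (algebraMap S R c) = φ c from congrArg Subtype.val (hρV c), hw]
        rfl)
      rcases le_or_gt a n with hle | hlt
      · refine ⟨n - a, w, ?_⟩
        have hne : (⟨g π, hV.1 π⟩ : V) ^ a ≠ 0 := pow_ne_zero _ fun h => hπ0 (congrArg Subtype.val h)
        refine mul_right_cancel₀ hne ?_
        rw [h1, mul_right_comm, ← pow_add, Nat.sub_add_cancel hle]
      · exfalso
        obtain ⟨d, rfl⟩ : ∃ d, a = n + (d + 1) := ⟨a - n - 1, by omega⟩
        have hne : (⟨g π, hV.1 π⟩ : V) ^ n ≠ 0 := pow_ne_zero _ fun h => hπ0 (congrArg Subtype.val h)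
        have h3 : v * (⟨g π, hV.1 π⟩ : V) ^ (d + 1) = ρV w := mul_left_cancel₀ hne (by
          rw [← h1, pow_add]; ring)
        have : IsUnit (v * (⟨g π, hV.1 π⟩ : V) ^ (d + 1)) := h3 ▸ (w.isUnit.map ρV)
        rw [pow_succ, ← mul_assoc] at this
        exact hρπ (isUnit_of_mul_isUnit_right this)
  refine ⟨?_, ?_⟩
  · show (maximalIdeal B).map (algebraMap B V) = maximalIdeal V
    rw [hπ, Ideal.map_span, Set.image_singleton]
    refine le_antisymm ((Ideal.span_singleton_le_iff_mem _).2 hρπ) fun v hv => ?_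
    rcases key2 v with rfl | ⟨n, w, rfl⟩
    · exact zero_mem _
    · rcases n with _ | n
      · exact absurd hv (by simpa using w.isUnit.map ρV)
      · refine Ideal.mem_span_singleton.2 ⟨(⟨g π, hV.1 π⟩ : V) ^ n * ρV w, ?_⟩
        show _ = (⟨g π, hV.1 π⟩ : V) * _
        ring
  · let f : ResidueField R →+* ResidueField V := IsLocalRing.ResidueField.map ρV
    have hsur : Function.Surjective f := fun y => by
      obtain ⟨v, rfl⟩ := residue_surjective y
      rcases key2 v with rfl | ⟨n, w, rfl⟩
      · exact ⟨0, by rw [map_zero, map_zero]⟩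
      · rcases n with _ | n
        · exact ⟨residue R w, by rw [pow_zero, one_mul]; rfl⟩
        · refine ⟨0, ?_⟩
          rw [map_zero, map_mul, map_pow, (residue_eq_zero_iff _).2 hρπ, zero_pow (Nat.succ_ne_zero n), zero_mul]
    refine Algebra.IsSeparable.of_equiv_equiv (A₁ := ResidueField B) (B₁ := ResidueField R) (RingEquiv.refl _)
      (RingEquiv.ofBijective f ⟨f.injective, hsur⟩) ?_
    refine RingHom.ext fun x => ?_
    obtain ⟨b, rfl⟩ := residue_surjective x
    show residue V (algebraMap B V b) = residue V (ρV (algebraMap B R b))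
    rw [← hB]
    rfl

end Groth.Agent.EtRam7
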