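import Groth.Agent.EtRam7.TameChar
import Groth.Agent.EtRam7.BaseChange
import Mathlib

/-! Base change of tame extensions of DVRs. -/

set_option autoImplicit false
set_option linter.style.haveILetI false
universe u

namespace Groth.Agent.EtRam7

open IsLocalRing Polynomial TensorProduct

theorem formallyUnramified_adjoinRoot {R : Type u} [CommRing R] {e : ℕ} (he0 : 0 < e) (he : IsUnit (e : R))
    (c : Rˣ) : Algebra.FormallyUnramified R (AdjoinRoot (X ^ e - C (c : R))) := by
  let f : R[X] := X ^ e - C (c : R)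
  let S := AdjoinRoot f
  let x : S := AdjoinRoot.root f
  have hx : x ^ e = algebraMap R S c := by
    have h1 := AdjoinRoot.eval₂_root f
    simp only [f, eval₂_sub, eval₂_X_pow, eval₂_C, sub_eq_zero] at h1
    exact h1
  have hxu : IsUnit x := by
    have h : IsUnit (x ^ e) := by rw [hx]; exact c.isUnit.map _
    exact (isUnit_pow_iff he0.ne').1 h
  let D := KaehlerDifferential.D R S
  have hDx : D x = 0 := by
    have h1 : D (x ^ e) = 0 := by rw [hx]; exact D.map_algebraMap _
    rw [Derivation.leibniz_pow, ← Nat.cast_smul_eq_nsmul S, smul_smul] at h1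
    have hu : IsUnit ((e : S) * x ^ (e - 1)) := (by simpa using he.map (algebraMap R S) : IsUnit (e : S)).mul (hxu.pow _)
    exact hu.smul_eq_zero.1 h1
  refine ⟨Submodule.subsingleton_iff S |>.1 (subsingleton_of_bot_eq_top ?_)⟩
  rw [← KaehlerDifferential.span_range_derivation R S, eq_comm, Submodule.span_eq_bot]
  rintro _ ⟨y, rfl⟩
  have h : Set.EqOn D (0 : Derivation R S (KaehlerDifferential R S)) (Algebra.adjoin R {x} : Set S) :=
    Derivation.eqOn_adjoin fun z hz => by rw [Set.mem_singleton_iff.1 hz]; exact hDx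
  exact h (show y ∈ Algebra.adjoin R {x} by rw [AdjoinRoot.adjoinRoot_eq_top]; trivial)

set_option maxHeartbeats 2000000 in
/-- Tame extensions stay tame along extensions of DVRs. -/
theorem isTamelyRamified_baseChange {A B K L K' F : Type u} [CommRing A] [IsDomain A]
    [IsDiscreteValuationRing A] [CommRing B] [IsDomain B] [IsDiscreteValuationRing B] [Algebra A B]
    [IsLocalHom (algebraMap A B)] (hinj : Function.Injective (algebraMap A B))
    [Field K] [Field L] [Field K'] [Field F] [Algebra A K] [IsFractionRing A K] [Algebra B L] [IsFractionRing B L]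
    [Algebra K L] [Algebra A L] [IsScalarTower A K L] [IsScalarTower A B L]
    [Algebra K K'] [Algebra A K'] [IsScalarTower A K K'] [FiniteDimensional K K'] [Algebra.IsSeparable K K']
    [Algebra K' F] [Algebra L F] [Algebra B F] [IsScalarTower B L F] [FiniteDimensional L F] [Algebra.IsSeparable L F]
    (hc : ∀ c : K, algebraMap K' F (algebraMap K K' c) = algebraMap L F (algebraMap K L c))
    (hgen : ∀ z : F, z ∈ Algebra.adjoin L (Set.range (algebraMap K' F)))
    (h : EtRam.IsTamelyRamified A (algebraMap A K')) : EtRam.IsTamelyRamified B (algebraMap B F) := by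
  classical
  obtain ⟨π, hπi⟩ := IsDiscreteValuationRing.exists_irreducible A
  obtain ⟨σ, hσi⟩ := IsDiscreteValuationRing.exists_irreducible B
  obtain ⟨u, hu, -⟩ := DVR7.exists_eq_unit_mul_pow hinj hπi hσi
  set a := Ideal.ramificationIdx' (maximalIdeal A) (maximalIdeal B)
  obtain ⟨e, he0, he, hdiv⟩ := exists_bound_of_tame (K := K) h
  obtain ⟨L'', _, _, _, i, _, hsepL'', hcompat, hunr⟩ :=
    exists_unramified_over_root (K := K) π hπi.maximalIdeal_eq h e he0 he hdiv
  haveI := hsepL''
  obtain ⟨hdomA', hdvrA', hfinA', hinjA', hmaxA', hrn, -⟩ := exists_kummerRing A π hπi e he0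
  obtain ⟨hdomB', hdvrB', hfinB', hinjB', hmaxB', hsn, -⟩ := exists_kummerRing B σ hσi e he0
  let A' := AdjoinRoot (X ^ e - C π : A[X])
  let B' := AdjoinRoot (X ^ e - C σ : B[X])
  let Ω := AlgebraicClosure F
  letI : Algebra K' L'' := i.toRingHom.toAlgebra
  haveI : IsScalarTower K K' L'' := IsScalarTower.of_algebraMap_eq fun c => (i.commutes c).symm
  letI : Algebra K' Ω := ((algebraMap F Ω).comp (algebraMap K' F)).toAlgebra
  haveI : Module.Finite K' L'' := Module.Finite.of_restrictScalars_finite K K' L''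
  let j : L'' →ₐ[K'] Ω := IsAlgClosed.lift
  obtain ⟨s, hs⟩ := IsAlgClosed.exists_pow_nat_eq (algebraMap F Ω (algebraMap B F σ)) he0
  let iB : B →+* Ω := (algebraMap F Ω).comp (algebraMap B F)
  have hiBinj : Function.Injective iB := by
    have e1 : iB = ((algebraMap F Ω).comp (algebraMap L F)).comp (algebraMap B L) := by
      rw [RingHom.comp_assoc, ← IsScalarTower.algebraMap_eq B L F]
    rw [e1]
    exact ((algebraMap F Ω).comp (algebraMap L F)).injective.comp (IsFractionRing.injective B L)
  have hs0 : s ≠ 0 := fun h0 => by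
    rw [h0, zero_pow he0.ne'] at hs
    exact hσi.ne_zero (hiBinj (hs.symm.trans (map_zero iB).symm))
  let g : B' →+* Ω := AdjoinRoot.lift iB s (by simp [hs, iB])
  have hgA : ∀ x : A, j (algebraMap A' L'' (algebraMap A A' x)) = iB (algebraMap A B x) := fun x => by
    rw [show algebraMap A' L'' (algebraMap A A' x) = algebraMap K L'' (algebraMap A K x) from RingHom.congr_fun hcompat x,
      IsScalarTower.algebraMap_apply K K' L'', AlgHom.commutes]
    show algebraMap F Ω (algebraMap K' F (algebraMap K K' (algebraMap A K x))) = _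
    rw [hc, ← IsScalarTower.algebraMap_apply A K L, IsScalarTower.algebraMap_apply A B L,
      ← IsScalarTower.algebraMap_apply B L F]
    rfl
  let z : Ω := j (algebraMap A' L'' (AdjoinRoot.root (X ^ e - C π : A[X])))
  have hz : z ^ e = iB (algebraMap A B π) := by
    rw [← hgA, ← hrn, map_pow, map_pow]
  let v : Ω := z / s ^ a
  have hv : v ^ e = iB (u : B) := by
    rw [div_pow, hz, hu, map_mul, map_pow, show iB σ = s ^ e from hs.symm, ← pow_mul, ← pow_mul, mul_comm e a,
      mul_div_assoc, div_self (pow_ne_zero _ hs0), mul_one]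
  have heB : IsUnit (e : B) := by
    have h1 : IsUnit (e : A) := by
      by_contra hn
      exact he (by rw [← map_natCast (residue A)]; exact (residue_eq_zero_iff _).2 hn)
    simpa using h1.map (algebraMap A B)
  have heB' : IsUnit (e : B') := by simpa using heB.map (algebraMap B B')
  let u' : B'ˣ := Units.map (algebraMap B B').toMonoidHom u
  let Q := AdjoinRoot (X ^ e - C (u' : B'))
  haveI : Algebra.FormallyUnramified B' Q := formallyUnramified_adjoinRoot he0 heB' u'
  haveI : Module.Finite B' Q := (AdjoinRoot.powerBasis' (monic_X_pow_sub_C _ he0.ne')).finite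
  let φQ : Q →+* Ω := AdjoinRoot.lift g v (by
    rw [eval₂_sub, eval₂_X_pow, eval₂_C, hv]
    show iB u - g (AdjoinRoot.of _ (u : B)) = 0
    rw [AdjoinRoot.lift_of, sub_self])
  let w : Q := AdjoinRoot.root _ * algebraMap B' Q (AdjoinRoot.root (X ^ e - C σ : B[X])) ^ a
  let qA : A' →+* Q := AdjoinRoot.lift (((algebraMap B' Q).comp (algebraMap B B')).comp (algebraMap A B)) w (by
    have h1 : (AdjoinRoot.root (X ^ e - C (u' : B')) : Q) ^ e = algebraMap B' Q u' := by
      have h1 := AdjoinRoot.eval₂_root (X ^ e - C (u' : B'))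
      rw [eval₂_sub, eval₂_X_pow, eval₂_C, sub_eq_zero] at h1
      exact h1
    simp only [eval₂_sub, eval₂_X_pow, eval₂_C, RingHom.comp_apply, sub_eq_zero, w]
    rw [mul_pow, h1, ← pow_mul, mul_comm a e, pow_mul, ← map_pow, hsn, hu, map_mul, map_mul, map_pow, map_pow]
    rfl)
  letI : Algebra A' Q := qA.toAlgebra
  have hφw : φQ w = z := by
    simp only [w, map_mul, map_pow]
    show φQ (AdjoinRoot.root _) * φQ (AdjoinRoot.of _ _) ^ a = z
    rw [AdjoinRoot.lift_root, AdjoinRoot.lift_of]
    show v * g (AdjoinRoot.root _) ^ a = z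
    rw [AdjoinRoot.lift_root, div_mul_cancel₀ _ (pow_ne_zero _ hs0)]
  have hφA : ∀ b : A', φQ (algebraMap A' Q b) = j (algebraMap A' L'' b) := fun b => by
    have h1 : φQ.comp qA = j.toRingHom.comp (algebraMap A' L'') := by
      refine AdjoinRoot.ringHom_ext ?_ ?_
      · ext x
        show φQ (qA (AdjoinRoot.of _ x)) = j (algebraMap A' L'' (algebraMap A A' x))
        rw [AdjoinRoot.lift_of, hgA]
        show φQ (AdjoinRoot.of _ (AdjoinRoot.of _ (algebraMap A B x))) = _
        rw [AdjoinRoot.lift_of, AdjoinRoot.lift_of]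
      · show φQ (qA (AdjoinRoot.root _)) = z
        rw [AdjoinRoot.lift_root, hφw]
    exact RingHom.congr_fun h1 b
  let K₀ := FractionRing A'
  haveI : FaithfulSMul A A' := (faithfulSMul_iff_algebraMap_injective A A').2 hinjA'
  have hA'L : Function.Injective (algebraMap A' L'') := by
    rw [injective_iff_map_eq_zero]
    intro b hb
    by_contra hb0
    obtain ⟨x, hx0, c, hc'⟩ := (Algebra.IsIntegral.isIntegral (R := A) b).isAlgebraic.exists_nonzero_dvd
      (mem_nonZeroDivisors_of_ne_zero hb0)
    have h3 := congrArg (algebraMap A' L'') hc'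
    rw [map_mul, hb, zero_mul, show algebraMap A' L'' (algebraMap A A' x) = algebraMap K L'' (algebraMap A K x) from
      RingHom.congr_fun hcompat x, _root_.map_eq_zero] at h3
    exact hx0 (IsFractionRing.injective A K (h3.trans (map_zero _).symm))
  letI : Algebra K₀ L'' := (IsFractionRing.lift (A := A') (K := K₀) (g := algebraMap A' L'') hA'L).toAlgebra
  haveI : IsScalarTower A' K₀ L'' := IsScalarTower.of_algebraMap_eq fun b => (IsFractionRing.lift_algebraMap hA'L b).symm
  letI : Algebra A L'' := ((algebraMap K L'').comp (algebraMap A K)).toAlgebra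
  haveI : IsScalarTower A K L'' := IsScalarTower.of_algebraMap_eq fun _ => rfl
  haveI : IsScalarTower A A' L'' := IsScalarTower.of_algebraMap_eq fun x => (RingHom.congr_fun hcompat x).symm
  haveI : FaithfulSMul A K₀ := (faithfulSMul_iff_algebraMap_injective A K₀).2 (by
    rw [IsScalarTower.algebraMap_eq A A' K₀]; exact (IsFractionRing.injective A' K₀).comp hinjA')
  letI : Algebra K K₀ := (IsFractionRing.lift (A := A) (K := K) (g := algebraMap A K₀)
    (FaithfulSMul.algebraMap_injective A K₀)).toAlgebra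
  haveI : IsScalarTower K K₀ L'' := IsScalarTower.of_algebraMap_eq' (IsLocalization.ringHom_ext (nonZeroDivisors A) (by
    ext x
    show algebraMap K L'' (algebraMap A K x) = algebraMap K₀ L'' (IsFractionRing.lift _ (algebraMap A K x))
    rw [IsFractionRing.lift_algebraMap, IsScalarTower.algebraMap_apply A A' K₀, ← IsScalarTower.algebraMap_apply A' K₀ L'']
    exact (RingHom.congr_fun hcompat x).symm))
  haveI : Module.Finite K₀ L'' := Module.Finite.of_restrictScalars_finite K K₀ L''
  haveI : Algebra.IsSeparable K₀ L'' := Algebra.isSeparable_tower_top_of_isSeparable K K₀ L''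
  haveI := formallyUnramified_integralClosure A' K₀ L'' hunr
  let A'' := integralClosure A' L''
  haveI : Module.Finite A' A'' := IsIntegralClosure.finite A' K₀ L'' A''
  letI : Algebra A' Ω := (j.toRingHom.comp (algebraMap A' L'')).toAlgebra
  let φQ' : Q →ₐ[A'] Ω := { φQ with commutes' := hφA }
  let k' : A'' →ₐ[A'] Ω := { j.toRingHom.comp A''.val.toRingHom with commutes' := fun _ => rfl }
  let φ : Q ⊗[A'] A'' →ₐ[A'] Ω := Algebra.TensorProduct.lift φQ' k' fun _ _ => Commute.all _ _
  have hφt : ∀ q x, φ (q ⊗ₜ[A'] x) = φQ q * j (x : L'') := fun q x => Algebra.TensorProduct.lift_tmul _ _ _ q x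
  have hφq : ∀ q : Q, φ (q ⊗ₜ[A'] (1 : A'')) = φQ q := fun q => by
    rw [hφt, OneMemClass.coe_one, map_one, mul_one]
  haveI : Algebra.FormallyUnramified B' (Q ⊗[A'] A'') := Algebra.FormallyUnramified.comp B' Q (Q ⊗[A'] A'')
  haveI : Module.Finite B' (Q ⊗[A'] A'') := Module.Finite.trans Q (Q ⊗[A'] A'')
  haveI : IsNoetherianRing (Q ⊗[A'] A'') := IsNoetherianRing.of_finite B' _
  let T : Set Ω := {s, v} ∪ Set.range j
  let L₂ := IntermediateField.adjoin L T
  have hB'Ω : ∀ b, g (algebraMap B B' b) = algebraMap L Ω (algebraMap B L b) := fun b => by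
    show g (AdjoinRoot.of _ b) = _
    rw [AdjoinRoot.lift_of]
    show algebraMap F Ω (algebraMap B F b) = algebraMap F Ω (algebraMap L F (algebraMap B L b))
    rw [← IsScalarTower.algebraMap_apply B L F]
  have hsint : IsSeparable L s := by
    have hp : (X ^ e - C (algebraMap B L σ) : L[X]).Separable :=
      separable_X_pow_sub_C _ (by simpa using ((heB.map (algebraMap B L)).ne_zero))
        (IsFractionRing.to_map_ne_zero_of_mem_nonZeroDivisors (mem_nonZeroDivisors_of_ne_zero hσi.ne_zero))
    refine hp.of_dvd (minpoly.dvd L s ?_)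
    rw [map_sub, map_pow, aeval_X, aeval_C, hs]
    show iB σ - algebraMap F Ω (algebraMap L F (algebraMap B L σ)) = 0
    rw [← IsScalarTower.algebraMap_apply B L F]; exact sub_self _
  have hvint : IsSeparable L v := by
    have hp : (X ^ e - C (algebraMap B L (u : B)) : L[X]).Separable :=
      separable_X_pow_sub_C _ (by simpa using ((heB.map (algebraMap B L)).ne_zero)) (u.isUnit.map _).ne_zero
    refine hp.of_dvd (minpoly.dvd L v ?_)
    rw [map_sub, map_pow, aeval_X, aeval_C, hv]
    show iB u - algebraMap F Ω (algebraMap L F (algebraMap B L u)) = 0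
    rw [← IsScalarTower.algebraMap_apply B L F]; exact sub_self _
  have hjint : ∀ x : L'', IsSeparable L (j x) := fun x => by
    have hcK : (algebraMap L Ω).comp (algebraMap K L) = (j.toRingHom.comp (algebraMap K L'')) := by
      ext c
      show algebraMap F Ω (algebraMap L F (algebraMap K L c)) = j (algebraMap K L'' c)
      rw [IsScalarTower.algebraMap_apply K K' L'', AlgHom.commutes, ← hc]
      rfl
    refine (Polynomial.Separable.map (f := algebraMap K L) (Algebra.IsSeparable.isSeparable K x)).of_dvd (minpoly.dvd L _ ?_)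
    rw [aeval_def, eval₂_map, hcK]
    refine (hom_eval₂ _ (algebraMap K L'') j.toRingHom x).symm.trans ?_
    rw [← aeval_def, minpoly.aeval, map_zero]
  have hTsep : ∀ x ∈ T, IsSeparable L x := by
    rintro x ((rfl | rfl) | ⟨x, rfl⟩)
    exacts [hsint, hvint, hjint x]
  haveI : Algebra.IsSeparable L L₂ := IntermediateField.isSeparable_adjoin_iff_isSeparable L Ω |>.2 hTsep
  haveI : FiniteDimensional L L₂ := by
    haveI : Module.Finite K L'' := inferInstance
    let bb := Module.Free.chooseBasis K L''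
    have hT : L₂ = IntermediateField.adjoin L (({s, v} : Set Ω) ∪ Set.range fun i => j (bb i)) := by
      refine le_antisymm (IntermediateField.adjoin_le_iff.2 ?_) (IntermediateField.adjoin.mono L _ _
        (Set.union_subset_union_right _ (by rintro _ ⟨i, rfl⟩; exact ⟨_, rfl⟩)))
      rintro x (hx | ⟨x, rfl⟩)
      · exact IntermediateField.subset_adjoin L _ (Or.inl hx)
      · rw [← bb.sum_repr x, map_sum]
        refine sum_mem fun i _ => ?_
        rw [Algebra.smul_def, map_mul, IsScalarTower.algebraMap_apply K K' L'', AlgHom.commutes]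
        refine mul_mem ?_ (IntermediateField.subset_adjoin L _ (Or.inr ⟨i, rfl⟩))
        show algebraMap F Ω (algebraMap K' F (algebraMap K K' _)) ∈ _
        rw [hc]
        exact IntermediateField.algebraMap_mem _ _
    rw [hT]
    exact IntermediateField.finiteDimensional_adjoin fun x hx => (hTsep x (by
      rcases hx with hx | ⟨i, rfl⟩
      · exact Or.inl hx
      · exact Or.inr ⟨_, rfl⟩)).isIntegral
  have hL2 : ∀ x : L₂, (x : Ω) ∈ Algebra.adjoin L T := fun x => by
    have h1 : L₂.toSubalgebra = Algebra.adjoin L T :=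
      IntermediateField.adjoin_toSubalgebra_of_isAlgebraic fun x hx => (hTsep x hx).isIntegral.isAlgebraic
    exact h1 ▸ x.2
  have hgmem : ∀ b : B', g b ∈ L₂ := fun b => by
    obtain ⟨p, rfl⟩ := AdjoinRoot.mk_surjective b
    induction p using Polynomial.induction_on' with
    | add p q hp hq => rw [map_add, map_add]; exact add_mem hp hq
    | monomial n c =>
      rw [← C_mul_X_pow_eq_monomial, map_mul, map_pow, AdjoinRoot.mk_C, AdjoinRoot.mk_X, map_mul, map_pow,
        show g (AdjoinRoot.root _) = s from AdjoinRoot.lift_root _]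
      refine mul_mem ?_ (pow_mem (IntermediateField.subset_adjoin L T (Or.inl (Or.inl rfl))) n)
      show g (algebraMap B B' c) ∈ _
      rw [hB'Ω]
      exact IntermediateField.algebraMap_mem _ _
  have hQmem : ∀ q : Q, φQ q ∈ L₂ := fun q => by
    obtain ⟨p, rfl⟩ := AdjoinRoot.mk_surjective q
    induction p using Polynomial.induction_on' with
    | add p q hp hq => rw [map_add, map_add]; exact add_mem hp hq
    | monomial n c =>
      rw [← C_mul_X_pow_eq_monomial, map_mul, map_pow, AdjoinRoot.mk_C, AdjoinRoot.mk_X, map_mul, map_pow,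
        show φQ (AdjoinRoot.root _) = v from AdjoinRoot.lift_root _, show φQ (AdjoinRoot.of _ c) = g c from AdjoinRoot.lift_of _]
      exact mul_mem (hgmem c) (pow_mem (IntermediateField.subset_adjoin L T (Or.inl (Or.inr rfl))) n)
  have hφmem : ∀ t : Q ⊗[A'] A'', φ.toRingHom t ∈ L₂ := fun t => by
    induction t using TensorProduct.induction_on with
    | zero => rw [map_zero]; exact zero_mem _
    | add x y hx hy => rw [map_add]; exact add_mem hx hy
    | tmul q x =>
      show φ (q ⊗ₜ[A'] x) ∈ L₂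
      rw [hφt]
      exact mul_mem (hQmem q) (IntermediateField.subset_adjoin L T (Or.inr ⟨_, rfl⟩))
  let φ₂ : Q ⊗[A'] A'' →+* L₂ := φ.toRingHom.codRestrict L₂ hφmem
  letI : Algebra B' L₂ := (g.codRestrict L₂ hgmem).toAlgebra
  have hcompat' : (algebraMap B' L₂).comp (AdjoinRoot.of (X ^ e - C σ : B[X])) = (algebraMap L L₂).comp (algebraMap B L) :=
    RingHom.ext fun b => Subtype.ext (hB'Ω b)
  have hFmem : ∀ y : F, algebraMap F Ω y ∈ L₂ := fun y => by
    refine Algebra.adjoin_induction ?_ ?_ ?_ ?_ (hgen y)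
    · rintro _ ⟨c, rfl⟩
      refine IntermediateField.subset_adjoin L T (Or.inr ⟨algebraMap K' L'' c, ?_⟩)
      rw [AlgHom.commutes]; rfl
    · exact fun r => IntermediateField.algebraMap_mem _ _
    · exact fun a b _ _ ha hb => by rw [map_add]; exact add_mem ha hb
    · exact fun a b _ _ ha hb => by rw [map_mul]; exact mul_mem ha hb
  let iF : F →ₐ[L] L₂ := { (algebraMap F Ω).codRestrict L₂ hFmem with commutes' := fun l => Subtype.ext rfl }
  have hσ' : maximalIdeal B' = Ideal.span {AdjoinRoot.root (X ^ e - C σ : B[X])} := hmaxB'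
  have heres : (e : ResidueField B) ≠ 0 := fun h0 => by
    have h1 := heB.map (residue B)
    rw [map_natCast, h0] at h1
    exact not_isUnit_zero h1
  have hgs : ∀ n : ℕ, φQ (algebraMap B' Q (AdjoinRoot.root (X ^ e - C σ : B[X]) ^ n)) = s ^ n := fun n => by
    show φQ (AdjoinRoot.of _ _) = _
    rw [AdjoinRoot.lift_of, map_pow, AdjoinRoot.lift_root]
  refine isTamelyRamified_of_unramified_over_root (K := L) (L := F) σ hσi.maximalIdeal_eq e he0 heres L₂ iF hcompat' ?_
  intro _
  refine isUnramifiedExt_of_unramified (S := Q ⊗[A'] A'') (AdjoinRoot.root (X ^ e - C σ : B[X])) hσ'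
    (algebraMap B' L₂) φ₂ (RingHom.ext fun b => Subtype.ext ?_) (fun h0 => hs0 ?_) (fun y => ?_) fun V hV t => ?_
  · show φ (algebraMap B' Q b ⊗ₜ[A'] (1 : A'')) = g b
    rw [hφq]
    exact AdjoinRoot.lift_of _
  · have h1 := congrArg Subtype.val h0
    exact ((AdjoinRoot.lift_root (i := iB) (a := s) _).symm.trans h1)
  · suffices hP : ∀ y : Ω, y ∈ Algebra.adjoin L T → ∃ (c : Q ⊗[A'] A'') (n : ℕ), y * s ^ n = φ c by
      obtain ⟨c, n, hcn⟩ := hP y (hL2 y)
      refine ⟨c, n, Subtype.ext ?_⟩
      show (y : Ω) * g (AdjoinRoot.root _) ^ n = φ c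
      rw [AdjoinRoot.lift_root]; exact hcn
    intro y hy
    have hrootQ : ∀ n : ℕ, φ ((algebraMap B' Q (AdjoinRoot.root (X ^ e - C σ : B[X]) ^ n)) ⊗ₜ[A'] (1 : A'')) = s ^ n :=
      fun n => by rw [hφq, hgs]
    refine Algebra.adjoin_induction ?_ ?_ ?_ ?_ hy
    · rintro y ((rfl | rfl) | ⟨x, rfl⟩)
      · exact ⟨(algebraMap B' Q (AdjoinRoot.root (X ^ e - C σ : B[X]) ^ 1)) ⊗ₜ[A'] 1, 0, by rw [hrootQ]; simp⟩
      · exact ⟨AdjoinRoot.root _ ⊗ₜ[A'] 1, 0, by rw [hφq, AdjoinRoot.lift_root, pow_zero, mul_one]⟩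
      · haveI : IsFractionRing A'' L'' := IsIntegralClosure.isFractionRing_of_finite_extension A' K₀ L'' A''
        obtain ⟨⟨m, hm⟩, hx'⟩ := IsIntegral.exists_multiple_integral_of_isLocalization (R := A') (Rₘ := K₀)
          (nonZeroDivisors A') x (Algebra.IsIntegral.isIntegral x)
        obtain ⟨n, ε, hn⟩ := IsDiscreteValuationRing.eq_unit_mul_pow_irreducible (nonZeroDivisors.ne_zero hm)
          ((IsDiscreteValuationRing.irreducible_iff_uniformizer _).2 hmaxA')
        -- `m = ε r^n` and `r ↦ v s^a`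
        let vinv : Q := AdjoinRoot.root _ ^ (e - 1) * algebraMap B' Q ((u'⁻¹ : B'ˣ) : B')
        refine ⟨(algebraMap A' Q ((ε⁻¹ : A'ˣ) : A') * vinv ^ n) ⊗ₜ[A'] (⟨m • x, hx'⟩ : A''), a * n, ?_⟩
        rw [hφt, map_mul, hφA]
        show j x * s ^ (a * n) = j (algebraMap A' L'' ((ε⁻¹ : A'ˣ) : A')) * φQ (vinv ^ n) * j (m • x)
        rw [Algebra.smul_def, map_mul j, map_pow φQ]
        have hvinv : φQ vinv * v = 1 := by
          show φQ (AdjoinRoot.root _ ^ (e - 1) * AdjoinRoot.of _ _) * v = 1
          rw [map_mul, map_pow, AdjoinRoot.lift_root, AdjoinRoot.lift_of, mul_right_comm, ← pow_succ,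
            Nat.sub_add_cancel he0, hv]
          show iB u * g (algebraMap B B' ((u⁻¹ : Bˣ) : B)) = 1
          rw [show g (algebraMap B B' ((u⁻¹ : Bˣ) : B)) = iB ((u⁻¹ : Bˣ) : B) from AdjoinRoot.lift_of _, ← map_mul,
            Units.mul_inv, map_one]
        have hε : j (algebraMap A' L'' ((ε⁻¹ : A'ˣ) : A')) * j (algebraMap A' L'' (ε : A')) = 1 := by
          rw [← map_mul, ← map_mul, Units.inv_mul, map_one, map_one]
        have hzv : z = v * s ^ a := (div_mul_cancel₀ _ (pow_ne_zero _ hs0)).symm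
        rw [hn, map_mul (algebraMap A' L''), map_pow (algebraMap A' L''), map_mul j, map_pow j,
          show j (algebraMap A' L'' (AdjoinRoot.root _)) = z from rfl, hzv]
        calc j x * s ^ (a * n) = (j (algebraMap A' L'' ((ε⁻¹ : A'ˣ) : A')) * j (algebraMap A' L'' (ε : A'))) *
              (φQ vinv * v) ^ n * (s ^ (a * n) * j x) := by rw [hε, hvinv]; ring
          _ = _ := by ring
    · intro l
      obtain ⟨b, c, hc', rfl⟩ := IsFractionRing.div_surjective (A := B) l
      obtain ⟨n, ε, hn⟩ := IsDiscreteValuationRing.eq_unit_mul_pow_irreducible (nonZeroDivisors.ne_zero hc') hσi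
      refine ⟨algebraMap B' Q (algebraMap B B' (b * ((ε⁻¹ : Bˣ) : B))) ⊗ₜ[A'] 1, e * n, ?_⟩
      rw [hφq]
      show _ = φQ (AdjoinRoot.of _ (AdjoinRoot.of _ _))
      rw [AdjoinRoot.lift_of, AdjoinRoot.lift_of, pow_mul, hs]
      show algebraMap F Ω (algebraMap L F (algebraMap B L b / algebraMap B L c)) * algebraMap F Ω (algebraMap B F σ) ^ n = _
      rw [IsScalarTower.algebraMap_apply B L F, ← map_pow, ← map_pow, ← map_mul, ← map_mul]
      show _ = algebraMap F Ω (algebraMap B F (b * ((ε⁻¹ : Bˣ) : B)))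
      rw [IsScalarTower.algebraMap_apply B L F]
      congr 2
      have hc0 : algebraMap B L c ≠ 0 := IsFractionRing.to_map_ne_zero_of_mem_nonZeroDivisors hc'
      rw [div_mul_eq_mul_div, div_eq_iff hc0, hn, ← map_pow, ← map_mul, ← map_mul]
      congr 1
      rw [show b * ((ε⁻¹ : Bˣ) : B) * ((ε : B) * σ ^ n) = b * σ ^ n * (((ε⁻¹ : Bˣ) : B) * (ε : B)) by ring,
        Units.inv_mul, mul_one]
    · rintro x y _ _ ⟨c, n, hc'⟩ ⟨d, m, hd⟩
      refine ⟨c * ((algebraMap B' Q (AdjoinRoot.root (X ^ e - C σ : B[X]) ^ m)) ⊗ₜ[A'] (1 : A'')) +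
        d * ((algebraMap B' Q (AdjoinRoot.root (X ^ e - C σ : B[X]) ^ n)) ⊗ₜ[A'] (1 : A'')), n + m, ?_⟩
      rw [map_add, map_mul, map_mul, hrootQ, hrootQ, ← hc', ← hd, pow_add]
      ring
    · rintro x y _ _ ⟨c, n, hc'⟩ ⟨d, m, hd⟩
      exact ⟨c * d, n + m, by rw [map_mul, ← hc', ← hd, pow_add]; ring⟩
  · show φ₂ t ∈ V
    induction t using TensorProduct.induction_on with
    | zero => rw [map_zero]; exact zero_mem V
    | add x y hx hy => rw [map_add]; exact add_mem hx hy
    | tmul q x =>
      letI : Algebra B' V := ((algebraMap B' L₂).codRestrict V hV).toAlgebra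
      haveI : IsScalarTower B' V L₂ := IsScalarTower.of_algebraMap_eq fun _ => rfl
      let φ' : Q ⊗[A'] A'' →ₐ[B'] L₂ :=
        { φ₂ with commutes' := fun b => Subtype.ext (by
            show φ (algebraMap B' Q b ⊗ₜ[A'] (1 : A'')) = g b
            rw [hφq]; exact AdjoinRoot.lift_of _) }
      obtain ⟨y, hy⟩ := IsIntegrallyClosed.isIntegral_iff.1
        (((Algebra.IsIntegral.isIntegral (R := B') (q ⊗ₜ[A'] x)).map φ').tower_top (A := V))
      exact (show φ₂ (q ⊗ₜ[A'] x) = y from hy.symm) ▸ y.2

end Groth.Agent.EtRam7
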