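import Groth.Agent.S9306
import Groth.Agent.S9307
import Groth.Agent.S1989
import Groth.Agent.S1990
import Mathlib

/-! Composita and Galois closures of tame and unramified extensions. -/

set_option autoImplicit false
set_option linter.style.haveILetI false
universe u

namespace Groth.Agent.EtRam7

open TensorProduct

theorem exists_compositum (K L₁ L₂ : Type u) [Field K] [Field L₁] [Field L₂] [Algebra K L₁] [Algebra K L₂]
    [FiniteDimensional K L₁] [FiniteDimensional K L₂] [Algebra.IsSeparable K L₁] [Algebra.IsSeparable K L₂] :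
    ∃ (M : Type u) (_ : Field M) (_ : Algebra K M) (_ : FiniteDimensional K M) (_ : Algebra.IsSeparable K M)
      (i₁ : L₁ →ₐ[K] M) (i₂ : L₂ →ₐ[K] M),
      Function.Surjective (Algebra.TensorProduct.lift i₁ i₂ fun _ _ => Commute.all _ _) := by
  obtain ⟨Q, hQ⟩ := Ideal.exists_maximal (L₁ ⊗[K] L₂)
  letI : Field ((L₁ ⊗[K] L₂) ⧸ Q) := Ideal.Quotient.field Q
  let q : L₁ ⊗[K] L₂ →ₐ[K] (L₁ ⊗[K] L₂) ⧸ Q := Ideal.Quotient.mkₐ K Q
  let i₁ : L₁ →ₐ[K] (L₁ ⊗[K] L₂) ⧸ Q := q.comp Algebra.TensorProduct.includeLeft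
  let i₂ : L₂ →ₐ[K] (L₁ ⊗[K] L₂) ⧸ Q := q.comp Algebra.TensorProduct.includeRight
  haveI : Module.Finite K ((L₁ ⊗[K] L₂) ⧸ Q) := Module.Finite.of_surjective q.toLinearMap Ideal.Quotient.mk_surjective
  have hl : ∀ t, Algebra.TensorProduct.lift i₁ i₂ (fun _ _ => Commute.all _ _) t = q t := fun t => by
    induction t using TensorProduct.induction_on with
    | zero => simp
    | add a b ha hb => rw [map_add, map_add, ha, hb]
    | tmul a b =>
      rw [Algebra.TensorProduct.lift_tmul]
      show q _ * q _ = q _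
      rw [← map_mul]
      simp
  refine ⟨_, inferInstance, inferInstance, inferInstance, ⟨fun z => ?_⟩, i₁, i₂, fun z => ?_⟩
  · obtain ⟨z, rfl⟩ := Ideal.Quotient.mk_surjective z
    rw [← mem_separableClosure_iff]
    show q z ∈ _
    rw [← hl]
    induction z using TensorProduct.induction_on with
    | zero => rw [map_zero]; exact zero_mem _
    | add a b ha hb => rw [map_add]; exact add_mem ha hb
    | tmul a b =>
      rw [Algebra.TensorProduct.lift_tmul]
      refine mul_mem (mem_separableClosure_iff.2 ?_) (mem_separableClosure_iff.2 ?_)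
      · rw [IsSeparable, minpoly.algHom_eq i₁ i₁.toRingHom.injective]
        exact Algebra.IsSeparable.isSeparable K a
      · rw [IsSeparable, minpoly.algHom_eq i₂ i₂.toRingHom.injective]
        exact Algebra.IsSeparable.isSeparable K b
  · obtain ⟨z, rfl⟩ := Ideal.Quotient.mk_surjective z
    exact ⟨z, hl z⟩

theorem surjective_lift_sup {K Ω : Type u} [Field K] [Field Ω] [Algebra K Ω] (E₁ E₂ : IntermediateField K Ω)
    [FiniteDimensional K E₁] :
    Function.Surjective (Algebra.TensorProduct.lift (IntermediateField.inclusion (le_sup_left : E₁ ≤ E₁ ⊔ E₂))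
      (IntermediateField.inclusion (le_sup_right : E₂ ≤ E₁ ⊔ E₂)) fun _ _ => Commute.all _ _) := by
  intro z
  let φ := Algebra.TensorProduct.lift (IntermediateField.inclusion (le_sup_left : E₁ ≤ E₁ ⊔ E₂))
      (IntermediateField.inclusion (le_sup_right : E₂ ≤ E₁ ⊔ E₂)) fun _ _ => Commute.all _ _
  let S : Subalgebra K Ω := φ.range.map (E₁ ⊔ E₂).val
  have hz : (z : Ω) ∈ (E₁ ⊔ E₂).toSubalgebra := z.2
  rw [IntermediateField.sup_toSubalgebra_of_left] at hz
  have hle : E₁.toSubalgebra ⊔ E₂.toSubalgebra ≤ S := sup_le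
    (fun x hx => ⟨_, ⟨(⟨x, hx⟩ : E₁) ⊗ₜ 1, rfl⟩, by simp [φ]⟩)
    (fun x hx => ⟨_, ⟨1 ⊗ₜ (⟨x, hx⟩ : E₂), rfl⟩, by simp [φ]⟩)
  obtain ⟨w, ⟨t, rfl⟩, hw⟩ := hle hz
  exact ⟨t, Subtype.ext hw⟩

variable (A K : Type u) [CommRing A] [IsDomain A] [IsDiscreteValuationRing A] [Field K] [Algebra A K]
  [IsFractionRing A K]

theorem IsTamelyRamified_compositum (L₁ L₂ M : Type u) [Field L₁] [Field L₂] [Field M] [Algebra K L₁] [Algebra K L₂]
    [Algebra K M] [FiniteDimensional K L₁] [FiniteDimensional K L₂] [Algebra.IsSeparable K L₁]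
    [Algebra.IsSeparable K L₂] [FiniteDimensional K M] [Algebra.IsSeparable K M] (i₁ : L₁ →ₐ[K] M) (i₂ : L₂ →ₐ[K] M)
    (hsurj : Function.Surjective (Algebra.TensorProduct.lift i₁ i₂ fun _ _ => Commute.all _ _))
    (h₁ : EtRam.IsTamelyRamified A ((algebraMap K L₁).comp (algebraMap A K)))
    (h₂ : EtRam.IsTamelyRamified A ((algebraMap K L₂).comp (algebraMap A K))) :
    EtRam.IsTamelyRamified A ((algebraMap K M).comp (algebraMap A K)) := by
  letI : Algebra L₂ M := i₂.toRingHom.toAlgebra
  haveI : IsScalarTower K L₂ M := IsScalarTower.of_algebraMap_eq fun c => (i₂.commutes c).symm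
  refine (S1990.result A K L₂ M).1 h₂ fun V hV => ?_
  haveI := isDiscreteValuationRing_of_dominates V hV
  letI : Algebra A V := (((algebraMap K L₂).comp (algebraMap A K)).codRestrict V hV.1).toAlgebra
  haveI : IsLocalHom (algebraMap A V) := isLocalHom_of_dominates _ V hV
  letI : Algebra A L₂ := ((algebraMap K L₂).comp (algebraMap A K)).toAlgebra
  haveI : IsScalarTower A K L₂ := IsScalarTower.of_algebraMap_eq fun _ => rfl
  haveI : IsScalarTower A V L₂ := IsScalarTower.of_algebraMap_eq fun _ => rfl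
  have hinj : Function.Injective (algebraMap A V) := fun a b e =>
    IsFractionRing.injective A K ((algebraMap K L₂).injective (congrArg Subtype.val e))
  let φ : L₁ ⊗[K] L₂ →ₐ[K] M := Algebra.TensorProduct.lift i₁ i₂ fun _ _ => Commute.all _ _
  letI : Algebra (L₁ ⊗[K] L₂) M := φ.toRingHom.toAlgebra
  have := S9307.result A V K L₂ L₁ hinj h₁ M hsurj
  have e : (algebraMap (L₁ ⊗[K] L₂) M).comp
      ((Algebra.TensorProduct.includeRight : L₂ →ₐ[K] L₁ ⊗[K] L₂).toRingHom.comp (algebraMap V L₂)) =
      (algebraMap L₂ M).comp V.subtype := RingHom.ext fun v => by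
    show φ ((1 : L₁) ⊗ₜ[K] (v : L₂)) = i₂ (v : L₂)
    simp [φ]
  rwa [e] at this

theorem IsTamelyRamified_exists_compositum (L₁ L₂ : Type u) [Field L₁] [Field L₂] [Algebra K L₁] [Algebra K L₂]
    [FiniteDimensional K L₁] [FiniteDimensional K L₂] [Algebra.IsSeparable K L₁] [Algebra.IsSeparable K L₂]
    (h₁ : EtRam.IsTamelyRamified A ((algebraMap K L₁).comp (algebraMap A K)))
    (h₂ : EtRam.IsTamelyRamified A ((algebraMap K L₂).comp (algebraMap A K))) :
    ∃ (M : Type u) (_ : Field M) (_ : Algebra K M) (_ : FiniteDimensional K M) (_ : Algebra.IsSeparable K M)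
      (_ : L₁ →ₐ[K] M) (_ : L₂ →ₐ[K] M), EtRam.IsTamelyRamified A ((algebraMap K M).comp (algebraMap A K)) := by
  obtain ⟨M, _, _, _, _, i₁, i₂, hs⟩ := exists_compositum K L₁ L₂
  exact ⟨M, _, _, inferInstance, inferInstance, i₁, i₂, IsTamelyRamified_compositum A K L₁ L₂ M i₁ i₂ hs h₁ h₂⟩

theorem IsTamelyRamified_exists_galois (L : Type u) [Field L] [Algebra K L] [FiniteDimensional K L] [Algebra.IsSeparable K L]
    (h : EtRam.IsTamelyRamified A ((algebraMap K L).comp (algebraMap A K))) :
    ∃ (M : Type u) (_ : Field M) (_ : Algebra K M) (_ : FiniteDimensional K M) (_ : IsGalois K M) (_ : L →ₐ[K] M),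
      EtRam.IsTamelyRamified A ((algebraMap K M).comp (algebraMap A K)) := by
  classical
  let Ω := AlgebraicClosure K
  let σ₀ : L →ₐ[K] Ω := IsAlgClosed.lift
  have key : ∀ s : Finset (L →ₐ[K] Ω), FiniteDimensional K ↥(s.sup fun σ => σ.fieldRange) ∧
      Algebra.IsSeparable K ↥(s.sup fun σ => σ.fieldRange) ∧
      (s.Nonempty → EtRam.IsTamelyRamified A ((algebraMap K ↥(s.sup fun σ => σ.fieldRange)).comp (algebraMap A K))) := by
    intro s
    induction s using Finset.induction with
    | empty =>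
      rw [Finset.sup_empty]
      exact ⟨inferInstance, inferInstance, fun hn => absurd hn Finset.not_nonempty_empty⟩
    | insert σ s _ ih =>
      rw [Finset.sup_insert]
      obtain ⟨hf, hs, hP⟩ := ih
      haveI := hf
      haveI := hs
      haveI : FiniteDimensional K σ.fieldRange := (AlgEquiv.ofInjectiveField σ).toLinearEquiv.finiteDimensional
      haveI : Algebra.IsSeparable K σ.fieldRange := AlgEquiv.Algebra.isSeparable (AlgEquiv.ofInjectiveField σ)
      have hσ : EtRam.IsTamelyRamified A ((algebraMap K σ.fieldRange).comp (algebraMap A K)) := by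
        letI : Algebra σ.fieldRange L := (AlgEquiv.ofInjectiveField σ).symm.toAlgHom.toRingHom.toAlgebra
        haveI : IsScalarTower K σ.fieldRange L := IsScalarTower.of_algebraMap_eq fun c =>
          ((AlgEquiv.ofInjectiveField σ).symm.commutes c).symm
        exact (S1989.result A K σ.fieldRange L).1 h
      have hsep : Algebra.IsSeparable K ↥(σ.fieldRange ⊔ s.sup fun σ => σ.fieldRange) := inferInstance
      refine ⟨inferInstance, hsep, fun _ => ?_⟩
      rcases s.eq_empty_or_nonempty with rfl | hne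
      · rw [Finset.sup_empty, sup_bot_eq]; exact hσ
      · exact IsTamelyRamified_compositum A K σ.fieldRange ↥(s.sup fun σ => σ.fieldRange) _
          (IntermediateField.inclusion le_sup_left) (IntermediateField.inclusion le_sup_right)
          (surjective_lift_sup σ.fieldRange _) hσ (hP hne)
  obtain ⟨hf, hs, hP⟩ := key Finset.univ
  let E : IntermediateField K Ω := Finset.univ.sup fun σ : L →ₐ[K] Ω => σ.fieldRange
  haveI : FiniteDimensional K E := hf
  haveI : Algebra.IsSeparable K E := hs
  haveI : Normal K E := by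
    have hE : E = IntermediateField.normalClosure K L Ω := by
      show Finset.univ.sup _ = _
      rw [Finset.sup_univ_eq_iSup]
      rfl
    rw [hE]; infer_instance
  haveI : IsGalois K E := ⟨⟩
  have hle : σ₀.fieldRange ≤ E := Finset.le_sup (f := fun σ : L →ₐ[K] Ω => σ.fieldRange) (Finset.mem_univ σ₀)
  exact ⟨E, inferInstance, inferInstance, inferInstance, inferInstance,
    (IntermediateField.inclusion hle).comp (AlgEquiv.ofInjectiveField σ₀).toAlgHom, hP ⟨σ₀, Finset.mem_univ _⟩⟩

theorem IsUnramifiedExt_compositum (L₁ L₂ M : Type u) [Field L₁] [Field L₂] [Field M] [Algebra K L₁] [Algebra K L₂]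
    [Algebra K M] [FiniteDimensional K L₁] [FiniteDimensional K L₂] [Algebra.IsSeparable K L₁]
    [Algebra.IsSeparable K L₂] [FiniteDimensional K M] [Algebra.IsSeparable K M] (i₁ : L₁ →ₐ[K] M) (i₂ : L₂ →ₐ[K] M)
    (hsurj : Function.Surjective (Algebra.TensorProduct.lift i₁ i₂ fun _ _ => Commute.all _ _))
    (h₁ : EtRam.IsUnramifiedExt A ((algebraMap K L₁).comp (algebraMap A K)))
    (h₂ : EtRam.IsUnramifiedExt A ((algebraMap K L₂).comp (algebraMap A K))) :
    EtRam.IsUnramifiedExt A ((algebraMap K M).comp (algebraMap A K)) := by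
  letI : Algebra L₂ M := i₂.toRingHom.toAlgebra
  haveI : IsScalarTower K L₂ M := IsScalarTower.of_algebraMap_eq fun c => (i₂.commutes c).symm
  refine (S1990.result A K L₂ M).2 h₂ fun V hV => ?_
  haveI := isDiscreteValuationRing_of_dominates V hV
  letI : Algebra A V := (((algebraMap K L₂).comp (algebraMap A K)).codRestrict V hV.1).toAlgebra
  haveI : IsLocalHom (algebraMap A V) := isLocalHom_of_dominates _ V hV
  letI : Algebra A L₂ := ((algebraMap K L₂).comp (algebraMap A K)).toAlgebra
  haveI : IsScalarTower A K L₂ := IsScalarTower.of_algebraMap_eq fun _ => rfl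
  haveI : IsScalarTower A V L₂ := IsScalarTower.of_algebraMap_eq fun _ => rfl
  have hinj : Function.Injective (algebraMap A V) := fun a b e =>
    IsFractionRing.injective A K ((algebraMap K L₂).injective (congrArg Subtype.val e))
  let φ : L₁ ⊗[K] L₂ →ₐ[K] M := Algebra.TensorProduct.lift i₁ i₂ fun _ _ => Commute.all _ _
  letI : Algebra (L₁ ⊗[K] L₂) M := φ.toRingHom.toAlgebra
  have := S9306.result A V K L₂ L₁ hinj h₁ M hsurj
  have e : (algebraMap (L₁ ⊗[K] L₂) M).comp
      ((Algebra.TensorProduct.includeRight : L₂ →ₐ[K] L₁ ⊗[K] L₂).toRingHom.comp (algebraMap V L₂)) =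
      (algebraMap L₂ M).comp V.subtype := RingHom.ext fun v => by
    show φ ((1 : L₁) ⊗ₜ[K] (v : L₂)) = i₂ (v : L₂)
    simp [φ]
  rwa [e] at this

theorem IsUnramifiedExt_exists_compositum (L₁ L₂ : Type u) [Field L₁] [Field L₂] [Algebra K L₁] [Algebra K L₂]
    [FiniteDimensional K L₁] [FiniteDimensional K L₂] [Algebra.IsSeparable K L₁] [Algebra.IsSeparable K L₂]
    (h₁ : EtRam.IsUnramifiedExt A ((algebraMap K L₁).comp (algebraMap A K)))
    (h₂ : EtRam.IsUnramifiedExt A ((algebraMap K L₂).comp (algebraMap A K))) :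
    ∃ (M : Type u) (_ : Field M) (_ : Algebra K M) (_ : FiniteDimensional K M) (_ : Algebra.IsSeparable K M)
      (_ : L₁ →ₐ[K] M) (_ : L₂ →ₐ[K] M), EtRam.IsUnramifiedExt A ((algebraMap K M).comp (algebraMap A K)) := by
  obtain ⟨M, _, _, _, _, i₁, i₂, hs⟩ := exists_compositum K L₁ L₂
  exact ⟨M, _, _, inferInstance, inferInstance, i₁, i₂, IsUnramifiedExt_compositum A K L₁ L₂ M i₁ i₂ hs h₁ h₂⟩

theorem IsUnramifiedExt_exists_galois (L : Type u) [Field L] [Algebra K L] [FiniteDimensional K L] [Algebra.IsSeparable K L]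
    (h : EtRam.IsUnramifiedExt A ((algebraMap K L).comp (algebraMap A K))) :
    ∃ (M : Type u) (_ : Field M) (_ : Algebra K M) (_ : FiniteDimensional K M) (_ : IsGalois K M) (_ : L →ₐ[K] M),
      EtRam.IsUnramifiedExt A ((algebraMap K M).comp (algebraMap A K)) := by
  classical
  let Ω := AlgebraicClosure K
  let σ₀ : L →ₐ[K] Ω := IsAlgClosed.lift
  have key : ∀ s : Finset (L →ₐ[K] Ω), FiniteDimensional K ↥(s.sup fun σ => σ.fieldRange) ∧
      Algebra.IsSeparable K ↥(s.sup fun σ => σ.fieldRange) ∧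
      (s.Nonempty → EtRam.IsUnramifiedExt A ((algebraMap K ↥(s.sup fun σ => σ.fieldRange)).comp (algebraMap A K))) := by
    intro s
    induction s using Finset.induction with
    | empty =>
      rw [Finset.sup_empty]
      exact ⟨inferInstance, inferInstance, fun hn => absurd hn Finset.not_nonempty_empty⟩
    | insert σ s _ ih =>
      rw [Finset.sup_insert]
      obtain ⟨hf, hs, hP⟩ := ih
      haveI := hf
      haveI := hs
      haveI : FiniteDimensional K σ.fieldRange := (AlgEquiv.ofInjectiveField σ).toLinearEquiv.finiteDimensional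
      haveI : Algebra.IsSeparable K σ.fieldRange := AlgEquiv.Algebra.isSeparable (AlgEquiv.ofInjectiveField σ)
      have hσ : EtRam.IsUnramifiedExt A ((algebraMap K σ.fieldRange).comp (algebraMap A K)) := by
        letI : Algebra σ.fieldRange L := (AlgEquiv.ofInjectiveField σ).symm.toAlgHom.toRingHom.toAlgebra
        haveI : IsScalarTower K σ.fieldRange L := IsScalarTower.of_algebraMap_eq fun c =>
          ((AlgEquiv.ofInjectiveField σ).symm.commutes c).symm
        exact (S1989.result A K σ.fieldRange L).2 h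
      have hsep : Algebra.IsSeparable K ↥(σ.fieldRange ⊔ s.sup fun σ => σ.fieldRange) := inferInstance
      refine ⟨inferInstance, hsep, fun _ => ?_⟩
      rcases s.eq_empty_or_nonempty with rfl | hne
      · rw [Finset.sup_empty, sup_bot_eq]; exact hσ
      · exact IsUnramifiedExt_compositum A K σ.fieldRange ↥(s.sup fun σ => σ.fieldRange) _
          (IntermediateField.inclusion le_sup_left) (IntermediateField.inclusion le_sup_right)
          (surjective_lift_sup σ.fieldRange _) hσ (hP hne)
  obtain ⟨hf, hs, hP⟩ := key Finset.univ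
  let E : IntermediateField K Ω := Finset.univ.sup fun σ : L →ₐ[K] Ω => σ.fieldRange
  haveI : FiniteDimensional K E := hf
  haveI : Algebra.IsSeparable K E := hs
  haveI : Normal K E := by
    have hE : E = IntermediateField.normalClosure K L Ω := by
      show Finset.univ.sup _ = _
      rw [Finset.sup_univ_eq_iSup]
      rfl
    rw [hE]; infer_instance
  haveI : IsGalois K E := ⟨⟩
  have hle : σ₀.fieldRange ≤ E := Finset.le_sup (f := fun σ : L →ₐ[K] Ω => σ.fieldRange) (Finset.mem_univ σ₀)
  exact ⟨E, inferInstance, inferInstance, inferInstance, inferInstance,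
    (IntermediateField.inclusion hle).comp (AlgEquiv.ofInjectiveField σ₀).toAlgHom, hP ⟨σ₀, Finset.mem_univ _⟩⟩

end Groth.Agent.EtRam7
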