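import Groth.Agent.NagataLib.IntClosure
import Mathlib

/-! `p`-th powers in a discrete valuation ring of characteristic `p`: the expansion
`u = ∑ w_i ^ p * π ^ i + π ^ m * t` and purely inseparable extensions of degree `p`. -/

set_option autoImplicit false
set_option linter.style.haveILetI false
universe u

namespace Groth.Agent.EtRam7

open IsLocalRing Polynomial

/-- If `∑ b i ^ p * π ^ i` is divisible by `π ^ (p * N)` then all `b i` are divisible by `π ^ N`. -/
theorem pow_dvd_coeff {B : Type u} [CommRing B] [IsDomain B] {π : B} (hπ : Prime π) {p : ℕ} :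
    ∀ (N : ℕ) (b : Fin p → B), π ^ (p * N) ∣ ∑ i, b i ^ p * π ^ (i : ℕ) → ∀ i, π ^ N ∣ b i := by
  intro N
  induction N with
  | zero => intro b _ i; simp
  | succ N ih =>
    intro b hb
    have h1 : ∀ (k : ℕ) (i : Fin p), (i : ℕ) < k → π ∣ b i := by
      intro k
      induction k with
      | zero => intro i hi; omega
      | succ k ihk =>
        intro i hi
        rcases Nat.lt_succ_iff_lt_or_eq.1 hi with hi | hi
        · exact ihk i hi
        subst hi
        have hother : ∀ j : Fin p, j ≠ i → π ^ ((i : ℕ) + 1) ∣ b j ^ p * π ^ (j : ℕ) := by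
          intro j hj
          rcases lt_or_gt_of_ne (Fin.val_ne_of_ne hj) with h | h
          · exact Dvd.dvd.mul_right ((pow_dvd_pow π (by omega)).trans (pow_dvd_pow_of_dvd (ihk j h) p)) _
          · exact Dvd.dvd.mul_left (pow_dvd_pow π (by omega)) _
        have hsum : π ^ ((i : ℕ) + 1) ∣ ∑ j, b j ^ p * π ^ (j : ℕ) :=
          (pow_dvd_pow π (Nat.mul_succ p N ▸ by omega)).trans hb
        rw [← Finset.add_sum_erase _ _ (Finset.mem_univ i)] at hsum
        have h2 := (dvd_add_left (Finset.dvd_sum fun j hj => hother j (Finset.ne_of_mem_erase hj))).1 hsum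
        rw [pow_succ, mul_comm (b i ^ p), mul_dvd_mul_iff_left (pow_ne_zero _ hπ.ne_zero)] at h2
        exact hπ.dvd_of_dvd_pow h2
    choose c hc using fun i => h1 p i i.2
    intro i
    rw [hc i, pow_succ']
    refine mul_dvd_mul_left π (ih c ?_ i)
    have h3 : ∑ i, b i ^ p * π ^ (i : ℕ) = π ^ p * ∑ i, c i ^ p * π ^ (i : ℕ) := by
      rw [Finset.mul_sum]
      exact Finset.sum_congr rfl fun j _ => by rw [hc j, mul_pow, mul_assoc]
    rw [h3, Nat.mul_succ, add_comm, pow_add, mul_dvd_mul_iff_left (pow_ne_zero _ hπ.ne_zero)] at hb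
    exact hb

/-- Over the fraction field: if `∑ l i ^ p * π ^ i` lies in `B` then so do all `l i`. -/
theorem coeff_mem {B L : Type u} [CommRing B] [IsDomain B] [IsDiscreteValuationRing B] [Field L]
    [Algebra B L] [IsFractionRing B L] {π : B} (hπ : Irreducible π) {p : ℕ} (hp : 0 < p) (l : Fin p → L) (x : B)
    (h : ∑ i, l i ^ p * algebraMap B L π ^ (i : ℕ) = algebraMap B L x) :
    ∀ i, ∃ b : B, algebraMap B L b = l i := by
  classical
  obtain ⟨d, hd⟩ := IsLocalization.exist_integer_multiples (nonZeroDivisors B) Finset.univ l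
  choose c hc using fun i => hd i (Finset.mem_univ i)
  obtain ⟨N, v, hv⟩ := IsDiscreteValuationRing.eq_unit_mul_pow_irreducible (nonZeroDivisors.coe_ne_zero d) hπ
  have hinj := IsFractionRing.injective B L
  have hdvd : π ^ (p * N) ∣ ∑ i, c i ^ p * π ^ (i : ℕ) := by
    refine ⟨(v : B) ^ p * x, hinj ?_⟩
    rw [map_sum]
    simp only [map_mul, map_pow, hc, Algebra.smul_def, mul_pow, mul_assoc]
    rw [← Finset.mul_sum, h, hv, map_mul, map_pow]
    ring
  intro i
  obtain ⟨b, hb⟩ := pow_dvd_coeff hπ.prime N c hdvd i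
  refine ⟨((v⁻¹ : Bˣ) : B) * b, ?_⟩
  have h1 := hc i
  rw [hb, Algebra.smul_def, hv, map_mul (algebraMap B L) (v : B), mul_assoc, map_pow, map_mul, map_pow,
    mul_left_comm] at h1
  have h2 := mul_left_cancel₀ (pow_ne_zero _ (fun e => hπ.ne_zero (hinj (by rw [e, map_zero])))) h1
  have h3 : algebraMap B L ((v⁻¹ : Bˣ) : B) * algebraMap B L (v : B) = 1 := by
    rw [← map_mul, Units.inv_mul, map_one]
  rw [map_mul, h2, ← mul_assoc, h3, one_mul]

/-- A uniformizer is not a `p`-th power in the fraction field. -/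
theorem pow_ne_uniformizer {B L : Type u} [CommRing B] [IsDomain B] [IsDiscreteValuationRing B] [Field L]
    [Algebra B L] [IsFractionRing B L] {π : B} (hπ : Irreducible π) {p : ℕ} (hp : p.Prime) (l : L) :
    l ^ p ≠ algebraMap B L π := by
  intro h
  obtain ⟨b, rfl⟩ := IsIntegrallyClosed.isIntegral_iff.1
    (IsIntegral.of_pow hp.pos (h ▸ (isIntegral_algebraMap : IsIntegral B (algebraMap B L π))))
  rw [← map_pow] at h
  exact (not_irreducible_pow hp.ne_one) (IsFractionRing.injective B L h ▸ hπ)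

/-- In a Nagata DVR of characteristic `p`, an element outside of `L^p[π]` has an expansion whose
first non-representable residue is not a `p`-th power. -/
theorem exists_residue_not_pth_power {B L : Type u} [CommRing B] [IsDomain B] [IsDiscreteValuationRing B]
    [Field L] [Algebra B L] [IsFractionRing B L] {p : ℕ} (hp : p.Prime) [CharP L p] (hB : CAlg.IsNagata B)
    {π : B} (hπ : Irreducible π) (u : B)
    (hu : ¬ ∃ l : Fin p → L, algebraMap B L u = ∑ i, l i ^ p * algebraMap B L π ^ (i : ℕ)) :
    ∃ (m : ℕ) (w : Fin p → B) (t : B), u = ∑ i, w i ^ p * π ^ (i : ℕ) + π ^ m * t ∧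
      ∀ s : B, residue B s ^ p ≠ residue B t := by
  classical
  haveI := Fact.mk hp
  haveI : CharP B p := (RingHom.charP_iff _ (IsFractionRing.injective B L) p).2 ‹_›
  by_contra hne
  push Not at hne
  have happ : ∀ N : ℕ, ∃ (w : Fin p → B) (t : B), u = ∑ i, w i ^ p * π ^ (i : ℕ) + π ^ N * t := by
    intro N
    induction N with
    | zero => exact ⟨0, u, by simp [zero_pow hp.ne_zero]⟩
    | succ N ih =>
      obtain ⟨w, t, hwt⟩ := ih
      obtain ⟨s, hs⟩ := hne N w t hwt
      obtain ⟨e, he⟩ : π ∣ t - s ^ p := by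
        rw [← Ideal.mem_span_singleton, ← hπ.maximalIdeal_eq, ← residue_eq_zero_iff, map_sub, map_pow, hs, sub_self]
      let i₀ : Fin p := ⟨N % p, Nat.mod_lt _ hp.pos⟩
      refine ⟨Function.update w i₀ (w i₀ + π ^ (N / p) * s), e, ?_⟩
      have h1 : ∑ i, Function.update w i₀ (w i₀ + π ^ (N / p) * s) i ^ p * π ^ (i : ℕ) =
          (∑ i, w i ^ p * π ^ (i : ℕ)) + π ^ N * s ^ p := by
        rw [← Finset.add_sum_erase _ _ (Finset.mem_univ i₀), ← Finset.add_sum_erase _ _ (Finset.mem_univ i₀),
          Finset.sum_congr rfl (fun j hj => by rw [Function.update_of_ne (Finset.ne_of_mem_erase hj)]),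
          Function.update_self, add_pow_char, mul_pow, ← pow_mul, add_mul]
        have h2 : π ^ (N / p * p) * π ^ (i₀ : ℕ) = π ^ N := by
          rw [← pow_add]; congr 1; exact Nat.div_add_mod' N p
        rw [← h2]; ring
      rw [h1, hwt, eq_add_of_sub_eq he, pow_succ]; ring
  let Ω := AlgebraicClosure L
  haveI : CharP Ω p := charP_of_injective_algebraMap (algebraMap L Ω).injective p
  obtain ⟨x, hx⟩ := IsAlgClosed.exists_pow_nat_eq (algebraMap B Ω u) hp.pos
  obtain ⟨y, hy⟩ := IsAlgClosed.exists_pow_nat_eq (algebraMap B Ω π) hp.pos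
  have hxS : x ∉ Submodule.span L (Set.range fun i : Fin p => y ^ (i : ℕ)) := by
    intro hmem
    obtain ⟨l, hl⟩ := (Submodule.mem_span_range_iff_exists_fun L).1 hmem
    refine hu ⟨l, (algebraMap L Ω).injective ?_⟩
    rw [← IsScalarTower.algebraMap_apply B L Ω, ← hx, ← hl, sum_pow_char, map_sum]
    refine Finset.sum_congr rfl fun i _ => ?_
    rw [Algebra.smul_def, mul_pow, map_mul, map_pow, map_pow, ← IsScalarTower.algebraMap_apply B L Ω, ← hy]
    congr 1
    rw [← pow_mul, ← pow_mul, mul_comm]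
  obtain ⟨φ, hφx, hφS⟩ := Submodule.exists_dual_map_eq_bot_of_notMem hxS inferInstance
  have hπL : algebraMap B L π ≠ 0 := fun h => hπ.ne_zero (IsFractionRing.injective B L (h.trans (map_zero _).symm))
  let C := Algebra.adjoin B ({x, y, algebraMap L Ω (algebraMap B L π)⁻¹} : Set Ω)
  haveI : Algebra.FiniteType B C :=
    C.fg_iff_finiteType.1 (Subalgebra.fg_def.2 ⟨_, Set.toFinite _, rfl⟩)
  haveI := NagataLib.finite_integralClosure_domain hB C
  let ψ : integralClosure B C →ₗ[B] L :=
    (φ.restrictScalars B).comp (C.val.toLinearMap.comp (integralClosure B C).val.toLinearMap)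
  have hI : IsFractional (nonZeroDivisors B) (LinearMap.range ψ) :=
    FractionalIdeal.isFractional_of_fg (by rw [LinearMap.range_eq_map]; exact Module.Finite.fg_top.map ψ)
  obtain ⟨a, ha, haI⟩ := hI
  set c : L := algebraMap B L a * φ x with hc
  have hall : ∀ M : ℕ, ∃ g : B, c = algebraMap B L g * algebraMap B L π ^ M := by
    intro M
    obtain ⟨w, t, hwt⟩ := happ (p * M)
    let z₀ : Ω := (x - ∑ i, algebraMap B Ω (w i) * y ^ (i : ℕ)) * algebraMap L Ω (algebraMap B L π)⁻¹ ^ M
    have hzC : z₀ ∈ C := mul_mem (sub_mem (Algebra.subset_adjoin (by simp))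
      (sum_mem fun i _ => mul_mem (Subalgebra.algebraMap_mem _ _) (pow_mem (Algebra.subset_adjoin (by simp)) _)))
      (pow_mem (Algebra.subset_adjoin (by simp)) _)
    have hzp : z₀ ^ p = algebraMap B Ω t := by
      have h2 : algebraMap B Ω π * algebraMap L Ω (algebraMap B L π)⁻¹ = 1 := by
        rw [IsScalarTower.algebraMap_apply B L Ω, ← map_mul, mul_inv_cancel₀ hπL, map_one]
      calc z₀ ^ p = (algebraMap B Ω u - ∑ i, algebraMap B Ω (w i) ^ p * algebraMap B Ω π ^ (i : ℕ)) *
            algebraMap L Ω (algebraMap B L π)⁻¹ ^ (p * M) := by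
            rw [mul_pow, sub_pow_char, hx, sum_pow_char, ← pow_mul, mul_comm M]
            congr 2
            exact Finset.sum_congr rfl fun i _ => by rw [mul_pow, ← hy, ← pow_mul, ← pow_mul, mul_comm p]
        _ = (algebraMap B Ω π * algebraMap L Ω (algebraMap B L π)⁻¹) ^ (p * M) * algebraMap B Ω t := by
            rw [hwt, map_add, map_mul, map_pow, map_sum]
            simp only [map_mul, map_pow]
            ring
        _ = _ := by rw [h2, one_pow, one_mul]
    have hzint : IsIntegral B (⟨z₀, hzC⟩ : C) :=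
      (isIntegral_algHom_iff C.val Subtype.val_injective).1
        (IsIntegral.of_pow hp.pos (show IsIntegral B (z₀ ^ p) from hzp ▸ isIntegral_algebraMap))
    obtain ⟨g, hg⟩ := haI _ (LinearMap.mem_range.2 ⟨⟨_, hzint⟩, rfl⟩)
    refine ⟨g, ?_⟩
    have h3 : φ z₀ = (algebraMap B L π)⁻¹ ^ M * φ x := by
      have h4 : z₀ = (algebraMap B L π)⁻¹ ^ M • (x - ∑ i, algebraMap B L (w i) • y ^ (i : ℕ)) := by
        simp only [z₀, Algebra.smul_def, ← IsScalarTower.algebraMap_apply B L Ω, map_pow]
        ring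
      rw [h4, map_smul, map_sub, map_sum, Finset.sum_eq_zero fun i _ => ?_, sub_zero, smul_eq_mul]
      rw [map_smul]
      have : φ (y ^ (i : ℕ)) = 0 := by
        have h5 : φ (y ^ (i : ℕ)) ∈ (Submodule.span L (Set.range fun i : Fin p => y ^ (i : ℕ))).map φ :=
          ⟨_, Submodule.subset_span ⟨i, rfl⟩, rfl⟩
        rwa [hφS, Submodule.mem_bot] at h5
      rw [this, smul_zero]
    change algebraMap B L g = a • φ z₀ at hg
    rw [hg, h3, Algebra.smul_def, hc, inv_pow]
    field_simp
  have hc0 : c ≠ 0 := mul_ne_zero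
    (fun h => nonZeroDivisors.ne_zero ha (IsFractionRing.injective B L (h.trans (map_zero _).symm))) hφx
  obtain ⟨g₀, hg₀⟩ := hall 0
  rw [pow_zero, mul_one] at hg₀
  have hg₀0 : g₀ ≠ 0 := fun h => hc0 (by rw [hg₀, h, map_zero])
  obtain ⟨N, v, hv⟩ := IsDiscreteValuationRing.eq_unit_mul_pow_irreducible hg₀0 hπ
  obtain ⟨g, hg⟩ := hall (N + 1)
  rw [hg₀, ← map_pow, ← map_mul] at hg
  have hdvd : π ^ (N + 1) ∣ π ^ N := by
    have : π ^ (N + 1) ∣ (v : B) * π ^ N := ⟨g, by rw [← hv, IsFractionRing.injective B L hg]; ring⟩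
    exact (Units.dvd_mul_left).1 this
  exact absurd ((pow_dvd_pow_iff hπ.ne_zero hπ.not_isUnit).1 hdvd) (by omega)

/-- Elements of a valuation ring whose fraction field is generated by a `p`-th root `c` of a
uniformizer have coordinates in `B` in the basis `1, c, …`. -/
theorem exists_coeff {B C L M : Type u} [CommRing B] [IsDomain B] [IsDiscreteValuationRing B] [CommRing C]
    [Field L] [Field M] [Algebra B L] [IsFractionRing B L] [Algebra L M] [Algebra B C] [Algebra C M]
    [Algebra B M] [IsScalarTower B L M] [IsScalarTower B C M] [FaithfulSMul C M] [FiniteDimensional L M]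
    {p : ℕ} (hp : p.Prime) [CharP L p] (hdeg : Module.finrank L M = p)
    (hpow : ∀ x : C, ∃ b : B, algebraMap B M b = algebraMap C M x ^ p)
    {π : B} (hπ : Irreducible π) (c : C) (hc : algebraMap C M c ^ p = algebraMap B M π) (x : C) :
    ∃ b : Fin p → B, x = ∑ i, algebraMap B C (b i) * c ^ (i : ℕ) := by
  classical
  haveI := Fact.mk hp
  haveI : CharP M p := charP_of_injective_algebraMap (algebraMap L M).injective p
  set γ := algebraMap C M c with hγ
  have hmin : minpoly L γ = X ^ p - Polynomial.C (algebraMap B L π) :=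
    (minpoly.eq_of_irreducible_of_monic
      (X_pow_sub_C_irreducible_of_prime hp fun l => pow_ne_uniformizer hπ hp l)
      (by simp [hc, ← IsScalarTower.algebraMap_apply B L M]) (monic_X_pow_sub_C _ hp.ne_zero)).symm
  have hnd : (minpoly L γ).natDegree = p := by rw [hmin, natDegree_X_pow_sub_C]
  have hli := linearIndependent_pow (K := L) γ
  rw [hnd] at hli
  have htop := hli.span_eq_top_of_card_eq_finrank' (by rw [Fintype.card_fin, hdeg])
  obtain ⟨l, hl⟩ := (Submodule.mem_span_range_iff_exists_fun L).1 (htop ▸ Submodule.mem_top (x := algebraMap C M x))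
  obtain ⟨b', hb'⟩ := hpow x
  have h1 : ∑ i, l i ^ p * algebraMap B L π ^ (i : ℕ) = algebraMap B L b' := by
    apply (algebraMap L M).injective
    rw [← IsScalarTower.algebraMap_apply B L M, hb', ← hl, sum_pow_char, map_sum]
    refine Finset.sum_congr rfl fun i _ => ?_
    rw [map_mul, map_pow, map_pow, ← IsScalarTower.algebraMap_apply B L M, ← hc, Algebra.smul_def, mul_pow,
      ← pow_mul, ← pow_mul, mul_comm p]
  choose b hb using coeff_mem hπ hp.pos l b' h1
  refine ⟨b, FaithfulSMul.algebraMap_injective C M ?_⟩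
  rw [← hl, map_sum]
  refine Finset.sum_congr rfl fun i _ => ?_
  rw [map_mul, map_pow, ← IsScalarTower.algebraMap_apply B C M, IsScalarTower.algebraMap_apply B L M, hb,
    Algebra.smul_def]

end Groth.Agent.EtRam7
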