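import Groth.Agent.EtRam7.WeakSolMain
import Mathlib

/-! Two valuation extensions over a DVR are dominated in a common field. -/

set_option autoImplicit false
set_option linter.style.haveILetI false
universe u

namespace Groth.Agent.EtRam7

open IsLocalRing TensorProduct

/-- A valuation subring contained in another, with the maximal ideal inside, is equal to it. -/
theorem eq_of_le_of_nonunits_le {F : Type u} [Field F] {W U : ValuationSubring F} (hle : W ≤ U)
    (hn : ∀ x : F, W.valuation x < 1 → U.valuation x < 1) : W = U := by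
  refine le_antisymm hle fun x hx => ?_
  rcases eq_or_ne x 0 with rfl | hx0
  · exact zero_mem _
  by_contra hxW
  have h1 : W.valuation x⁻¹ < 1 := by
    rw [← ValuationSubring.mem_nonunits_iff, ValuationSubring.mem_nonunits_iff_or, inv_inv]
    exact Or.inr hxW
  have h2 := hn _ h1
  rw [← ValuationSubring.mem_nonunits_iff, ValuationSubring.mem_nonunits_iff_or, inv_inv] at h2
  exact h2.elim (fun h => hx0 (inv_eq_zero.1 h)) (fun h => h hx)

/-- A valuation subring dominating a DVR and an extension DVR are dominated jointly in a larger field. -/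
theorem exists_joint_dominating {B B' L L' M : Type u} [CommRing B] [IsDomain B] [IsDiscreteValuationRing B]
    [CommRing B'] [IsDomain B'] [IsLocalRing B'] [Algebra B B'] [IsLocalHom (algebraMap B B')]
    (hBB' : Function.Injective (algebraMap B B'))
    [Field L] [Field L'] [Field M] [Algebra B L] [IsFractionRing B L] [Algebra B' L'] [IsFractionRing B' L']
    [Algebra L L'] (hsq : ∀ b, algebraMap B' L' (algebraMap B B' b) = algebraMap L L' (algebraMap B L b))
    [Algebra L M] (W : ValuationSubring M)
    (hW : EtRam.Dominates B ((algebraMap L M).comp (algebraMap B L)) W) :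
    ∃ (Ω : Type u) (_ : Field Ω) (_ : IsAlgClosed Ω) (ι : L' →+* Ω) (j : M →+* Ω) (U : ValuationSubring Ω),
      ι.comp (algebraMap L L') = j.comp (algebraMap L M) ∧ U.comap j = W ∧
      EtRam.Dominates B' (ι.comp (algebraMap B' L')) U := by
  classical
  letI : Algebra B W := (((algebraMap L M).comp (algebraMap B L)).codRestrict W hW.1).toAlgebra
  haveI hloc : IsLocalHom (algebraMap B W) := isLocalHom_of_dominates _ W hW
  have hinjW : Function.Injective (algebraMap B W) := fun a b h =>
    IsFractionRing.injective B L ((algebraMap L M).injective (congrArg Subtype.val h))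
  haveI : FaithfulSMul B W := (faithfulSMul_iff_algebraMap_injective B W).2 hinjW
  haveI : FaithfulSMul B B' := (faithfulSMul_iff_algebraMap_injective B B').2 hBB'
  haveI : Module.Flat B W := inferInstance
  haveI : Module.Flat B B' := inferInstance
  let k := ResidueField B
  haveI : Nontrivial (ResidueField B' ⊗[k] ResidueField W) := inferInstance
  haveI : TensorProduct.CompatibleSMul B k (ResidueField B') (ResidueField W) := ⟨fun r a b => by
    obtain ⟨r, rfl⟩ := residue_surjective r
    rw [show residue B r = algebraMap B (ResidueField B) r from rfl, algebraMap_smul, algebraMap_smul,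
      TensorProduct.smul_tmul]⟩
  haveI : Nontrivial (ResidueField B' ⊗[B] ResidueField W) :=
    (Algebra.TensorProduct.equivOfCompatibleSMul (R := B) (S := k) (T := B)
      (A := ResidueField B') (B := ResidueField W)).symm.toRingHom.domain_nontrivial
  obtain ⟨Q, hQ⟩ := Ideal.exists_maximal (ResidueField B' ⊗[B] ResidueField W)
  let E := (ResidueField B' ⊗[B] ResidueField W) ⧸ Q
  let ψ : B' ⊗[B] W →+* E := (Ideal.Quotient.mk Q).comp
    (Algebra.TensorProduct.map (IsScalarTower.toAlgHom B B' (ResidueField B'))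
      (IsScalarTower.toAlgHom B W (ResidueField W))).toRingHom
  haveI : Q.IsPrime := hQ.isPrime
  haveI : (RingHom.ker ψ).IsPrime := RingHom.ker_isPrime ψ
  obtain ⟨P, hP, hPle⟩ := Ideal.exists_minimalPrimes_le (I := (⊥ : Ideal (B' ⊗[B] W))) (J := RingHom.ker ψ) bot_le
  haveI : P.IsPrime := hP.1.1
  have hregW : ∀ w : W, w ≠ 0 → (1 : B') ⊗ₜ[B] w ∈ nonZeroDivisors (B' ⊗[B] W) := by
    intro w hw
    have hinj : Function.Injective (LinearMap.lTensor B' (LinearMap.mulLeft B w)) :=
      Module.Flat.lTensor_preserves_injective_linearMap _ fun a b h => mul_left_cancel₀ hw h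
    have heq : ∀ z, LinearMap.lTensor B' (LinearMap.mulLeft B w) z = ((1 : B') ⊗ₜ[B] w) * z := fun z => by
      induction z using TensorProduct.induction_on with
      | zero => simp
      | add a b ha hb => rw [map_add, ha, hb, mul_add]
      | tmul a b => simp
    refine mem_nonZeroDivisors_iff_left.2 fun z hz => hinj ?_
    rw [map_zero, heq, hz]
  have hregB : ∀ b : B', b ≠ 0 → b ⊗ₜ[B] (1 : W) ∈ nonZeroDivisors (B' ⊗[B] W) := by
    intro b hb
    have hinj : Function.Injective (LinearMap.rTensor W (LinearMap.mulLeft B b)) :=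
      Module.Flat.rTensor_preserves_injective_linearMap _ fun a c h => mul_left_cancel₀ hb h
    have heq : ∀ z, LinearMap.rTensor W (LinearMap.mulLeft B b) z = (b ⊗ₜ[B] (1 : W)) * z := fun z => by
      induction z using TensorProduct.induction_on with
      | zero => simp
      | add a c ha hc => rw [map_add, ha, hc, mul_add]
      | tmul a c => simp
    refine mem_nonZeroDivisors_iff_left.2 fun z hz => hinj ?_
    rw [map_zero, heq, hz]
  have hdisj := Ideal.disjoint_nonZeroDivisors_of_mem_minimalPrimes hP
  let T := (B' ⊗[B] W) ⧸ P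
  let Ω := AlgebraicClosure (FractionRing T)
  let q : B' ⊗[B] W →+* Ω :=
    ((algebraMap (FractionRing T) Ω).comp (algebraMap T (FractionRing T))).comp (Ideal.Quotient.mk P)
  have hq0 : ∀ z, q z = 0 ↔ z ∈ P := fun z => by
    rw [← Ideal.Quotient.eq_zero_iff_mem]
    show algebraMap (FractionRing T) Ω (algebraMap T (FractionRing T) (Ideal.Quotient.mk P z)) = 0 ↔ _
    rw [map_eq_zero, map_eq_zero_iff _ (IsFractionRing.injective T (FractionRing T))]
  let ι₀ : B' →+* Ω := q.comp Algebra.TensorProduct.includeLeftRingHom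
  let j₀ : W →+* Ω := q.comp (Algebra.TensorProduct.includeRight : W →ₐ[B] B' ⊗[B] W).toRingHom
  have hι₀ : Function.Injective ι₀ := (injective_iff_map_eq_zero ι₀).2 fun b hb => by
    by_contra h
    exact Set.disjoint_right.1 hdisj (hregB b h) ((hq0 _).1 hb)
  have hj₀ : Function.Injective j₀ := (injective_iff_map_eq_zero j₀).2 fun w hw => by
    by_contra h
    exact Set.disjoint_right.1 hdisj (hregW w h) ((hq0 _).1 hw)
  let ι : L' →+* Ω := IsFractionRing.lift (A := B') hι₀
  let j : M →+* Ω := IsFractionRing.lift (A := W) hj₀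
  have hιb : ∀ b, ι (algebraMap B' L' b) = ι₀ b := IsFractionRing.lift_algebraMap hι₀
  have hjw : ∀ w : W, j (w : M) = j₀ w := IsFractionRing.lift_algebraMap hj₀
  have hsame : ι.comp (algebraMap L L') = j.comp (algebraMap L M) := by
    refine IsLocalization.ringHom_ext (nonZeroDivisors B) (RingHom.ext fun b => ?_)
    show ι (algebraMap L L' (algebraMap B L b)) = j ((algebraMap B W b : W) : M)
    rw [← hsq, hιb, hjw]
    show q (algebraMap B B' b ⊗ₜ[B] (1 : W)) = q ((1 : B') ⊗ₜ[B] algebraMap B W b)
    rw [Algebra.algebraMap_eq_smul_one, Algebra.algebraMap_eq_smul_one, TensorProduct.smul_tmul]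
  let R0 : Subring Ω := q.range
  let I0 : Ideal R0 := (RingHom.ker ψ).map q.rangeRestrict
  have hI0 : I0 ≠ ⊤ := by
    intro h
    obtain ⟨z, hz, hz1⟩ := (Ideal.mem_map_iff_of_surjective q.rangeRestrict q.rangeRestrict_surjective).1
      ((Ideal.eq_top_iff_one _).1 h)
    have h1 : z - 1 ∈ P := by
      rw [← hq0, map_sub, map_one, sub_eq_zero]
      exact congrArg Subtype.val hz1
    exact (RingHom.ker_ne_top ψ) ((Ideal.eq_top_iff_one _).2 (by simpa using sub_mem hz (hPle h1)))
  obtain ⟨U, hRU, hIU⟩ := Ideal.image_subset_nonunits_valuationSubring I0 hI0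
  have hU : ∀ z, q z ∈ U := fun z => hRU ⟨z, rfl⟩
  have hU1 : ∀ z, ψ z = 0 → U.valuation (q z) < 1 := fun z hz =>
    (ValuationSubring.mem_nonunits_iff U).1
      (hIU ⟨q.rangeRestrict z, Ideal.mem_map_of_mem _ (RingHom.mem_ker.2 hz), rfl⟩)
  refine ⟨Ω, inferInstance, inferInstance, ι, j, U, hsame, ?_, fun b => ?_, fun b hb => ?_⟩
  · refine (eq_of_le_of_nonunits_le (fun x hx => ?_) fun x hx => ?_).symm
    · show j x ∈ U
      rw [show x = ((⟨x, hx⟩ : W) : M) from rfl, hjw]
      exact hU _
    · have hxW : x ∈ W := (W.valuation_le_one_iff x).1 hx.le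
      have hmax : (⟨x, hxW⟩ : W) ∈ maximalIdeal W := (W.valuation_lt_one_iff _).2 hx
      have h1 : U.valuation (j x) < 1 := by
        rw [show x = ((⟨x, hxW⟩ : W) : M) from rfl, hjw]
        refine hU1 _ ?_
        show Ideal.Quotient.mk Q ((1 : ResidueField B') ⊗ₜ[B] residue W ⟨x, hxW⟩) = 0
        rw [(residue_eq_zero_iff _).2 hmax, TensorProduct.tmul_zero, map_zero]
      have hxU : x ∈ U.comap j := (U.valuation_le_one_iff _).1 h1.le
      rw [← (U.comap j).valuation_lt_one_iff ⟨x, hxU⟩]
      intro hu
      exact absurd ((U.valuation_lt_one_iff (EtRam.inclOfComap U j ⟨x, hxU⟩)).2 h1)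
        (fun hm => hm (hu.map (EtRam.inclOfComap U j)))
  · show ι (algebraMap B' L' b) ∈ U
    rw [hιb]; exact hU _
  · show U.valuation (ι (algebraMap B' L' b)) < 1
    rw [hιb]
    refine hU1 _ ?_
    show Ideal.Quotient.mk Q (residue B' b ⊗ₜ[B] residue W 1) = 0
    rw [(residue_eq_zero_iff b).2 hb, TensorProduct.zero_tmul, map_zero]

end Groth.Agent.EtRam7
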