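import Groth.Agent.KrullAki.Valuation
import Groth.Agent.NagataLib.IntClosure
import Groth.Prelude.Def_EtRam
import Mathlib

/-! Bounded denominators of coordinates of integral elements; integral multiples in valuation rings. -/

set_option autoImplicit false
set_option linter.style.haveILetI false
universe u

namespace Groth.Agent.EtRam7

open Polynomial

/-- An element algebraic over the ground field and lying in a valuation ring has a multiple by an
integral unit of the valuation ring which is integral. -/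
theorem exists_integral_unit_multiple {B L M : Type u} [CommRing B] [IsDomain B] [IsDiscreteValuationRing B]
    [Field L] [Algebra B L] [IsFractionRing B L] [Field M] [Algebra L M] [Algebra B M] [IsScalarTower B L M]
    [FiniteDimensional L M] (W : ValuationSubring M) (hW : EtRam.Dominates B (algebraMap B M) W) (w : M)
    (hw : w ∈ W) :
    ∃ s : M, IsIntegral B s ∧ IsIntegral B (s * w) ∧ W.valuation s = 1 := by
  classical
  haveI : Algebra.IsAlgebraic B M := ⟨fun x =>
    (IsFractionRing.isAlgebraic_iff B L M).2 (Algebra.IsAlgebraic.isAlgebraic x)⟩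
  obtain ⟨P, hP0, hPw⟩ := Algebra.IsAlgebraic.isAlgebraic (R := B) w
  obtain ⟨ϖ, hϖ⟩ := IsDiscreteValuationRing.exists_irreducible B
  have hinj : Function.Injective (algebraMap B M) := by
    rw [IsScalarTower.algebraMap_eq B L M]
    exact (algebraMap L M).injective.comp (IsFractionRing.injective B L)
  -- some coefficient can be assumed to be a unit
  obtain ⟨Q, hQ0, hQw, i₀, hi₀⟩ : ∃ Q : B[X], Q ≠ 0 ∧ aeval w Q = 0 ∧ ∃ i, IsUnit (Q.coeff i) := by
    suffices h : ∀ (N : ℕ) (Q : B[X]), Q ≠ 0 → aeval w Q = 0 → ¬ C (ϖ ^ N) ∣ Q →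
        ∃ Q : B[X], Q ≠ 0 ∧ aeval w Q = 0 ∧ ∃ i, IsUnit (Q.coeff i) by
      obtain ⟨j, hj⟩ := Polynomial.support_nonempty.2 hP0
      rw [Polynomial.mem_support_iff] at hj
      obtain ⟨N, v, hv⟩ := IsDiscreteValuationRing.eq_unit_mul_pow_irreducible hj hϖ
      refine h (N + 1) P hP0 hPw fun hd => ?_
      have h1 := (C_dvd_iff_dvd_coeff _ _).1 hd j
      rw [hv, Units.dvd_mul_left] at h1
      exact absurd ((pow_dvd_pow_iff hϖ.ne_zero hϖ.not_isUnit).1 h1) (by omega)
    intro N
    induction N with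
    | zero => intro Q _ _ h; exact absurd (by rw [pow_zero, map_one]; exact one_dvd _) h
    | succ N ih =>
      intro Q hQ hQw hnd
      by_cases hu : ∃ i, IsUnit (Q.coeff i)
      · exact ⟨Q, hQ, hQw, hu⟩
      push Not at hu
      obtain ⟨R, rfl⟩ : C ϖ ∣ Q := (C_dvd_iff_dvd_coeff _ _).2 fun i => by
        rw [← Ideal.mem_span_singleton, ← hϖ.maximalIdeal_eq]; exact hu i
      refine ih R (right_ne_zero_of_mul hQ) ?_ fun hd => hnd ?_
      · rw [map_mul, aeval_C, mul_eq_zero] at hQw
        exact hQw.resolve_left fun h => hϖ.ne_zero (hinj (h.trans (map_zero _).symm))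
      · rw [pow_succ', map_mul]; exact mul_dvd_mul_left _ hd
  -- Seidenberg's elements
  set a : ℕ → M := fun i => algebraMap B M (Q.coeff i)
  set n := Q.natDegree
  let u : ℕ → M := fun i => ∑ j ∈ Finset.range (n + 1 - i), a (i + j) * w ^ j
  have hrec : ∀ i, i ≤ n → u i = a i + w * u (i + 1) := by
    intro i hi
    simp only [u]
    rw [show n + 1 - i = (n + 1 - (i + 1)) + 1 by omega, Finset.sum_range_succ', Finset.mul_sum, pow_zero,
      mul_one, add_comm, Nat.add_zero]
    congr 1
    exact Finset.sum_congr rfl fun j _ => by rw [pow_succ', show i + (j + 1) = i + 1 + j by omega]; ring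
  have hu0 : u 0 = 0 := by
    rw [← hQw, aeval_eq_sum_range]
    simp only [u, Nat.sub_zero, zero_add, Algebra.smul_def]
    rfl
  have hint : ∀ i, i ≤ n + 1 → ∀ (U : ValuationSubring M), (∀ b, algebraMap B M b ∈ U) →
      u i ∈ U ∧ (1 ≤ i → u i * w ∈ U) := by
    intro i hi U hU
    by_cases hwU : w ∈ U
    · have h1 : u i ∈ U := sum_mem fun j _ => mul_mem (hU _) (pow_mem hwU j)
      exact ⟨h1, fun _ => mul_mem h1 hwU⟩
    have hw0 : w ≠ 0 := fun h => hwU (h ▸ zero_mem U)
    have hwi : w⁻¹ ∈ U := (U.mem_or_inv_mem w).resolve_left hwU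
    have hall : ∀ k, k ≤ n + 1 → u k ∈ U ∧ (1 ≤ k → u k * w ∈ U) := by
      intro k hk
      induction k with
      | zero => exact ⟨hu0 ▸ zero_mem U, fun h => absurd h (by omega)⟩
      | succ k ih =>
        have h1 := (ih (by omega)).1
        have h2 : u (k + 1) * w = u k - a k := by rw [hrec k (by omega)]; ring
        have h3 : u (k + 1) * w ∈ U := h2 ▸ sub_mem h1 (hU _)
        refine ⟨?_, fun _ => h3⟩
        have := mul_mem h3 hwi
        rwa [mul_inv_cancel_right₀ hw0] at this
    exact hall i hi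
  have hisint : ∀ x : M, (∀ U : ValuationSubring M, (∀ b, algebraMap B M b ∈ U) → x ∈ U) → IsIntegral B x := by
    intro x hx
    obtain ⟨q, hq, hqx⟩ := KrullAki.isIntegral_of_forall_mem (A := (algebraMap B M).range) (x := x)
      fun U hU => hx U fun b => hU ⟨b, rfl⟩
    obtain ⟨q', hq1, -, hq3⟩ := Polynomial.lifts_and_natDegree_eq_and_monic
      ((Polynomial.lifts_iff_coeff_lifts q).2 fun i => RingHom.rangeRestrict_surjective (algebraMap B M) _) hq
    refine ⟨q', hq3, ?_⟩
    rw [← hq1, Polynomial.eval₂_map] at hqx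
    exact hqx
  obtain ⟨i, hi1, hin, hiv⟩ : ∃ i, 1 ≤ i ∧ i ≤ n + 1 ∧ ¬ W.valuation (u i) < 1 := by
    by_contra hall
    push Not at hall
    have hua : ∀ i, i ≤ n + 1 → W.valuation (u i) < 1 := fun i hi => by
      rcases Nat.eq_zero_or_pos i with rfl | hp
      · rw [hu0, map_zero]; exact zero_lt_one
      · exact hall i hp hi
    have hi₀n : i₀ ≤ n := le_natDegree_of_ne_zero hi₀.ne_zero
    have h1 : W.valuation (a i₀) < 1 := by
      rw [show a i₀ = u i₀ - w * u (i₀ + 1) by rw [hrec i₀ hi₀n]; ring]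
      refine lt_of_le_of_lt (W.valuation.map_sub _ _) (max_lt (hua _ (by omega)) ?_)
      rw [map_mul]
      rw [mul_comm]
      exact mul_lt_one_of_lt_of_le (hua _ (by omega)) ((W.valuation_le_one_iff w).2 hw)
    have h2 : IsUnit (⟨a i₀, hW.1 _⟩ : W) := hi₀.map ((algebraMap B M).codRestrict W hW.1)
    exact h1.ne ((W.valuation_eq_one_iff _).1 h2)
  refine ⟨u i, hisint _ fun U hU => (hint i hin U hU).1, hisint _ fun U hU => (hint i hin U hU).2 hi1, ?_⟩
  exact le_antisymm ((W.valuation_le_one_iff _).2 (hint i hin W hW.1).1) (not_lt.1 hiv)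

/-- Over a Nagata DVR, coordinates of integral elements of a finite field extension have bounded
denominators. -/
theorem exists_coord_bound {B L M M₂ : Type u} [CommRing B] [IsDomain B] [IsDiscreteValuationRing B]
    (hB : CAlg.IsNagata B) [Field L] [Algebra B L] [IsFractionRing B L] [Field M] [Algebra L M] [Algebra B M]
    [IsScalarTower B L M] [FiniteDimensional L M] [Field M₂] [Algebra M M₂] [Algebra B M₂]
    [IsScalarTower B M M₂] {ι : Type} [Fintype ι] (bas : Module.Basis ι M M₂) (t : B) (ht0 : t ≠ 0)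
    (ht : ¬ IsUnit t) :
    ∃ d : ℕ, ∀ x : M₂, IsIntegral B x → ∀ i, IsIntegral B (algebraMap B M (t ^ d) * bas.repr x i) := by
  classical
  haveI := hB.1
  obtain ⟨ϖ, hϖ⟩ := IsDiscreteValuationRing.exists_irreducible B
  haveI : Module.Finite M M₂ := Module.Finite.of_basis bas
  let bM := Module.finBasis L M
  have hfrac : algebraMap B M ϖ ≠ 0 := by
    rw [IsScalarTower.algebraMap_apply B L M, Ne, map_eq_zero, IsFractionRing.to_map_eq_zero_iff]
    exact hϖ.ne_zero
  let S : Set M₂ := Set.range (fun q : Fin (Module.finrank L M) × ι => algebraMap M M₂ (bM q.1) * bas q.2) ∪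
    {(algebraMap B M₂ ϖ)⁻¹}
  let C := Algebra.adjoin B S
  haveI : Algebra.FiniteType B C :=
    C.fg_iff_finiteType.1 (Subalgebra.fg_def.2 ⟨S, (Set.finite_range _).union (Set.finite_singleton _), rfl⟩)
  have hL : ∀ l : L, algebraMap M M₂ (algebraMap L M l) ∈ C := by
    intro l
    obtain ⟨b, s, hs, rfl⟩ := IsFractionRing.div_surjective (A := B) l
    obtain ⟨k, v, rfl⟩ := IsDiscreteValuationRing.eq_unit_mul_pow_irreducible (nonZeroDivisors.ne_zero hs) hϖ
    rw [map_div₀, map_div₀, ← IsScalarTower.algebraMap_apply B L M, ← IsScalarTower.algebraMap_apply B L M,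
      ← IsScalarTower.algebraMap_apply B M M₂, ← IsScalarTower.algebraMap_apply B M M₂, div_eq_mul_inv, map_mul, mul_inv,
      map_pow, ← inv_pow]
    refine mul_mem (Subalgebra.algebraMap_mem _ _) (mul_mem ?_ (pow_mem (Algebra.subset_adjoin (Set.mem_union_right _ (Set.mem_singleton _))) _))
    rw [← map_units_inv]
    exact Subalgebra.algebraMap_mem _ _
  have htop : ∀ x : M₂, x ∈ C := by
    intro x
    rw [← bas.sum_repr x]
    refine sum_mem fun i _ => ?_
    rw [← bM.sum_repr (bas.repr x i), Finset.sum_smul]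
    refine sum_mem fun j _ => ?_
    rw [Algebra.smul_def, Algebra.smul_def, map_mul, mul_assoc]
    exact mul_mem (hL _) (Algebra.subset_adjoin (Or.inl ⟨(j, i), rfl⟩))
  haveI := NagataLib.finite_integralClosure_domain hB C
  obtain ⟨gens, hgens⟩ := Module.Finite.fg_top (R := B) (M := integralClosure B C)
  haveI : Algebra.IsAlgebraic B M := ⟨fun x =>
    (IsFractionRing.isAlgebraic_iff B L M).2 (Algebra.IsAlgebraic.isAlgebraic x)⟩
  have hone : ∀ y : M, ∃ d : ℕ, IsIntegral B (algebraMap B M (t ^ d) * y) := by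
    intro y
    obtain ⟨s, hs0, hs⟩ := IsAlgebraic.exists_integral_multiple (Algebra.IsAlgebraic.isAlgebraic (R := B) y)
    obtain ⟨n, v, rfl⟩ := IsDiscreteValuationRing.eq_unit_mul_pow_irreducible hs0 hϖ
    obtain ⟨c, hc⟩ : ϖ ∣ t := by rw [← Ideal.mem_span_singleton, ← hϖ.maximalIdeal_eq]; exact ht
    refine ⟨n, ?_⟩
    have : algebraMap B M (t ^ n) * y =
        algebraMap B M (c ^ n * ((v⁻¹ : Bˣ) : B)) * (((v : B) * ϖ ^ n) • y) := by
      rw [Algebra.smul_def, ← mul_assoc, ← map_mul]
      congr 2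
      rw [hc, mul_pow]
      calc ϖ ^ n * c ^ n = c ^ n * ϖ ^ n * (((v⁻¹ : Bˣ) : B) * (v : B)) := by rw [Units.inv_mul, mul_one, mul_comm]
        _ = _ := by ring
    rw [this]
    exact isIntegral_algebraMap.mul hs
  choose dd hdd using hone
  refine ⟨(gens ×ˢ (Finset.univ : Finset ι)).sup fun q => dd (bas.repr (q.1.1.1) q.2), fun x hx i => ?_⟩
  set d := (gens ×ˢ (Finset.univ : Finset ι)).sup fun q => dd (bas.repr (q.1.1.1) q.2)
  let z : integralClosure B C := ⟨⟨x, htop x⟩,
    (isIntegral_algHom_iff C.val Subtype.val_injective).1 hx⟩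
  have hz : z ∈ Submodule.span B (gens : Set (integralClosure B C)) := hgens ▸ trivial
  suffices h : ∀ z : integralClosure B C, z ∈ Submodule.span B (gens : Set (integralClosure B C)) →
      IsIntegral B (algebraMap B M (t ^ d) * bas.repr (z.1.1) i) from h z hz
  intro z hz
  induction hz using Submodule.span_induction with
  | mem g hg =>
    obtain ⟨k, hk⟩ := Nat.exists_eq_add_of_le
      (Finset.le_sup (f := fun q => dd (bas.repr (q.1.1.1) q.2))
        (Finset.mem_product.2 ⟨hg, Finset.mem_univ i⟩ : (g, i) ∈ gens ×ˢ (Finset.univ : Finset ι)))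
    rw [show d = dd (bas.repr g.1.1 i) + k from hk, pow_add, map_mul, mul_right_comm]
    exact (hdd _).mul isIntegral_algebraMap
  | zero => simpa using isIntegral_zero
  | add g h _ _ hg hh =>
    simp only [AddMemClass.coe_add, map_add, Finsupp.add_apply, mul_add]
    exact hg.add hh
  | smul b g _ hg =>
    have : bas.repr ((b • g : integralClosure B C).1.1) i = algebraMap B M b * bas.repr g.1.1 i := by
      show bas.repr (b • (g.1.1 : M₂)) i = _
      rw [Algebra.smul_def, IsScalarTower.algebraMap_apply B M M₂, ← Algebra.smul_def, map_smul,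
        Finsupp.smul_apply, smul_eq_mul]
    rw [this, mul_left_comm]
    exact isIntegral_algebraMap.mul hg

end Groth.Agent.EtRam7
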