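import Groth.Agent.EtRam7.DegreeP
import Mathlib

/-! Kummer extensions of degree `p` in mixed characteristic. -/

set_option autoImplicit false
set_option linter.style.haveILetI false
universe u

namespace Groth.Agent.EtRam7

open IsLocalRing Polynomial

variable {p : ℕ} [Fact p.Prime]

theorem isPrimitiveRoot_of_aeval {A : Type u} [CommRing A] [IsDomain A] [CharZero A] {ζ : A}
    (hζ : aeval ζ (cyclotomic p ℤ) = 0) : IsPrimitiveRoot ζ p := by
  rw [aeval_def, eval₂_eq_eval_map, map_cyclotomic] at hζ
  exact (isRoot_cyclotomic_iff_charZero (Fact.out (p := p.Prime)).pos).1 hζ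

theorem lambda_facts {A : Type u} [CommRing A] [IsDomain A] [IsLocalRing A] [CharP (ResidueField A) p] {ζ : A}
    (hζ : IsPrimitiveRoot ζ p) :
    1 - ζ ∈ maximalIdeal A ∧ ∃ c : Aˣ, (p : A) = (1 - ζ) ^ (p - 1) * c := by
  have hp : p.Prime := Fact.out
  refine ⟨?_, ?_⟩
  · rw [← residue_eq_zero_iff]
    refine eq_zero_of_pow_eq_zero (n := p) ?_
    rw [map_sub, map_one, sub_pow_char, one_pow, ← map_pow, hζ.pow_eq_one, map_one, sub_self]
  · have h : Associated ((1 - ζ) ^ (p - 1)) (∏ k ∈ Finset.range (p - 1), (1 - ζ ^ (k + 1))) := by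
      rw [show (1 - ζ) ^ (p - 1) = ∏ k ∈ Finset.range (p - 1), (1 - ζ) by rw [Finset.prod_const, Finset.card_range]]
      refine Associated.prod _ _ _ fun k hk => ?_
      have hcop : (k + 1).Coprime p := by
        rw [Nat.coprime_comm, hp.coprime_iff_not_dvd]
        intro hd
        have := Nat.le_of_dvd k.succ_pos hd
        have := Finset.mem_range.1 hk
        omega
      have := (hζ.associated_sub_one_pow_sub_one_of_coprime hcop).neg_neg
      rwa [neg_sub, neg_sub] at this
    have hp1 : p - 1 + 1 = p := Nat.sub_add_cancel hp.one_le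
    rw [IsPrimitiveRoot.prod_one_sub_pow_eq_order (hp1.symm ▸ hζ)] at h
    obtain ⟨c, hc⟩ := h
    refine ⟨c, ?_⟩
    rw [hc, ← Nat.cast_add_one, hp1]

theorem kummerPoly_facts {A : Type u} [CommRing A] [IsDomain A] {l : A} (hl : l ≠ 0) {P : A[X]}
    (hP : C (l ^ p) * P = (1 + C l * X) ^ p - 1) :
    P.Monic ∧ P.natDegree = p := by
  have hp : p.Prime := Fact.out
  have h1 : (1 + C l * X : A[X]) = C l * X + C 1 := by rw [C_1, add_comm]
  have hd1 : (1 + C l * X : A[X]).natDegree = 1 := by rw [h1]; exact natDegree_linear hl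
  have hd : ((1 + C l * X : A[X]) ^ p).natDegree = p := by rw [natDegree_pow, hd1, mul_one]
  have hl' : ((1 + C l * X : A[X]) ^ p).leadingCoeff = l ^ p := by
    rw [leadingCoeff_pow, h1, leadingCoeff_linear hl]
  have hdP : P.natDegree = p := by
    have := congrArg natDegree hP
    rwa [natDegree_C_mul (pow_ne_zero _ hl), ← C_1 (R := A), natDegree_sub_C, C_1, hd] at this
  have hc := congrArg (fun f : A[X] => f.coeff p) hP
  simp only [coeff_C_mul, coeff_sub, coeff_one, if_neg hp.ne_zero, sub_zero] at hc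
  refine ⟨?_, hdP⟩
  rw [Monic, leadingCoeff, hdP]
  rw [show ((1 + C l * X : A[X]) ^ p).coeff p = l ^ p by rw [← hl', leadingCoeff, hd]] at hc
  exact mul_left_cancel₀ (pow_ne_zero p hl) (hc.trans (mul_one _).symm)

theorem aeval_kummerPoly {A R : Type u} [CommRing A] [CommRing R] [Algebra A R] {l : A} {P : A[X]}
    (hP : C (l ^ p) * P = (1 + C l * X) ^ p - 1) (r : R) :
    algebraMap A R l ^ p * aeval r P = (1 + algebraMap A R l * r) ^ p - 1 := by
  have := congrArg (aeval r) hP
  simpa using this

variable {A K L : Type u} [CommRing A] [IsDomain A] [IsDiscreteValuationRing A] [Field K] [Algebra A K]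
  [IsFractionRing A K] [Field L] [Algebra K L] [Algebra A L] [IsScalarTower A K L]

omit [IsDomain A] [IsDiscreteValuationRing A] [Fact p.Prime] in
/-- The value of a monic polynomial differs from the leading power by a smaller amount. -/
theorem valuation_tail {P : A[X]} (hm : P.Monic) (hd : P.natDegree = p) {V : ValuationSubring L}
    (hA : ∀ a : A, algebraMap A L a ∈ V) (z : L) :
    V.valuation (aeval z P - z ^ p) ≤ max 1 (V.valuation z ^ (p - 1)) := by
  conv_lhs => rw [hm.as_sum, hd]
  simp only [map_add, map_pow, aeval_X, map_sum, map_mul, aeval_C, add_sub_cancel_left]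
  refine V.valuation.map_sum_le fun i hi => ?_
  rw [map_mul, map_pow]
  refine (mul_le_of_le_one_left' ((V.valuation_le_one_iff _).2 (hA _))).trans ?_
  rcases le_total (V.valuation z) 1 with h | h
  · exact (pow_le_one₀ zero_le h).trans (le_max_left _ _)
  · exact (pow_le_pow_right₀ h (by have := Finset.mem_range.1 hi; omega)).trans (le_max_right _ _)

theorem monic_pole_val {P : A[X]} (hm : P.Monic) (hd : P.natDegree = p) {π : A} (hπu : ¬ IsUnit π) {z : L} {ξ : K}
    {n : ℕ} (hn : 0 < n) {a : A} (ha : IsUnit a) (hz : aeval z P = algebraMap K L ξ)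
    (hξ : ξ * algebraMap A K π ^ n = algebraMap A K a)
    {V : ValuationSubring L} (hV : EtRam.Dominates A (algebraMap A L) V) :
    V.valuation z ^ p * V.valuation (algebraMap A L π) ^ n = 1 ∧ 1 < V.valuation z := by
  have hp : p.Prime := Fact.out
  have hmul : aeval z P * algebraMap A L π ^ n = algebraMap A L a := by
    rw [hz, IsScalarTower.algebraMap_apply A K L π, IsScalarTower.algebraMap_apply A K L a, ← hξ, map_mul, map_pow]
  have h1 : V.valuation (aeval z P) * V.valuation (algebraMap A L π) ^ n = 1 := by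
    rw [← map_pow, ← map_mul, hmul, valuation_eq_one_of_isUnit hV ha]
  have hlt : V.valuation (algebraMap A L π) < 1 := hV.2 π hπu
  have htail := valuation_tail hm hd hV.1 z
  have hz1 : 1 < V.valuation z := by
    refine not_le.1 fun hle => ?_
    have hpow : V.valuation z ^ p ≤ 1 := pow_le_one₀ zero_le hle
    have h2 : V.valuation (aeval z P) ≤ 1 := by
      rw [← sub_add_cancel (aeval z P) (z ^ p)]
      refine (V.valuation.map_add _ _).trans (max_le (htail.trans (max_le le_rfl (pow_le_one₀ zero_le hle))) ?_)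
      rw [map_pow]; exact hpow
    exact absurd h1 (ne_of_lt (lt_of_le_of_lt (mul_le_of_le_one_left' h2) (pow_lt_one₀ zero_le hlt hn.ne')))
  have h3 : V.valuation (aeval z P) = V.valuation z ^ p := by
    rw [← sub_add_cancel (aeval z P) (z ^ p), Valuation.map_add_eq_of_lt_right, map_pow]
    rw [map_pow]
    refine lt_of_le_of_lt htail (max_lt (one_lt_pow₀ hz1 hp.ne_zero) ?_)
    exact pow_lt_pow_right₀ hz1 (Nat.sub_lt hp.pos one_pos)
  exact ⟨h3 ▸ h1, hz1⟩

theorem monic_totallyRamified {P : A[X]} (hm : P.Monic) (hd : P.natDegree = p) (π : A) (hπ : Irreducible π) {z : L}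
    {ξ : K} {n : ℕ} (hn : 0 < n) (hpn : ¬ p ∣ n) {a : A} (ha : IsUnit a) (hz : aeval z P = algebraMap K L ξ)
    [FiniteDimensional K L] (hfr : Module.finrank K L ≤ p)
    (hξ : ξ * algebraMap A K π ^ n = algebraMap A K a) :
    EtRam.IsTotallyRamified A (algebraMap A L) ∧ Module.finrank K L = p := by
  have hp : p.Prime := Fact.out
  have hn0 : (n : ZMod p) ≠ 0 := fun h => hpn ((ZMod.natCast_eq_zero_iff _ _).1 h)
  obtain ⟨j, hj⟩ : p ∣ ((-(n : ZMod p)⁻¹).val * n + 1) := by
    rw [← ZMod.natCast_eq_zero_iff]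
    push_cast
    rw [ZMod.natCast_zmod_val, neg_mul, inv_mul_cancel₀ hn0, neg_add_cancel]
  set i := (-(n : ZMod p)⁻¹).val
  refine isTotallyRamified_of_elt π hπ hp.pos (z ^ i * algebraMap A L π ^ j) hfr fun V hV => ?_
  obtain ⟨h1, -⟩ := monic_pole_val hm hd hπ.not_isUnit hn ha hz hξ hV
  rw [map_mul, map_pow, map_pow, mul_pow, ← pow_mul, ← pow_mul, mul_comm i p, pow_mul, mul_comm j p, ← hj,
    pow_succ, ← mul_assoc, mul_comm i n, pow_mul, ← mul_pow, h1, one_pow, one_mul]

theorem monic_inseparable [CharP (ResidueField A) p] {P : A[X]} (hm : P.Monic) (hd : P.natDegree = p) (π : A)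
    (hπ : Irreducible π) {z : L} {ξ : K} {n : ℕ} (hn : 0 < n) (hpn : p ∣ n) {a : A}
    (ha : ∀ r : A, residue A a ≠ residue A r ^ p) (hz : aeval z P = algebraMap K L ξ)
    [FiniteDimensional K L] (hfr : Module.finrank K L ≤ p)
    (hξ : ξ * algebraMap A K π ^ n = algebraMap A K a) :
    (∃ V : ValuationSubring L, EtRam.Dominates A (algebraMap A L) V) ∧
      (∀ V V' : ValuationSubring L, EtRam.Dominates A (algebraMap A L) V →
        EtRam.Dominates A (algebraMap A L) V' → V = V') ∧
      ∀ (V : ValuationSubring L) (h : EtRam.Dominates A (algebraMap A L) V),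
        letI : Algebra A V := (RingHom.codRestrict (algebraMap A L) V h.1).toAlgebra
        ∀ [IsLocalHom (algebraMap A V)],
          EtRam.IsWeaklyUnramified A V ∧
            IsPurelyInseparable (ResidueField A) (ResidueField V) ∧
            Module.finrank (ResidueField A) (ResidueField V) = p := by
  have hp : p.Prime := Fact.out
  have hau : IsUnit a := by
    by_contra h
    refine ha 0 ?_
    rw [map_zero, zero_pow hp.ne_zero, residue_eq_zero_iff]
    exact h
  obtain ⟨q, rfl⟩ := hpn
  refine (inseparable_of_elt π hπ (z * algebraMap A L π ^ q) (residue A a) (fun r hr => ?_) hfr fun V hV => ?_).2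
  · obtain ⟨r, rfl⟩ := residue_surjective r
    exact ha r hr.symm
  obtain ⟨h1, hz1⟩ := monic_pole_val hm hd hπ.not_isUnit hn hau hz hξ hV
  have hlt : V.valuation (algebraMap A L π) < 1 := hV.2 π hπ.not_isUnit
  have hy : V.valuation (z * algebraMap A L π ^ q) = 1 :=
    (pow_eq_one_iff.1 (by rw [map_mul, map_pow, mul_pow, ← pow_mul, mul_comm q p, h1] :
      V.valuation (z * algebraMap A L π ^ q) ^ p = 1)).resolve_right hp.ne_zero
  have hyV : z * algebraMap A L π ^ q ∈ V := (V.valuation_le_one_iff _).1 hy.le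
  refine ⟨hyV, fun a' ha' => ?_⟩
  have hsmall : V.valuation ((z * algebraMap A L π ^ q) ^ p - algebraMap A L a) < 1 := by
    have : (z * algebraMap A L π ^ q) ^ p - algebraMap A L a =
        -((aeval z P - z ^ p) * algebraMap A L π ^ (p * q)) := by
      rw [IsScalarTower.algebraMap_apply A K L a, ← hξ, map_mul, map_pow, ← IsScalarTower.algebraMap_apply, ← hz]
      ring
    rw [this, Valuation.map_neg, map_mul, map_pow]
    refine lt_of_le_of_lt (mul_le_mul_left (valuation_tail hm hd hV.1 z) _) ?_
    rw [max_eq_right (one_le_pow₀ hz1.le), ← h1]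
    exact mul_lt_mul_of_pos_right (pow_lt_pow_right₀ hz1 (Nat.sub_lt hp.pos one_pos))
      (zero_lt_iff.2 fun h0 => one_ne_zero (h1.symm.trans (by rw [h0, mul_zero])))
  have hdiff : residue A a' = residue A a := ha'
  rw [← map_pow, eq_comm, ← sub_eq_zero, ← map_sub, residue_eq_zero_iff, ← ValuationSubring.coe_mem_nonunits_iff,
    ValuationSubring.mem_nonunits_iff]
  push_cast
  show V.valuation (algebraMap A L a' - _) < 1
  rw [show algebraMap A L a' - (z * algebraMap A L π ^ q) ^ p =
    algebraMap A L (a' - a) - ((z * algebraMap A L π ^ q) ^ p - algebraMap A L a) by rw [map_sub]; ring]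
  refine V.valuation.map_sub_lt (hV.2 _ fun hu => ?_) hsmall
  exact (isUnit_iff_ne_zero.1 (hu.map (residue A))) (by rw [map_sub, hdiff, sub_self])

section
variable {l : A} {P : A[X]} (hl : l ≠ 0) (hP : C (l ^ p) * P = (1 + C l * X) ^ p - 1)

include hl hP

theorem finite_of_kummer {z : L} {ξ : K} (hz : aeval z P = algebraMap K L ξ)
    (hgen : IntermediateField.adjoin K {z} = ⊤) : FiniteDimensional K L ∧ Module.finrank K L ≤ p := by
  obtain ⟨hm, hd⟩ := kummerPoly_facts hl hP
  set f : K[X] := P.map (algebraMap A K) - C ξ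
  have hdeg : (P.map (algebraMap A K)).natDegree = p := by rw [hm.natDegree_map, hd]
  have hf : f.Monic := (hm.map _).sub_of_left (lt_of_le_of_lt degree_C_le (by
    rw [degree_eq_natDegree (hm.map _).ne_zero, hdeg]; exact_mod_cast (Fact.out (p := p.Prime)).pos))
  have haz : aeval z f = 0 := by simp [f, aeval_map_algebraMap, hz]
  have hint : IsIntegral K z := ⟨f, hf, haz⟩
  have := IntermediateField.adjoin.finiteDimensional hint
  have hfr := IntermediateField.adjoin.finrank hint
  rw [hgen] at this hfr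
  rw [IntermediateField.finrank_top'] at hfr
  refine ⟨Module.Finite.equiv (IntermediateField.topEquiv (F := K) (E := L)).toLinearEquiv, ?_⟩
  rw [hfr]
  refine (natDegree_le_of_dvd (minpoly.dvd K z haz) hf.ne_zero).trans ?_
  simp [f, natDegree_sub_C, hdeg]

theorem galois_of_kummer [CharZero K] {ζ : A} (hζ : IsPrimitiveRoot ζ p) {z : L} {ξ : K}
    (hz : aeval z P = algebraMap K L ξ) (hgen : IntermediateField.adjoin K {z} = ⊤) :
    IsGalois K L ∧ (Module.finrank K L = 1 ∨ Module.finrank K L = p) := by
  have hp : p.Prime := Fact.out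
  obtain ⟨_, -⟩ := finite_of_kummer hl hP hz hgen
  have hζK : IsPrimitiveRoot (algebraMap A K ζ) p := hζ.map_of_injective (IsFractionRing.injective A K)
  set w : L := 1 + algebraMap A L l * z with hw
  set u : K := 1 + algebraMap A K l ^ p * ξ with hu
  have hwu : w ^ p = algebraMap K L u := by
    have := aeval_kummerPoly hP z
    rw [hz] at this
    rw [hw, hu, map_add, map_one, map_mul, map_pow, ← IsScalarTower.algebraMap_apply, this]
    ring
  have hl0 : algebraMap A L l ≠ 0 := fun h => hl (injective_algebraMap_field K (h.trans (map_zero _).symm))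
  have hgw : IntermediateField.adjoin K {w} = ⊤ := by
    refine top_le_iff.1 ((le_of_eq hgen.symm).trans (IntermediateField.adjoin_le_iff.2 ?_))
    intro x hx
    rw [Set.mem_singleton_iff.1 hx]
    have h := IntermediateField.mem_adjoin_simple_self K w
    have h2 : (w - 1) * (algebraMap A L l)⁻¹ ∈ IntermediateField.adjoin K {w} := by
      refine mul_mem (sub_mem h (one_mem _)) (inv_mem ?_)
      rw [IsScalarTower.algebraMap_apply A K L]
      exact IntermediateField.algebraMap_mem _ _
    rwa [show (w - 1) * (algebraMap A L l)⁻¹ = z by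
      rw [hw, add_sub_cancel_left, mul_comm (algebraMap A L l), mul_inv_cancel_right₀ hl0]] at h2
  by_cases hpow : ∃ b : K, b ^ p = u
  · obtain ⟨b, hb⟩ := hpow
    obtain ⟨c, hc⟩ : ∃ c : K, algebraMap K L c = w := by
      by_cases hb0 : b = 0
      · refine ⟨0, ?_⟩
        rw [map_zero, eq_comm]
        refine eq_zero_of_pow_eq_zero (n := p) ?_
        rw [hwu, ← hb, hb0, zero_pow hp.ne_zero, map_zero]
      have hb' : algebraMap K L b ≠ 0 := by simpa using hb0
      haveI : NeZero p := ⟨hp.ne_zero⟩
      obtain ⟨i, -, hi⟩ := (hζK.map_of_injective (algebraMap K L).injective).eq_pow_of_pow_eq_one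
        (show (w / algebraMap K L b) ^ p = 1 by
          rw [div_pow, hwu, ← map_pow, hb, div_self]
          rw [← hb, map_pow]; exact pow_ne_zero _ hb')
      exact ⟨algebraMap A K ζ ^ i * b, by rw [map_mul, map_pow, hi, div_mul_cancel₀ _ hb']⟩
    have hbij : Function.Bijective (algebraMap K L) := ⟨(algebraMap K L).injective, fun x => by
      have hx : x ∈ IntermediateField.adjoin K {w} := by rw [hgw]; trivial
      rw [IntermediateField.adjoin_simple_eq_bot_iff.2 (IntermediateField.mem_bot.2 ⟨c, hc⟩),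
        IntermediateField.mem_bot] at hx
      exact hx⟩
    let e : K ≃ₐ[K] L := AlgEquiv.ofBijective (Algebra.ofId K L) hbij
    exact ⟨IsGalois.of_algEquiv e, Or.inl (by rw [← e.toLinearEquiv.finrank_eq, Module.finrank_self])⟩
  have hirr : Irreducible (X ^ p - C u) := X_pow_sub_C_irreducible_of_prime hp (fun b hb => hpow ⟨b, hb⟩)
  have haw : aeval w (X ^ p - C u) = 0 := by simp [hwu]
  have hint : IsIntegral K w := ⟨_, monic_X_pow_sub_C _ hp.ne_zero, haw⟩
  have hfin : Module.finrank K L = p := by
    have := IntermediateField.adjoin.finrank hint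
    rwa [hgw, IntermediateField.finrank_top', ← minpoly.eq_of_irreducible_of_monic hirr haw
      (monic_X_pow_sub_C _ hp.ne_zero), natDegree_X_pow_sub_C] at this
  refine ⟨?_, Or.inr hfin⟩
  haveI := isSplittingField_X_pow_sub_C_of_root_adjoin_eq_top (K := K) (L := L)
    (by rw [hfin]; exact ⟨_, (mem_primitiveRoots hp.pos).2 hζK⟩)
    (a := u) (α := w) (by rw [hfin]; exact hwu) hgw
  rw [hfin] at this
  exact isGalois_of_isSplittingField_X_pow_sub_C (n := p) ⟨_, (mem_primitiveRoots hp.pos).2 hζK⟩ hirr L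

/-- Integral `ξ`: trivial or unramified. -/
theorem kummer_integral [CharZero K] {ζ : A} (hζ : IsPrimitiveRoot ζ p) (hlm : l ∈ maximalIdeal A) {c : Aˣ}
    (hc : (p : A) = l ^ (p - 1) * c) (π : A) (hπ : Irreducible π) {z : L} {a : A}
    (hz : aeval z P = algebraMap K L (algebraMap A K a)) (hgen : IntermediateField.adjoin K {z} = ⊤) :
    Module.finrank K L = 1 ∨ (EtRam.IsUnramifiedExt A (algebraMap A L) ∧ Module.finrank K L = p) := by
  have hp : p.Prime := Fact.out
  obtain ⟨hm, hd⟩ := kummerPoly_facts hl hP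
  refine (galois_of_kummer hl hP hζ hz hgen).2.imp id fun h => ⟨?_, h⟩
  have hf : (P - C a).Monic := hm.sub_of_left (lt_of_le_of_lt degree_C_le (by
    rw [degree_eq_natDegree hm.ne_zero, hd]; exact_mod_cast hp.pos))
  refine isUnramifiedExt_of_monic (K := K) (P - C a) hf ?_ z ?_ hgen π hπ
  · have hder : derivative P = C (c : A) * (1 + C l * X) ^ (p - 1) := by
      have hd1 : (derivative (C (l ^ p) * P)) = derivative ((1 + C l * X) ^ p - 1) := by rw [hP]
      rw [derivative_C_mul, derivative_sub, derivative_one, sub_zero, derivative_pow, derivative_add, derivative_one,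
        zero_add, derivative_C_mul, derivative_X, mul_one, hc] at hd1
      refine mul_left_cancel₀ (show (C (l ^ p) : A[X]) ≠ 0 by simpa using pow_ne_zero p hl) (hd1.trans ?_)
      rw [map_mul, map_pow, show C (l ^ p) = C l ^ (p - 1) * C l by
        rw [← pow_succ, Nat.sub_add_cancel hp.one_le, map_pow]]
      ring
    rw [derivative_sub, derivative_C, sub_zero, hder, map_mul, map_pow]
    refine IsUnit.mul (AdjoinRoot.mk_C (f := P - C a) (c : A) ▸ c.isUnit.map (AdjoinRoot.of (P - C a))) (IsUnit.pow _ ?_)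
    refine (isUnit_pow_iff hp.ne_zero).1 ?_
    have h1 : AdjoinRoot.mk (P - C a) ((1 + C l * X) ^ p) = AdjoinRoot.of (P - C a) (1 + l ^ p * a) := by
      rw [← AdjoinRoot.mk_C, AdjoinRoot.mk_eq_mk]
      refine ⟨C (l ^ p), ?_⟩
      rw [map_add, map_one, map_mul, mul_comm (P - C a), mul_sub, hP]
      ring
    rw [← map_pow, h1]
    refine IsUnit.map _ ?_
    by_contra hu
    have : (1 : A) ∈ maximalIdeal A := by
      have := sub_mem (show 1 + l ^ p * a ∈ maximalIdeal A from hu)
        (Ideal.mul_mem_right a _ (Ideal.pow_mem_of_mem _ hlm p hp.pos))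
      simpa using this
    exact this isUnit_one
  · rw [map_sub, aeval_C, hz, ← IsScalarTower.algebraMap_apply, sub_self]

end

end Groth.Agent.EtRam7
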