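import Groth.Agent.EtRam7.Tower
import Mathlib

/-! A Galois extension of degree prime to the residue characteristic is tamely ramified. -/

set_option autoImplicit false
set_option linter.style.haveILetI false
universe u

namespace Groth.Agent.EtRam7

open IsLocalRing

theorem isSeparable_of_not_dvd {F E : Type u} [Field F] [Field E] [Algebra F E] [FiniteDimensional F E]
    (p : ℕ) [CharP F p] (hp : ¬ p ∣ Module.finrank F E) : Algebra.IsSeparable F E := by
  rcases CharP.char_is_prime_or_zero F p with hpp | hpp
  · refine ⟨fun x => ?_⟩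
    have hx : IsIntegral F x := Algebra.IsIntegral.isIntegral x
    rcases Polynomial.separable_or p (minpoly.irreducible hx) with h | ⟨-, g, -, hg⟩
    · exact h
    · refine absurd (dvd_trans ⟨g.natDegree, ?_⟩ (minpoly.degree_dvd (K := F) hx)) hp
      rw [← hg, Polynomial.natDegree_expand, mul_comm]
  · subst hpp
    haveI : CharZero F := CharP.charP_to_charZero F
    infer_instance

/-- Residue field and ramification index of a valuation subring equal to a localisation of a Dedekind domain. -/
theorem exists_prime_of_dedekind {B L : Type u} [CommRing B] [IsDomain B] [IsDedekindDomain B] [Field L]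
    [Algebra B L] [IsFractionRing B L] (V : ValuationSubring L) [IsDiscreteValuationRing V]
    (hle : ∀ b : B, algebraMap B L b ∈ V) :
    ∃ (P : Ideal B) (_ : P.IsMaximal) (φ : B ⧸ P →+* ResidueField V),
      P = (maximalIdeal V).comap ((algebraMap B L).codRestrict V hle) ∧ Function.Bijective φ ∧
      (∀ b, φ (Ideal.Quotient.mk P b) = residue V ((algebraMap B L).codRestrict V hle b)) ∧
      ∀ n, (maximalIdeal V ^ n).comap ((algebraMap B L).codRestrict V hle) = P ^ n := by
  let ι : B →+* V := (algebraMap B L).codRestrict V hle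
  let P := (maximalIdeal V).comap ι
  have hP : P.IsPrime := Ideal.IsPrime.comap _
  have hfr : ∀ x : V, ∃ b : B, ∃ s : B, s ∉ P ∧ x * ι s = ι b := by
    intro x
    haveI := hP
    obtain ⟨a, b, hb, hx⟩ := IsFractionRing.div_surjective (A := B) (x : L)
    have hb0 : algebraMap B L b ≠ 0 := IsFractionRing.to_map_ne_zero_of_mem_nonZeroDivisors hb
    have hxab : (x : L) * algebraMap B L b = algebraMap B L a := by rw [← hx, div_mul_cancel₀ _ hb0]
    haveI : ValuationRing (Localization.AtPrime P) := by
      by_cases hP0 : P = ⊥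
      · haveI : IsFractionRing B (Localization.AtPrime P) := by
          have hpc : P.primeCompl = nonZeroDivisors B := Submonoid.ext fun z => by
            rw [Ideal.mem_primeCompl_iff, hP0, Ideal.mem_bot, mem_nonZeroDivisors_iff_ne_zero]
          show IsLocalization (nonZeroDivisors B) _
          rw [← hpc]
          infer_instance
        letI : Field (Localization.AtPrime P) := IsFractionRing.toField B
        infer_instance
      · haveI := IsLocalization.AtPrime.isDiscreteValuationRing_of_dedekind_domain B hP0
          (Localization.AtPrime P)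
        infer_instance
    let ψ : Localization.AtPrime P →+* V := IsLocalization.lift (M := P.primeCompl) (g := ι) fun s => by
      by_contra hu
      exact s.2 hu
    have hψ : ∀ z : B, ψ (algebraMap B _ z) = ι z := fun z => IsLocalization.lift_eq _ z
    obtain ⟨c, hc⟩ | ⟨c, hc⟩ := ValuationRing.dvd_total (algebraMap B (Localization.AtPrime P) b)
      (algebraMap B (Localization.AtPrime P) a)
    · obtain ⟨⟨b', s⟩, hs⟩ := IsLocalization.surj P.primeCompl c
      refine ⟨b', s, s.2, ?_⟩
      have h1 := congrArg ψ hs
      rw [map_mul, hψ, hψ] at h1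
      rw [← h1]
      congr 1
      have h2 := congrArg (fun z => ((ψ z : V) : L)) hc
      simp only [map_mul, hψ] at h2
      refine Subtype.ext (mul_right_cancel₀ hb0 (hxab.trans (h2.trans ?_)))
      exact mul_comm _ _
    · have h2 := congrArg (fun z => ((ψ z : V) : L)) hc
      simp only [map_mul, hψ] at h2
      have h3 : algebraMap B L b = algebraMap B L a * (ψ c : L) := h2
      have h4 : (x : L) * (ψ c : L) = 1 := by
        refine mul_right_cancel₀ hb0 ?_
        rw [one_mul, mul_right_comm, hxab, ← h3]
      have hu : IsUnit c := by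
        by_contra hcu
        obtain ⟨⟨b', s⟩, hs⟩ := IsLocalization.surj P.primeCompl c
        have hbP : b' ∈ P := by
          by_contra hb'
          exact hcu (isUnit_of_mul_isUnit_left (hs ▸ IsLocalization.map_units (Localization.AtPrime P)
            (⟨b', hb'⟩ : P.primeCompl)))
        have h5 := congrArg ψ hs
        rw [map_mul, hψ, hψ] at h5
        have h6 : IsUnit (ψ c * ι s) :=
          (isUnit_iff_exists_inv.2 ⟨x, Subtype.ext (by rw [mul_comm] at h4; exact h4)⟩).mul
            (not_not.1 fun hu => s.2 hu)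
        rw [h5] at h6
        exact hbP h6
      obtain ⟨⟨b', s⟩, hs⟩ := IsLocalization.surj P.primeCompl (hu.unit⁻¹ : (Localization.AtPrime P)ˣ).val
      refine ⟨b', s, s.2, ?_⟩
      have h7 := congrArg ψ hs
      rw [map_mul, hψ, hψ] at h7
      rw [← h7]
      congr 1
      have h8 : ψ c * ψ (hu.unit⁻¹ : (Localization.AtPrime P)ˣ).val = 1 := by
        rw [← map_mul, IsUnit.mul_val_inv, map_one]
      calc x = x * (ψ c * ψ (hu.unit⁻¹ : (Localization.AtPrime P)ˣ).val) := by rw [h8, mul_one]
        _ = (x * ψ c) * ψ (hu.unit⁻¹ : (Localization.AtPrime P)ˣ).val := (mul_assoc _ _ _).symm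
        _ = _ := by rw [show x * ψ c = 1 from Subtype.ext h4, one_mul]
  have hPm : P.IsMaximal := by
    refine hP.isMaximal fun h0 => ?_
    obtain ⟨ϖ, hϖ⟩ := IsDiscreteValuationRing.exists_irreducible V
    obtain ⟨b, s, hs, hx⟩ := hfr ϖ
    have hb : b ∈ P := by
      show ι b ∈ maximalIdeal V
      rw [← hx, hϖ.maximalIdeal_eq]
      exact Ideal.mul_mem_right _ _ (Ideal.mem_span_singleton_self ϖ)
    rw [h0, Ideal.mem_bot] at hb
    rw [hb, map_zero] at hx
    rcases mul_eq_zero.1 hx with h | h
    · exact hϖ.ne_zero h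
    · exact hs (show ι s ∈ maximalIdeal V by rw [h]; exact zero_mem _)
  refine ⟨P, hPm, Ideal.Quotient.lift P ((residue V).comp ι) (fun b hb => (residue_eq_zero_iff _).2 hb), rfl,
    ⟨?_, fun z => ?_⟩, fun b => rfl, fun n => ?_⟩
  · rw [injective_iff_map_eq_zero]
    intro z hz
    obtain ⟨b, rfl⟩ := Ideal.Quotient.mk_surjective z
    exact Ideal.Quotient.eq_zero_iff_mem.2 ((residue_eq_zero_iff _).1 hz)
  · obtain ⟨x, rfl⟩ := residue_surjective z
    obtain ⟨b, s, hs, hx⟩ := hfr x
    letI : Field (B ⧸ P) := Ideal.Quotient.field P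
    refine ⟨Ideal.Quotient.mk P b / Ideal.Quotient.mk P s, ?_⟩
    rw [map_div₀, Ideal.Quotient.lift_mk, Ideal.Quotient.lift_mk, RingHom.comp_apply, RingHom.comp_apply, ← hx,
      map_mul, mul_div_assoc, div_self (by exact fun h => hs ((residue_eq_zero_iff _).1 h)), mul_one]
  · apply le_antisymm
    · intro b hb
      have hgen : ∀ m : ℕ, ∀ y ∈ maximalIdeal V ^ m, ∃ c ∈ P ^ m, ∃ s ∉ P, y * ι s = ι c := by
        intro m
        induction m with
        | zero =>
          intro y _
          obtain ⟨c, s, hs, hc⟩ := hfr y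
          exact ⟨c, by simp, s, hs, hc⟩
        | succ m ih =>
          intro y hy
          obtain ⟨ϖ, hϖ⟩ := IsDiscreteValuationRing.exists_irreducible V
          rw [hϖ.maximalIdeal_eq, Ideal.span_singleton_pow, Ideal.mem_span_singleton] at hy
          obtain ⟨w, rfl⟩ := hy
          obtain ⟨c, hc, s, hs, hcs⟩ := ih (ϖ ^ m * w)
            (Ideal.mul_mem_right _ _ (Ideal.pow_mem_pow (hϖ.maximalIdeal_eq ▸ Ideal.mem_span_singleton_self ϖ) m))
          obtain ⟨d, t, ht, hdt⟩ := hfr ϖ
          refine ⟨c * d, ?_, s * t, fun h => (hP.mem_or_mem h).elim hs ht, ?_⟩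
          · rw [pow_succ]
            refine Ideal.mul_mem_mul hc ?_
            show ι d ∈ maximalIdeal V
            rw [← hdt, hϖ.maximalIdeal_eq]
            exact Ideal.mul_mem_right _ _ (Ideal.mem_span_singleton_self ϖ)
          · rw [map_mul, map_mul, ← hcs, ← hdt, pow_succ]
            ring
      obtain ⟨c, hc, s, hs, hcs⟩ := hgen n (ι b) hb
      rw [← map_mul] at hcs
      have hbs : b * s = c :=
        IsFractionRing.injective B L (congrArg Subtype.val hcs)
      rcases Nat.eq_zero_or_pos n with hn | hn
      · subst hn; simp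
      exact ((Ideal.isPrimary_iff.1 (Ideal.isPrimary_of_isMaximal_radical (by
        rw [Ideal.radical_pow _ hn.ne', hP.radical]; exact hPm))).2
        (hbs ▸ hc : b * s ∈ P ^ n)).resolve_right (by rw [Ideal.radical_pow _ hn.ne', hP.radical]; exact hs)
    · exact (Ideal.le_comap_pow ι n)

/-- A Galois extension of degree prime to the residue characteristic is tamely ramified. -/
theorem isTamelyRamified_of_isGalois {A K L : Type u} [CommRing A] [IsDomain A] [IsDiscreteValuationRing A]
    [Field K] [Algebra A K] [IsFractionRing A K] [Field L] [Algebra K L] [FiniteDimensional K L] [IsGalois K L]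
    (hn : ∀ p : ℕ, p.Prime → CharP (ResidueField A) p → ¬ p ∣ Module.finrank K L) :
    EtRam.IsTamelyRamified A ((algebraMap K L).comp (algebraMap A K)) := by
  intro V hV
  letI : Algebra A V := (((algebraMap K L).comp (algebraMap A K)).codRestrict V hV.1).toAlgebra
  intro hloc
  haveI := isDiscreteValuationRing_of_dominates V hV
  letI : Algebra A L := ((algebraMap K L).comp (algebraMap A K)).toAlgebra
  haveI : IsScalarTower A K L := IsScalarTower.of_algebraMap_eq fun _ => rfl
  haveI : IsScalarTower A V L := IsScalarTower.of_algebraMap_eq fun _ => rfl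
  let B := integralClosure A L
  haveI : Module.Finite A B := IsIntegralClosure.finite A K L B
  haveI : IsFractionRing B L := IsIntegralClosure.isFractionRing_of_finite_extension A K L B
  haveI : IsDedekindDomain B := integralClosure.isDedekindDomain A K L
  haveI : FaithfulSMul A L := (faithfulSMul_iff_algebraMap_injective A L).2
    ((algebraMap K L).injective.comp (IsFractionRing.injective A K))
  have hle : ∀ b : B, algebraMap B L b ∈ V := fun b => by
    obtain ⟨y, hy⟩ := IsIntegrallyClosed.isIntegral_iff.1 ((show IsIntegral A (b : L) from b.2).tower_top (A := V))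
    show (b : L) ∈ V
    rw [← hy]
    exact y.2
  obtain ⟨P, hPm, φ, hPeq, hφ, hφmk, hpow⟩ := exists_prime_of_dedekind (B := B) V hle
  haveI : P.LiesOver (maximalIdeal A) := ⟨by
    ext a
    rw [Ideal.mem_comap, hPeq, Ideal.mem_comap]
    exact ⟨fun h => map_nonunit (algebraMap A V) a h, fun h hu => h (hu.map (algebraMap A V))⟩⟩
  haveI : Module.Flat A B := inferInstance
  letI : MulSemiringAction Gal(L/K) B := IsIntegralClosure.MulSemiringAction A K L B
  haveI : IsGaloisGroup Gal(L/K) A B := IsGaloisGroup.of_isFractionRing _ _ _ K L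
  have hcard := Ideal.ncard_primesOver_mul_ramificationIdxIn_mul_inertiaDegIn (maximalIdeal A) B Gal(L/K)
  rw [IsGalois.card_aut_eq_finrank, Ideal.ramificationIdxIn_eq_ramificationIdx (maximalIdeal A) P Gal(L/K),
    Ideal.inertiaDegIn_eq_inertiaDeg (maximalIdeal A) P Gal(L/K),
    Ideal.inertiaDeg_eq_of_isMaximal (maximalIdeal A) P,
    ← Ideal.ramificationIdx'_eq_ramificationIdx (maximalIdeal A) P (IsDiscreteValuationRing.not_a_field A)] at hcard
  have he : Ideal.ramificationIdx' (maximalIdeal A) (maximalIdeal V) =
      Ideal.ramificationIdx' (maximalIdeal A) P := by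
    unfold Ideal.ramificationIdx'
    congr 1
    ext n
    simp only [Set.mem_setOf_eq]
    rw [← hpow n, ← Ideal.map_le_iff_le_comap, Ideal.map_map]
    rfl
  letI : Algebra (ResidueField A) (B ⧸ P) := (inferInstance : Algebra (A ⧸ maximalIdeal A) (B ⧸ P))
  let φA : (B ⧸ P) ≃ₐ[ResidueField A] ResidueField V :=
    AlgEquiv.ofRingEquiv (f := RingEquiv.ofBijective φ hφ) fun a => by
      obtain ⟨a, rfl⟩ := residue_surjective a
      show φ (Ideal.Quotient.mk P (algebraMap A B a)) = residue V (algebraMap A V a)
      rw [hφmk]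
      rfl
  letI : Field (B ⧸ P) := Ideal.Quotient.field P
  haveI : Module.Finite (A ⧸ maximalIdeal A) (B ⧸ P) := Module.Finite.of_restrictScalars_finite A _ _
  obtain ⟨p, hp⟩ := CharP.exists (ResidueField A)
  refine ⟨?_, fun q hq hqc hdvd => hn q hq hqc ?_⟩
  · haveI : FiniteDimensional (ResidueField A) (B ⧸ P) := ‹Module.Finite (A ⧸ maximalIdeal A) (B ⧸ P)›
    haveI : Algebra.IsSeparable (ResidueField A) (B ⧸ P) := by
      rcases CharP.char_is_prime_or_zero (ResidueField A) p with hpp | hpp
      · exact isSeparable_of_not_dvd p fun hd => hn p hpp hp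
          (hd.trans (hcard ▸ dvd_mul_of_dvd_right (dvd_mul_left _ _) _))
      · subst hpp
        haveI : CharZero (ResidueField A) := CharP.charP_to_charZero _
        infer_instance
    exact Algebra.IsSeparable.of_algHom _ _ φA.symm.toAlgHom
  · rw [← hcard]
    exact (he ▸ hdvd).trans (dvd_mul_of_dvd_right (dvd_mul_right _ _) _)

end Groth.Agent.EtRam7
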