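import Groth.Agent.EtRam7.TotRam
import Groth.Agent.EtRam7.PthPower
import Mathlib

/-! The degree `p` purely inseparable step: tensor fields and the weak solution upstairs. -/

set_option autoImplicit false
set_option linter.style.haveILetI false
universe u

namespace Groth.Agent.EtRam7

open IsLocalRing TensorProduct Polynomial

/-- `M ⊗ K₁` is a field when `L ⊗ K₁` is, `M^p ⊆ L` and `K₁/K` is separable. -/
theorem isField_tensor_of_pow_mem {K L M K₁ : Type u} [Field K] [Field L] [Field M] [Field K₁] [Algebra K L]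
    [Algebra L M] [Algebra K M] [IsScalarTower K L M] [Algebra K K₁] [FiniteDimensional K K₁]
    [Algebra.IsSeparable K K₁] (p : ℕ) [Fact p.Prime] [CharP K p]
    (hpow : ∀ x : M, ∃ l : L, algebraMap L M l = x ^ p) (hLK : IsField (L ⊗[K] K₁)) :
    IsField (M ⊗[K] K₁) := by
  haveI : CharP (M ⊗[K] K₁) p := charP_of_injective_algebraMap (algebraMap K (M ⊗[K] K₁)).injective p
  haveI : Algebra.FormallyUnramified K K₁ := Algebra.FormallyUnramified.of_isSeparable K K₁
  haveI : IsReduced (M ⊗[K] K₁) := Algebra.FormallyUnramified.isReduced_of_field M _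
  let φ : L ⊗[K] K₁ →ₐ[K] M ⊗[K] K₁ :=
    Algebra.TensorProduct.map (IsScalarTower.toAlgHom K L M) (AlgHom.id K K₁)
  have hφ : ∀ z : M ⊗[K] K₁, ∃ w, φ w = z ^ p := by
    intro z
    induction z using TensorProduct.induction_on with
    | zero => exact ⟨0, by rw [map_zero, zero_pow (Fact.out : p.Prime).ne_zero]⟩
    | add a b ha hb =>
      obtain ⟨wa, hwa⟩ := ha
      obtain ⟨wb, hwb⟩ := hb
      exact ⟨wa + wb, by rw [map_add, hwa, hwb, add_pow_char]⟩
    | tmul x a =>
      obtain ⟨l, hl⟩ := hpow x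
      exact ⟨l ⊗ₜ[K] (a ^ p), by simp [φ, Algebra.TensorProduct.tmul_pow, hl]⟩
  refine ⟨⟨0, 1, zero_ne_one⟩, mul_comm, fun {z} hz => ?_⟩
  have hz' : IsUnit z := by
    obtain ⟨w, hw⟩ := hφ z
    have hzp : z ^ p ≠ 0 := pow_ne_zero p hz
    have hw0 : w ≠ 0 := fun h => hzp (by rw [← hw, h, map_zero])
    obtain ⟨w', hw'⟩ := hLK.mul_inv_cancel hw0
    have h1 : IsUnit (z ^ p) := hw ▸ (IsUnit.of_mul_eq_one w' hw').map φ
    exact (isUnit_pow_iff (Fact.out : p.Prime).ne_zero).1 h1
  exact hz'.exists_right_inv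

theorem mem_of_isIntegral {A F : Type u} [CommRing A] [Field F] [Algebra A F] (W : ValuationSubring F)
    (hA : ∀ a, algebraMap A F a ∈ W) {x : F} (hx : IsIntegral A x) : x ∈ W := by
  letI : Algebra A W := ((algebraMap A F).codRestrict W hA).toAlgebra
  haveI : IsScalarTower A W F := IsScalarTower.of_algebraMap_eq fun _ => rfl
  obtain ⟨y, hy⟩ := IsIntegrallyClosed.isIntegral_iff.1 (hx.tower_top (A := W))
  exact hy ▸ y.2

set_option maxHeartbeats 1000000 in
/-- The weak solution for the totally ramified purely inseparable step. -/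
theorem isWeakSolution_insep_step {A B C K M K₁ : Type u} [CommRing A] [CommRing B] [IsDomain B]
    [IsDiscreteValuationRing B] [CommRing C] [IsDomain C] [IsDiscreteValuationRing C]
    [Field K] [Field M] [Field K₁] [Algebra A B] [Algebra B C] [Algebra A C] [IsScalarTower A B C]
    [IsLocalHom (algebraMap B C)] [Algebra C M] [IsFractionRing C M] [Algebra A M] [IsScalarTower A C M]
    [Algebra A K] [Algebra K M] [IsScalarTower A K M] [Algebra K K₁] [FiniteDimensional K K₁]
    [Algebra A K₁] [IsScalarTower A K K₁] (p : ℕ) [Fact p.Prime] [CharP M p] (hdeg : Module.finrank K K₁ = p)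
    (π : A) (hπB : Irreducible (algebraMap A B π)) (ϖ : C) (hϖ : Irreducible ϖ) (v : Bˣ)
    (hϖp : ϖ ^ p = algebraMap B C ((v : B) * algebraMap A B π))
    (hres : ∀ x : C, ∃ b : B, ϖ ∣ x - algebraMap B C b)
    (m : ℕ) (w : Fin p → B) (t : B)
    (hvw : (v : B) = ∑ i, w i ^ p * algebraMap A B π ^ (i : ℕ) + algebraMap A B π ^ m * t)
    (ht : ∀ s : B, residue B s ^ p ≠ residue B t)
    (r₀ b₀ : K₁) (hb₀ : IsIntegral A b₀)
    (hr₀ : r₀ ^ p = algebraMap A K₁ π + algebraMap A K₁ π ^ (m + 2) * b₀) :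
    EtRam.IsWeakSolution C K M K₁ := by
  classical
  have hp : p.Prime := Fact.out
  intro N _ _ _ _ _ _ hgen W hW
  letI : Algebra C N := ((algebraMap M N).comp (algebraMap C M)).toAlgebra
  haveI : IsScalarTower C M N := IsScalarTower.of_algebraMap_eq fun _ => rfl
  letI : Algebra C W := (((algebraMap M N).comp (algebraMap C M)).codRestrict W hW.1).toAlgebra
  haveI : IsScalarTower C W N := IsScalarTower.of_algebraMap_eq fun _ => rfl
  haveI : IsLocalHom (algebraMap C W) := isLocalHom_of_dominates _ W hW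
  letI : Algebra A N := ((algebraMap K₁ N).comp (algebraMap A K₁)).toAlgebra
  haveI : IsScalarTower A K₁ N := IsScalarTower.of_algebraMap_eq fun _ => rfl
  haveI : CharP N p := charP_of_injective_algebraMap (algebraMap M N).injective p
  haveI : Module.Finite M (M ⊗[K] K₁) := inferInstance
  let gt : M ⊗[K] K₁ →ₐ[M] N := Algebra.TensorProduct.lift (Algebra.ofId M N)
    (IsScalarTower.toAlgHom K K₁ N) fun _ _ => Commute.all _ _
  have hgt : Function.Surjective gt := by
    refine gt.range_eq_top.1 (top_le_iff.1 ?_)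
    rw [← hgen]
    refine Algebra.adjoin_le ?_
    rintro _ ⟨x, rfl⟩
    exact ⟨1 ⊗ₜ x, by simp [gt]⟩
  haveI : Module.Finite M N := Module.Finite.of_surjective gt.toLinearMap hgt
  have hNdeg : Module.finrank M N ≤ p := by
    have := LinearMap.finrank_range_le gt.toLinearMap
    rw [LinearMap.range_eq_top.2 (show Function.Surjective gt.toLinearMap from hgt), finrank_top, Module.finrank_baseChange, hdeg] at this
    exact this
  haveI : IsDiscreteValuationRing W := isDiscreteValuationRing_of_dominates_finite (A := C) (K := M) W hW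
  let ι : B →+* W := (algebraMap C W).comp (algebraMap B C)
  have hιA : ∀ a : A, ((ι (algebraMap A B a) : W) : N) = algebraMap A N a := fun a => by
    show algebraMap M N (algebraMap C M (algebraMap B C (algebraMap A B a))) =
      algebraMap K₁ N (algebraMap A K₁ a)
    rw [← IsScalarTower.algebraMap_apply A B C, ← IsScalarTower.algebraMap_apply A C M,
      IsScalarTower.algebraMap_apply A K M, ← IsScalarTower.algebraMap_apply K M N,
      IsScalarTower.algebraMap_apply A K K₁, ← IsScalarTower.algebraMap_apply K K₁ N]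
  have hA : ∀ a, algebraMap A N a ∈ W := fun a => hιA a ▸ (ι (algebraMap A B a)).2
  let P : W := ι (algebraMap A B π)
  let b : W := ⟨algebraMap K₁ N b₀, mem_of_isIntegral W hA hb₀.algebraMap⟩
  set ε : W := 1 + P ^ (m + 1) * b with hε
  have hrN : algebraMap K₁ N r₀ ^ p = ((P * ε : W) : N) := by
    rw [← map_pow, hr₀, map_add, map_mul, map_pow, hε]
    show _ = ((ι (algebraMap A B π) : W) : N) * (1 + ((ι (algebraMap A B π) : W) : N) ^ (m + 1) * algebraMap K₁ N b₀)
    rw [hιA]
    rw [show algebraMap A N π = algebraMap K₁ N (algebraMap A K₁ π) from rfl]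
    ring
  let r : W := ⟨algebraMap K₁ N r₀,
    mem_of_isIntegral W (A := W) (fun a => a.2) (IsIntegral.of_pow hp.pos (hrN ▸ (isIntegral_algebraMap : IsIntegral W (algebraMap W N (P * ε)))))⟩
  have hr : r ^ p = P * ε := Subtype.ext hrN
  have hPne : ¬ IsUnit P := fun h =>
    hπB.not_isUnit (isUnit_of_map_unit (algebraMap B C) _ (isUnit_of_map_unit (algebraMap C W) _ h))
  have hPmax : P ∈ maximalIdeal W := hPne
  have hεu : IsUnit ε := by
    by_contra h
    have h1 : P ^ (m + 1) * b ∈ maximalIdeal W :=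
      Ideal.mul_mem_right _ _ (Ideal.pow_mem_of_mem _ hPmax _ (by omega))
    have h2 := sub_mem (show ε ∈ maximalIdeal W from h) h1
    rw [hε, add_sub_cancel_right] at h2
    exact (maximalIdeal.isMaximal W).ne_top ((Ideal.eq_top_iff_one _).2 h2)
  have hϖW : algebraMap C W ϖ ^ p = ι v * P := by rw [← map_pow, hϖp, map_mul, map_mul]; rfl
  have hvu : IsUnit (ι v) := v.isUnit.map ι
  obtain ⟨Q, hQ⟩ := IsDiscreteValuationRing.exists_irreducible W
  have hinjW : Function.Injective (algebraMap C W) := fun a b h =>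
    IsFractionRing.injective C M ((algebraMap M N).injective (congrArg Subtype.val h))
  obtain ⟨eu, heu, hepos⟩ := DVR7.exists_eq_unit_mul_pow hinjW hϖ hQ
  set e := Ideal.ramificationIdx' (maximalIdeal C) (maximalIdeal W) with he
  have hrne : ¬ IsUnit r := fun h => hPne (isUnit_of_mul_isUnit_left (hr ▸ h.pow p))
  have hrQ : Q ∣ r := by
    rw [← Ideal.mem_span_singleton, ← hQ.maximalIdeal_eq]; exact hrne
  -- `ϖ` divides `r ^ p` exactly `p` times
  have hrϖ : r ^ p * ι v = algebraMap C W ϖ ^ p * ε := by rw [hr, hϖW]; ring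
  obtain ⟨dr, ur, hur⟩ := IsDiscreteValuationRing.eq_unit_mul_pow_irreducible
    (fun h0 : r = 0 => by
      rw [h0, zero_pow hp.ne_zero, zero_mul] at hrϖ
      rcases mul_eq_zero.1 hrϖ.symm with h | h
      · exact hϖ.ne_zero (hinjW ((pow_eq_zero_iff hp.ne_zero).1 h |>.trans (map_zero _).symm))
      · exact hεu.ne_zero h) hQ
  have hdr : dr = e := by
    obtain ⟨vv, hvv⟩ := hvu
    obtain ⟨εu, hεu'⟩ := hεu
    have h1 : ((ur ^ p * vv : Wˣ) : W) * Q ^ (dr * p) = ((eu ^ p * εu : Wˣ) : W) * Q ^ (e * p) := by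
      push_cast
      rw [hvv, hεu', pow_mul, pow_mul]
      rw [hur, heu] at hrϖ
      linear_combination hrϖ
    exact Nat.eq_of_mul_eq_mul_right hp.pos
      (IsDiscreteValuationRing.unit_mul_pow_congr_pow hQ hQ _ _ _ _ h1)
  let c : Wˣ := ur * eu⁻¹
  have hrc : r = c * algebraMap C W ϖ := by
    rw [hur, heu, hdr, show (c : W) = (ur : W) * ((eu⁻¹ : Wˣ) : W) from Units.val_mul _ _]
    calc (ur : W) * Q ^ e = (ur : W) * Q ^ e * (((eu⁻¹ : Wˣ) : W) * (eu : W)) := by rw [Units.inv_mul, mul_one]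
      _ = _ := by ring
  have hϖne : algebraMap C W ϖ ≠ 0 := fun h => hϖ.ne_zero (hinjW (h.trans (map_zero _).symm))
  have hcp : (c : W) ^ p * ι v = ε := by
    apply mul_left_cancel₀ (pow_ne_zero p hϖne)
    rw [← hrϖ, hrc]; ring
  let y : W := ((c⁻¹ : Wˣ) : W)
  have hy : y ^ p * ε = ι v := by
    rw [← hcp, ← mul_assoc, ← mul_pow, Units.inv_mul, one_pow, one_mul]
  let W₀ : W := ∑ i, ι (w i) * r ^ (i : ℕ)
  have hN0 : ((r : W) : N) ≠ 0 := fun h => by
    have : r = 0 := Subtype.ext h
    rw [hrc, mul_eq_zero] at this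
    exact this.elim c.ne_zero hϖne
  let z₀ : N := ((y - W₀ : W) : N) / (r : N) ^ m
  obtain ⟨eW, heW⟩ : ∃ eW : W, y ^ p * ε - W₀ ^ p * ε = P ^ m * (ι t + P * eW) := by
    refine ⟨- ∑ i, (ι (w i) ^ p * P ^ (i : ℕ)) * (b * ∑ j ∈ Finset.range ((i : ℕ) + 1), ε ^ j), ?_⟩
    haveI : CharP W p := (RingHom.charP_iff W.subtype Subtype.val_injective p).2 ‹_›
    have hgeo : ∀ i : ℕ, ε ^ (i + 1) = 1 + P ^ (m + 1) * (b * ∑ j ∈ Finset.range (i + 1), ε ^ j) := fun i => by
      have := geom_sum_mul ε (i + 1)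
      rw [show ε - 1 = P ^ (m + 1) * b by rw [hε]; ring] at this
      linear_combination -this
    have hW0 : W₀ ^ p * ε = ∑ i, ι (w i) ^ p * P ^ (i : ℕ) * ε ^ ((i : ℕ) + 1) := by
      rw [show W₀ = ∑ i, ι (w i) * r ^ (i : ℕ) from rfl, sum_pow_char, Finset.sum_mul]
      refine Finset.sum_congr rfl fun i _ => ?_
      rw [mul_pow, ← pow_mul, mul_comm (i : ℕ) p, pow_mul, hr, mul_pow, pow_succ]; ring
    rw [hy, hW0, hvw, map_add, map_sum, map_mul, map_pow]
    simp only [map_mul, map_pow]
    show ∑ i, ι (w i) ^ p * P ^ (i : ℕ) + P ^ m * ι t - _ = _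
    simp only [hgeo, mul_add, mul_one, Finset.sum_add_distrib, mul_neg, Finset.mul_sum]
    rw [add_sub_add_left_eq_sub, sub_eq_add_neg, ← Finset.sum_neg_distrib]
    congr 1
    rw [← Finset.sum_neg_distrib]
    refine Finset.sum_congr rfl fun i _ => ?_
    simp only [Finset.mul_sum, ← Finset.sum_neg_distrib]
    exact Finset.sum_congr rfl fun j _ => by ring
  have hP0 : (P : N) ≠ 0 := fun h => by
    have h0 : P = 0 := Subtype.ext h
    rw [h0, zero_mul] at hr
    exact hN0 (by rw [(pow_eq_zero_iff hp.ne_zero).1 hr]; rfl)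
  have hzp : z₀ ^ p * (ε : N) ^ (m + 1) = ((ι t + P * eW : W) : N) := by
    have h1 : (r : N) ^ p = (P : N) * (ε : N) := by exact_mod_cast congrArg Subtype.val hr
    have h2 : (((y - W₀ : W) : N)) ^ p * (ε : N) = (P : N) ^ m * ((ι t + P * eW : W) : N) := by
      have h3 := congrArg Subtype.val heW
      push_cast at h3 ⊢
      rw [sub_pow_char, sub_mul]; exact h3
    have hε0 : (ε : N) ≠ 0 := fun h => hεu.ne_zero (Subtype.ext h)
    calc z₀ ^ p * (ε : N) ^ (m + 1)
        = ((y - W₀ : W) : N) ^ p * (ε : N) * (ε : N) ^ m / ((P : N) * (ε : N)) ^ m := by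
          rw [div_pow, ← h1, ← pow_mul, ← pow_mul, mul_comm m p]; ring
      _ = (P : N) ^ m * ((ι t + P * eW : W) : N) * (ε : N) ^ m / ((P : N) * (ε : N)) ^ m := by rw [h2]
      _ = _ := by
          rw [mul_pow]; field_simp
  have hzW : z₀ ∈ W := by
    obtain ⟨ε', hε'⟩ := (hεu.pow (m + 1)).exists_right_inv
    have h1 : z₀ ^ p = (((ι t + P * eW) * ε' : W) : N) := by
      rw [MulMemClass.coe_mul, ← hzp, mul_assoc]
      have h3 : (ε : N) ^ (m + 1) * (ε' : N) = 1 := by exact_mod_cast congrArg Subtype.val hε'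
      rw [h3, mul_one]
    exact mem_of_isIntegral W (A := W) (fun a => a.2) (IsIntegral.of_pow hp.pos (h1 ▸ (isIntegral_algebraMap : IsIntegral W (algebraMap W N ((ι t + P * eW) * ε')))))
  let z : W := ⟨z₀, hzW⟩
  have hz : z ^ p * ε ^ (m + 1) = ι t + P * eW := Subtype.ext (by rw [MulMemClass.coe_mul, SubmonoidClass.coe_pow, SubmonoidClass.coe_pow]; exact hzp)
  have hε1 : residue W ε = 1 := by
    rw [hε, map_add, map_one, (residue_eq_zero_iff _).2
      (Ideal.mul_mem_right _ _ (Ideal.pow_mem_of_mem _ hPmax _ (by omega))), add_zero]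
  have hzres : residue W z ^ p = algebraMap (ResidueField C) (ResidueField W) (residue C (algebraMap B C t)) := by
    have h1 := congrArg (residue W) hz
    rw [map_mul, map_pow, map_pow, hε1, one_pow, mul_one, map_add, map_mul (residue W) P,
      (residue_eq_zero_iff P).2 hPmax, zero_mul, add_zero] at h1
    rw [h1]; rfl
  have hirr : Irreducible (X ^ p - Polynomial.C (residue C (algebraMap B C t)) : (ResidueField C)[X]) := by
    refine X_pow_sub_C_irreducible_of_prime hp fun s hs => ?_
    obtain ⟨x, rfl⟩ := residue_surjective s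
    obtain ⟨s', hs'⟩ := hres x
    refine ht s' ?_
    have h1 : residue C x = residue C (algebraMap B C s') := by
      rw [← sub_eq_zero, ← map_sub, residue_eq_zero_iff, hϖ.maximalIdeal_eq, Ideal.mem_span_singleton]
      exact hs'
    rw [h1] at hs
    exact (algebraMap (ResidueField B) (ResidueField C)).injective (by rw [map_pow]; exact hs)
  have hmin : minpoly (ResidueField C) (residue W z) = X ^ p - Polynomial.C (residue C (algebraMap B C t)) :=
    (minpoly.eq_of_irreducible_of_monic hirr (by simp [hzres]) (monic_X_pow_sub_C _ hp.ne_zero)).symm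
  have hli := linearIndependent_pow (K := ResidueField C) (residue W z)
  rw [hmin, natDegree_X_pow_sub_C] at hli
  have hli2 := (LinearIndependent.iff_fractionRing (R := C) (K := M)).1
    ((DVR7.linearIndependent_pow_mul hinjW hQ (fun i : Fin p => z ^ (i : ℕ)) (by simpa using hli)).map'
      (IsScalarTower.toAlgHom C W N).toLinearMap (LinearMap.ker_eq_bot.2 Subtype.val_injective))
  have hcard := hli2.fintype_card_le_finrank.trans hNdeg
  rw [Fintype.card_prod, Fintype.card_fin, Fintype.card_fin, ← he] at hcard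
  have he1 : e = 1 := by
    have : e * p ≤ 1 * p := by rw [one_mul]; exact hcard
    exact le_antisymm (Nat.le_of_mul_le_mul_right this hp.pos) hepos
  letI : Algebra (W.comap (algebraMap K₁ N)) W := (EtRam.inclOfComap W (algebraMap K₁ N)).toAlgebra
  have hmax : maximalIdeal W = Ideal.span {r} := by
    rw [hQ.maximalIdeal_eq, hur, hdr, he1, pow_one, mul_comm, Ideal.span_singleton_mul_right_unit ur.isUnit]
  refine le_antisymm (Ideal.map_le_iff_le_comap.2 fun x hx => ?_) ?_
  · exact fun h => hx ((EtRam.isLocalHom_inclOfComap W (algebraMap K₁ N)).map_nonunit x h)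
  rw [hmax, Ideal.span_singleton_le_iff_mem]
  let r' : W.comap (algebraMap K₁ N) := ⟨r₀, r.2⟩
  exact Ideal.mem_map_of_mem (EtRam.inclOfComap W (algebraMap K₁ N))
    (show r' ∈ maximalIdeal _ from fun h => hrne (h.map (EtRam.inclOfComap W (algebraMap K₁ N))))

end Groth.Agent.EtRam7
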