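import Groth.Agent.EtRam7.Abhyankar
import Groth.Agent.EtRam7.SepOfGeomRed
import Mathlib

/-! The Kummer DVR `A[X]/(X^n - π)`. -/

set_option autoImplicit false
set_option linter.style.haveILetI false
universe u

namespace Groth.Agent.EtRam7

open Polynomial

theorem exists_kummerRing (A : Type u) [CommRing A] [IsDomain A] [IsDiscreteValuationRing A] (π : A)
    (hπ : Irreducible π) (n : ℕ) (hn : 0 < n) :
    ∃ (_ : IsDomain (AdjoinRoot (X ^ n - C π : A[X]))) (_ : IsDiscreteValuationRing (AdjoinRoot (X ^ n - C π : A[X]))),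
      Module.Finite A (AdjoinRoot (X ^ n - C π : A[X])) ∧
      Function.Injective (algebraMap A (AdjoinRoot (X ^ n - C π : A[X]))) ∧
      IsLocalRing.maximalIdeal (AdjoinRoot (X ^ n - C π : A[X])) = Ideal.span {AdjoinRoot.root (X ^ n - C π)} ∧
      AdjoinRoot.root (X ^ n - C π) ^ n = algebraMap A (AdjoinRoot (X ^ n - C π : A[X])) π ∧
      ∀ b : AdjoinRoot (X ^ n - C π : A[X]), ∃ a : A, ∃ b' : AdjoinRoot (X ^ n - C π : A[X]),
        b = algebraMap A _ a + AdjoinRoot.root (X ^ n - C π) * b' := by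
  classical
  set f := (X ^ n - C π : A[X]) with hf
  set B := AdjoinRoot f
  set m := IsLocalRing.maximalIdeal A with hm
  have hmπ : m = Ideal.span {π} := hπ.maximalIdeal_eq
  have hn0 : n ≠ 0 := by omega
  have hmonic : f.Monic := monic_X_pow_sub_C π hn0
  have hdeg : f.natDegree = n := natDegree_X_pow_sub_C
  have hπm : π ∈ m := hmπ ▸ Ideal.mem_span_singleton_self π
  have heis : f.IsEisensteinAt m := by
    refine hmonic.isEisensteinAt_of_mem_of_notMem (Ideal.IsPrime.ne_top inferInstance) (fun {i} hi => ?_) ?_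
    · rw [hf, coeff_sub, coeff_X_pow, if_neg (by omega), zero_sub, coeff_C]
      split
      · exact neg_mem hπm
      · simp
    · rw [hf, coeff_sub, coeff_X_pow, if_neg (by omega), zero_sub, coeff_C_zero, neg_mem_iff, hmπ,
        Ideal.span_singleton_pow, Ideal.mem_span_singleton]
      intro ⟨c, hc⟩
      have h1 : π * (π * c) = π * 1 := by rw [mul_one, ← mul_assoc, ← sq]; exact hc.symm
      exact hπ.not_isUnit (IsUnit.of_mul_eq_one _ (mul_left_cancel₀ hπ.ne_zero h1))
  have hirr : Irreducible f := heis.irreducible inferInstance hmonic.isPrimitive (by omega)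
  have : IsDomain B := AdjoinRoot.isDomain_of_prime hirr.prime
  have : Module.Finite A B := hmonic.finite_adjoinRoot
  have : IsNoetherianRing B := IsNoetherianRing.of_finite A B
  set r := AdjoinRoot.root f with hr
  have hrn : r ^ n = algebraMap A B π := by
    have := AdjoinRoot.eval₂_root f
    simp only [hf, eval₂_sub, eval₂_pow, eval₂_X, eval₂_C, sub_eq_zero] at this
    exact this
  have hinj : Function.Injective (algebraMap A B) :=
    AdjoinRoot.of.injective_of_degree_ne_zero (by rw [degree_X_pow_sub_C (by omega)]; exact_mod_cast hn0)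
  have hsplit : ∀ b : B, ∃ a : A, ∃ b' : B, b = algebraMap A B a + r * b' := by
    intro b
    obtain ⟨P, rfl⟩ := AdjoinRoot.mk_surjective b
    refine ⟨P.coeff 0, AdjoinRoot.mk f P.divX, ?_⟩
    conv_lhs => rw [← X_mul_divX_add P, map_add, map_mul, AdjoinRoot.mk_X, AdjoinRoot.mk_C]
    rw [add_comm]; rfl
  have hint : Algebra.IsIntegral A B := Algebra.IsIntegral.of_finite A B
  have hmax : ∀ M : Ideal B, M.IsMaximal → M = Ideal.span {r} := by
    intro M hM
    have hc : (M.comap (algebraMap A B)).IsMaximal := Ideal.isMaximal_comap_of_isIntegral_of_isMaximal M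
    have hcm : M.comap (algebraMap A B) = m := IsLocalRing.eq_maximalIdeal hc
    have hrM : r ∈ M := hM.isPrime.mem_of_pow_mem n (by rw [hrn, ← Ideal.mem_comap, hcm]; exact hπm)
    refine le_antisymm (fun b hb => ?_) ((Ideal.span_singleton_le_iff_mem _).2 hrM)
    obtain ⟨a, b', rfl⟩ := hsplit b
    have ha : a ∈ m := hcm ▸ Ideal.mem_comap.2 ((Ideal.add_mem_iff_left M (Ideal.mul_mem_right _ _ hrM)).1 hb)
    rw [hmπ, Ideal.mem_span_singleton] at ha
    obtain ⟨c, rfl⟩ := ha
    refine add_mem ?_ (Ideal.mul_mem_right _ _ (Ideal.mem_span_singleton_self r))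
    rw [map_mul, ← hrn, Ideal.mem_span_singleton]
    exact Dvd.dvd.mul_right (dvd_pow_self r hn0) _
  have : IsLocalRing B := by
    obtain ⟨M, hM⟩ := Ideal.exists_maximal B
    exact IsLocalRing.of_unique_max_ideal ⟨M, hM, fun M' hM' => (hmax M' hM').trans (hmax M hM).symm⟩
  have hmaxB : IsLocalRing.maximalIdeal B = Ideal.span {r} := hmax _ inferInstance
  have hnf : ¬ IsField B := by
    rw [IsLocalRing.isField_iff_maximalIdeal_eq, hmaxB, Ideal.span_singleton_eq_bot]
    intro h
    rw [h, zero_pow hn0] at hrn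
    exact hπ.ne_zero (hinj (by rw [← hrn, map_zero]))
  have hdvr : IsDiscreteValuationRing B :=
    (((IsDiscreteValuationRing.TFAE B hnf).out 4 0 :) : (IsLocalRing.maximalIdeal B).IsPrincipal ↔ IsDiscreteValuationRing B).1 ⟨⟨r, hmaxB⟩⟩
  exact ⟨inferInstance, hdvr, inferInstance, hinj, hmaxB, hrn, hsplit⟩

end Groth.Agent.EtRam7
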