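import Groth.Agent.EtRam7.SepStep
import Mathlib

/-! The good property passes from the purely inseparable factor to the nearby separable factor. -/

set_option autoImplicit false
set_option linter.style.haveILetI false
universe u

namespace Groth.Agent.EtRam7

open Polynomial IsLocalRing

theorem good_of_transfer {K₂ K₃ M M₂ M₃ : Type u} [Field K₂] [Field K₃] [Field M] [Field M₂] [Field M₃]
    [Algebra K₂ M₂] [Algebra K₃ M₃] [Algebra M M₂] [Algebra M M₃]
    (W₂ : ValuationSubring M₂) [IsDiscreteValuationRing W₂] (W₃ : ValuationSubring M₃)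
    [IsDiscreteValuationRing (W₂.comap (algebraMap K₂ M₂))]
    (hW : W₂.comap (algebraMap M M₂) = W₃.comap (algebraMap M M₃)) (π : M) (hπ0 : π ≠ 0)
    (hπ : W₃.valuation (algebraMap M M₃ π) < 1)
    (Φ : M₂ →ₗ[M] M₃) (hsurj : Function.Surjective Φ) (h1 : Φ 1 = 1) (p : ℕ) (hp : 0 < p)
    (hpow : ∀ x : M₂, ∃ m : M, x ^ p = algebraMap M M₂ m)
    (hmul : ∀ x y : M₂, x ∈ W₂ → y ∈ W₂ →
      ∃ e : M₃, e ∈ W₃ ∧ Φ x * Φ y - Φ (x * y) = algebraMap M M₃ π ^ 2 * e)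
    (Φ₀ : K₂ → K₃) (hΦ₀ : Function.Surjective Φ₀)
    (hcompat : ∀ y : K₂, Φ (algebraMap K₂ M₂ y) = algebraMap K₃ M₃ (Φ₀ y))
    (hgood : Good W₂ (algebraMap K₂ M₂)) : Good W₃ (algebraMap K₃ M₃) := by
  obtain ⟨hwu, hgr⟩ := hgood
  letI : Algebra (W₂.comap (algebraMap K₂ M₂)) W₂ := (EtRam.inclOfComap W₂ (algebraMap K₂ M₂)).toAlgebra
  obtain ⟨ϖ, hϖ⟩ := IsDiscreteValuationRing.exists_irreducible (W₂.comap (algebraMap K₂ M₂))
  unfold EtRam.IsWeaklyUnramified at hwu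
  rw [hϖ.maximalIdeal_eq, Ideal.map_span, Set.image_singleton] at hwu
  have hθ : Irreducible (algebraMap _ W₂ ϖ) := (IsDiscreteValuationRing.irreducible_iff_uniformizer _).2 hwu.symm
  obtain ⟨hmem, lam, hmax, hlam⟩ := transfer W₂ W₃ hW π hπ0 hπ Φ hsurj h1 p hp hpow hmul _ hθ
  have hto : ∀ y : W₂.comap (algebraMap K₂ M₂), algebraMap K₃ M₃ (Φ₀ y) ∈ W₃ := fun y => by
    rw [← hcompat]; exact (hmem _).2 y.2
  refine ⟨?_, ?_⟩
  · letI : Algebra (W₃.comap (algebraMap K₃ M₃)) W₃ := (EtRam.inclOfComap W₃ (algebraMap K₃ M₃)).toAlgebra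
    refine le_antisymm (Ideal.map_le_iff_le_comap.2 fun x hx h =>
      hx ((EtRam.isLocalHom_inclOfComap W₃ (algebraMap K₃ M₃)).map_nonunit x h)) ?_
    rw [hmax, Ideal.span_singleton_le_iff_mem]
    let v₃ : W₃.comap (algebraMap K₃ M₃) := ⟨Φ₀ ϖ, hto ϖ⟩
    have he : EtRam.inclOfComap W₃ (algebraMap K₃ M₃) v₃ =
        ⟨Φ ((algebraMap _ W₂ ϖ : W₂) : M₂), (hmem _).2 (algebraMap _ W₂ ϖ).2⟩ :=
      Subtype.ext (hcompat _).symm
    have hv : v₃ ∈ maximalIdeal _ := by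
      intro hu
      have h2 := hu.map (EtRam.inclOfComap W₃ (algebraMap K₃ M₃))
      rw [he] at h2
      exact (show _ ∈ maximalIdeal W₃ from hmax ▸ Ideal.mem_span_singleton_self _) h2
    have h3 := Ideal.mem_map_of_mem (EtRam.inclOfComap W₃ (algebraMap K₃ M₃)) hv
    rw [he] at h3
    exact h3
  · refine isGeometricallyReduced_transfer (ResidueField.map (EtRam.inclOfComap W₂ (algebraMap K₂ M₂)))
      (ResidueField.map (EtRam.inclOfComap W₃ (algebraMap K₃ M₃))) lam (fun y => ?_) (fun z => ?_) hgr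
    · obtain ⟨y, rfl⟩ := residue_surjective y
      refine ⟨residue _ ⟨Φ₀ y, hto y⟩, ?_⟩
      rw [ResidueField.map_residue, ResidueField.map_residue, hlam]
      exact congrArg (residue W₃) (Subtype.ext (hcompat _).symm)
    · obtain ⟨z, rfl⟩ := residue_surjective z
      obtain ⟨y, hy⟩ := hΦ₀ (z : K₃)
      have hyW : algebraMap K₂ M₂ y ∈ W₂ := (hmem _).1 (by rw [hcompat, hy]; exact z.2)
      refine ⟨residue _ ⟨y, hyW⟩, ?_⟩
      rw [ResidueField.map_residue, ResidueField.map_residue, hlam]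
      refine congrArg (residue W₃) (Subtype.ext ?_)
      show Φ (algebraMap K₂ M₂ y) = algebraMap K₃ M₃ z
      rw [hcompat, hy]

end Groth.Agent.EtRam7
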