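import Groth.Agent.EtRam7.Transfer
import Groth.Agent.EtRam7.IntBound
import Groth.Agent.EtRam7.Reflect
import Groth.Agent.HenzFib7.Basic
import Mathlib

/-! Preparations for replacing a purely inseparable step by a separable one. -/

set_option autoImplicit false
set_option linter.style.haveILetI false
universe u

namespace Groth.Agent.EtRam7

open Polynomial IsLocalRing TensorProduct

/-- Transport of geometric reducedness along an isomorphism of extensions. -/
theorem isGeometricallyReduced_transfer {k₂ k₃ F₂ F₃ : Type u} [Field k₂] [Field k₃] [Field F₂] [Field F₃]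
    (g₂ : k₂ →+* F₂) (g₃ : k₃ →+* F₃) (lam : F₂ ≃+* F₃)
    (h₁ : ∀ y, ∃ z, g₃ z = lam (g₂ y)) (h₂ : ∀ z, ∃ y, lam (g₂ y) = g₃ z)
    (hGR : @Algebra.IsGeometricallyReduced k₂ F₂ _ _ g₂.toAlgebra) :
    @Algebra.IsGeometricallyReduced k₃ F₃ _ _ g₃.toAlgebra := by
  letI : Algebra k₂ F₂ := g₂.toAlgebra
  letI : Algebra k₂ F₃ := (lam.toRingHom.comp g₂).toAlgebra
  letI : Algebra k₃ F₃ := g₃.toAlgebra
  let φ : F₃ →ₐ[k₂] F₂ := { lam.symm.toRingHom with commutes' := fun y => lam.symm_apply_apply (g₂ y) }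
  haveI : Algebra.IsGeometricallyReduced k₂ F₂ := hGR
  haveI : Algebra.IsGeometricallyReduced k₂ F₃ := Algebra.IsGeometricallyReduced.of_injective φ lam.symm.injective
  choose w hw using h₂
  have hwinj : ∀ y y' : k₂, lam (g₂ y) = lam (g₂ y') → y = y' := fun y y' h => g₂.injective (lam.injective h)
  let e : k₃ →+* k₂ :=
    { toFun := w
      map_one' := hwinj _ _ (by rw [hw, map_one, map_one, map_one])
      map_zero' := hwinj _ _ (by rw [hw, map_zero, map_zero, map_zero])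
      map_add' := fun a b => hwinj _ _ (by rw [map_add, map_add, hw, hw, hw, map_add])
      map_mul' := fun a b => hwinj _ _ (by rw [map_mul, map_mul, hw, hw, hw, map_mul]) }
  letI : Algebra k₃ k₂ := e.toAlgebra
  haveI : IsScalarTower k₃ k₂ F₃ := IsScalarTower.of_algebraMap_eq fun z => (hw z).symm
  have hesurj : Function.Surjective e := fun y => by
    obtain ⟨z, hz⟩ := h₁ y
    exact ⟨z, hwinj _ _ ((hw z).trans hz)⟩
  haveI : Algebra.IsSeparable k₃ k₂ := ⟨fun y => by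
    obtain ⟨z, rfl⟩ := hesurj y
    exact isSeparable_algebraMap z⟩
  haveI := isGeometricallyReduced_of_isSeparable k₃ k₂
  exact isGeometricallyReduced_trans k₃ k₂ F₃

/-- A linear map onto the powers of a root of a monic polynomial is surjective onto the algebra it generates. -/
theorem surjective_of_adjoin {F V N : Type u} [Field F] [AddCommGroup V] [Module F V] [CommRing N] [Algebra F N]
    {p : ℕ} (v : Fin p → V) (Φ : V →ₗ[F] N) (β : N) (hΦ : ∀ i, Φ (v i) = β ^ (i : ℕ)) (f : F[X]) (hf : f.Monic)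
    (hdeg : f.natDegree = p) (hβ : aeval β f = 0) (hgen : Algebra.adjoin F {β} = ⊤) : Function.Surjective Φ := by
  intro z
  have hz : z ∈ Algebra.adjoin F {β} := hgen ▸ Algebra.mem_top
  rw [Algebra.adjoin_singleton_eq_range_aeval, AlgHom.mem_range] at hz
  obtain ⟨P, rfl⟩ := hz
  rw [← aeval_modByMonic_eq_self_of_root hβ]
  rcases eq_or_ne (P %ₘ f) 0 with h0 | h0
  · exact ⟨0, by rw [h0, map_zero, map_zero]⟩
  have hlt : (P %ₘ f).natDegree < p := by
    rw [← hdeg, Polynomial.natDegree_lt_natDegree_iff h0]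
    exact degree_modByMonic_lt P hf
  refine ⟨∑ i : Fin p, (P %ₘ f).coeff i • v i, ?_⟩
  rw [aeval_eq_sum_range' hlt, map_sum, ← Fin.sum_univ_eq_sum_range]
  exact Finset.sum_congr rfl fun i _ => by rw [map_smul, hΦ]

/-- At every prime of `L ⊗ K₁`, the element `a` is not a `p`-th power. -/
theorem not_pow_eq_mod_prime {K L K₁ K₂ : Type u} [Field K] [Field L] [Field K₁] [Field K₂] [Algebra K L]
    [Algebra K K₁] [Algebra K K₂] [Algebra K₁ K₂] [IsScalarTower K K₁ K₂] [FiniteDimensional K K₁]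
    [Algebra.IsGeometricallyReduced K L] {p : ℕ} [Fact p.Prime] [CharP K p] (a : K₁) (α : K₂)
    (hα : α ^ p = algebraMap K₁ K₂ a) (hαn : α ∉ (algebraMap K₁ K₂).range)
    (P : Ideal (L ⊗[K] K₁)) [P.IsPrime] (m : (L ⊗[K] K₁) ⧸ P) :
    m ^ p ≠ Ideal.Quotient.mk P ((1 : L) ⊗ₜ[K] a) := by
  classical
  intro hm
  have hp : p.Prime := Fact.out
  obtain ⟨z, rfl⟩ := Ideal.Quotient.mk_surjective m
  haveI : IsReduced (K₁ ⊗[K] L) := FBaseLib.isReduced_field_tensor L K₁
  haveI : IsReduced (L ⊗[K] K₁) :=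
    isReduced_of_injective (Algebra.TensorProduct.comm K L K₁) (AlgEquiv.injective _)
  haveI : IsReduced (K₂ ⊗[K] L) := FBaseLib.isReduced_field_tensor L K₂
  haveI : IsReduced (L ⊗[K] K₂) :=
    isReduced_of_injective (Algebra.TensorProduct.comm K L K₂) (AlgEquiv.injective _)
  haveI : Algebra.IsIntegral L (L ⊗[K] K₁) := Algebra.IsIntegral.of_finite _ _
  set q := z ^ p - (1 : L) ⊗ₜ[K] a with hq
  have hqP : q ∈ P := by
    rw [← Ideal.Quotient.eq_zero_iff_mem, hq, map_sub, map_pow, hm, sub_self]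
  obtain ⟨y, hy⟩ := HenzFib7.exists_sq_mul_eq L (L ⊗[K] K₁) q
  set e := 1 - q * y with he
  have heq : e * q = 0 := by rw [he]; linear_combination -hy
  have heP : e ∉ P := fun h =>
    (Ideal.IsPrime.ne_top ‹_›) ((Ideal.eq_top_iff_one _).2 (by
      simpa [he] using add_mem h (Ideal.mul_mem_right y P hqP)))
  let φ : L ⊗[K] K₁ →ₐ[K] L ⊗[K] K₂ :=
    Algebra.TensorProduct.map (AlgHom.id K L) (IsScalarTower.toAlgHom K K₁ K₂)
  haveI : CharP (L ⊗[K] K₂) p := charP_of_injective_algebraMap (algebraMap K (L ⊗[K] K₂)).injective p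
  set A2 : L ⊗[K] K₂ := (1 : L) ⊗ₜ[K] α with hA2
  have hA2p : A2 ^ p = φ ((1 : L) ⊗ₜ[K] a) := by
    rw [hA2, Algebra.TensorProduct.tmul_pow, one_pow, hα]; simp [φ]
  have hnil : (φ (e * z) - φ e * A2) ^ p = 0 := by
    rw [sub_pow_char, mul_pow, hA2p, ← map_pow, ← map_pow, ← map_mul, ← map_sub,
      show (e * z) ^ p - e ^ p * ((1 : L) ⊗ₜ[K] a) = e ^ (p - 1) * (e * q) by
        rw [mul_pow, hq]
        obtain ⟨p', rfl⟩ := Nat.exists_eq_succ_of_ne_zero hp.ne_zero
        simp only [Nat.succ_sub_one, pow_succ]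
        ring, heq, mul_zero, map_zero]
  have hzero : φ (e * z) - φ e * A2 = 0 := IsReduced.eq_zero _ ⟨p, hnil⟩
  have hαS : α ∉ (K₁ ∙ (1 : K₂)) := fun h => by
    obtain ⟨c, hc⟩ := Submodule.mem_span_singleton.1 h
    exact hαn ⟨c, by rw [← hc, Algebra.smul_def, mul_one]⟩
  obtain ⟨ℓ, hℓα, hℓ⟩ := Submodule.exists_dual_map_eq_bot_of_notMem hαS inferInstance
  have hℓ1 : ℓ 1 = 0 := by
    have : ℓ 1 ∈ (K₁ ∙ (1 : K₂)).map ℓ := ⟨1, Submodule.mem_span_singleton_self 1, rfl⟩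
    rwa [hℓ, Submodule.mem_bot] at this
  set ℓ' : Module.Dual K₁ K₂ := (ℓ α)⁻¹ • ℓ with hℓ'
  let r : L ⊗[K] K₂ →ₗ[K] L ⊗[K] K₁ := LinearMap.lTensor L (ℓ'.restrictScalars K)
  have hr : ∀ (u : L ⊗[K] K₁) (k : K₂), r (φ u * ((1 : L) ⊗ₜ[K] k)) = u * ((1 : L) ⊗ₜ[K] ℓ' k) := by
    intro u k
    induction u using TensorProduct.induction_on with
    | zero => simp
    | add b c hb hc => rw [map_add, add_mul, map_add, hb, hc, add_mul]
    | tmul l c =>
      simp only [φ, r, Algebra.TensorProduct.map_tmul, AlgHom.id_apply, IsScalarTower.coe_toAlgHom',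
        Algebra.TensorProduct.tmul_mul_tmul, mul_one, LinearMap.lTensor_tmul, LinearMap.restrictScalars_apply]
      rw [← Algebra.smul_def, map_smul, smul_eq_mul]
  have h1 := congrArg r hzero
  rw [map_sub, map_zero, ← mul_one (φ (e * z)),
    show (1 : L ⊗[K] K₂) = (1 : L) ⊗ₜ[K] (1 : K₂) from rfl, hA2, hr, hr, hℓ', LinearMap.smul_apply,
    LinearMap.smul_apply, hℓ1, smul_zero, smul_eq_mul, inv_mul_cancel₀ hℓα, TensorProduct.tmul_zero, mul_zero,
    zero_sub, neg_eq_zero, ← Algebra.TensorProduct.one_def, mul_one] at h1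
  exact heP (h1 ▸ zero_mem P)

end Groth.Agent.EtRam7
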