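import Groth.Agent.EtRam7.BaseChange
import Mathlib

/-! Finite unramified algebras give unramified, hence tame, extensions. -/

set_option autoImplicit false
set_option linter.style.haveILetI false
universe u

namespace Groth.Agent.EtRam7

open IsLocalRing

theorem isTamelyRamified_of_isUnramifiedExt {A F : Type u} [CommRing A] [IsDomain A] [IsDiscreteValuationRing A]
    [Field F] (g : A →+* F) (hg : Function.Injective g) (h : EtRam.IsUnramifiedExt A g) :
    EtRam.IsTamelyRamified A g := by
  intro V hV
  letI : Algebra A V := (RingHom.codRestrict g V hV.1).toAlgebra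
  intro hloc
  obtain ⟨h1, h2⟩ := h V hV
  refine ⟨h2, fun p hp _ hdvd => ?_⟩
  obtain ⟨π, hπ⟩ := IsDiscreteValuationRing.exists_irreducible A
  unfold EtRam.IsWeaklyUnramified at h1
  have hm : maximalIdeal V = Ideal.span {algebraMap A V π} := by
    rw [← h1, hπ.maximalIdeal_eq, Ideal.map_span, Set.image_singleton]
  have hπ0 : algebraMap A V π ≠ 0 := fun e => hπ.ne_zero (hg ((congrArg Subtype.val e).trans (map_zero g).symm))
  have he : Ideal.ramificationIdx' (maximalIdeal A) (maximalIdeal V) = 1 := by
    refine Ideal.ramificationIdx'_spec ?_ ?_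
    · rw [pow_one, h1]
    · rw [h1, hm, Ideal.span_singleton_pow, Ideal.span_singleton_le_span_singleton]
      rintro ⟨c, hc⟩
      have hu : IsUnit (algebraMap A V π) := isUnit_iff_exists_inv.2 ⟨c, mul_left_cancel₀ hπ0 (by
        rw [mul_one, ← mul_assoc, ← pow_two]; exact hc.symm)⟩
      exact (map_nonunit (algebraMap A V) π hπ.1) hu
  exact hp.one_lt.ne' (Nat.dvd_one.1 (he ▸ hdvd))

theorem isTamelyRamified_of_finite_unramified {A S F : Type u} [CommRing A] [IsDomain A] [IsDiscreteValuationRing A]
    [CommRing S] [Field F] [Algebra A S] [Module.Finite A S] [Algebra.FormallyUnramified A S] (g : A →+* F)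
    (hg : Function.Injective g) (φ : S →+* F) (hφ : φ.comp (algebraMap A S) = g)
    (hs : φ.SurjectiveOnStalks) : EtRam.IsTamelyRamified A g := by
  obtain ⟨π, hπ⟩ := IsDiscreteValuationRing.exists_irreducible A
  have hπ0 : g π ≠ 0 := fun e => hπ.ne_zero (hg (e.trans (map_zero g).symm))
  haveI : IsNoetherianRing S := IsNoetherianRing.of_finite A S
  refine isTamelyRamified_of_isUnramifiedExt g hg
    (isUnramifiedExt_of_unramified π hπ.maximalIdeal_eq g φ hφ hπ0 (fun z => ?_) fun V hV x => ?_)
  · obtain ⟨c, s, w, hw, hs', he⟩ :=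
      RingHom.surjective_localRingHom_iff (⊥ : Ideal F) |>.1 (hs ⊥ Ideal.bot_prime) z
    rw [Ideal.mem_bot] at hw hs'
    have hz : φ s * z = φ c := mul_left_cancel₀ hw (by rw [← mul_assoc]; exact he)
    letI : Algebra A F := g.toAlgebra
    let φA : S →ₐ[A] F := { φ with commutes' := fun a => RingHom.congr_fun hφ a }
    have hint : IsIntegral A (φ s) := (Algebra.IsIntegral.isIntegral (R := A) s).map φA
    have halg : IsAlgebraic A (⟨φ s, ⟨s, rfl⟩⟩ : φA.range) := by
      refine IsIntegral.isAlgebraic ?_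
      refine (isIntegral_algHom_iff φA.range.val Subtype.val_injective).1 ?_
      exact hint
    haveI : FaithfulSMul A F := (faithfulSMul_iff_algebraMap_injective A F).2 hg
    haveI : NoZeroDivisors φA.range := inferInstance
    obtain ⟨a, ha0, ⟨⟨_, ⟨s', rfl⟩⟩, hs'eq⟩⟩ :=
      IsAlgebraic.exists_nonzero_dvd halg (mem_nonZeroDivisors_of_ne_zero fun e => hs' (congrArg Subtype.val e))
    have hs'eq' : g a = φ s * φ s' := congrArg Subtype.val hs'eq
    obtain ⟨n, v, rfl⟩ := IsDiscreteValuationRing.eq_unit_mul_pow_irreducible ha0 hπ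
    refine ⟨c * s' * algebraMap A S (v⁻¹ : Aˣ), n, ?_⟩
    rw [map_mul, map_mul, ← RingHom.comp_apply φ (algebraMap A S), hφ, ← hz]
    rw [map_mul, map_pow] at hs'eq'
    calc z * g π ^ n = z * (g (v⁻¹ : Aˣ) * (g (v : A) * g π ^ n)) := by
          rw [← mul_assoc (g _), ← map_mul, Units.inv_mul, map_one, one_mul]
      _ = _ := by rw [hs'eq']; ring
  · letI : Algebra A V := (g.codRestrict V hV).toAlgebra
    letI : Algebra A F := g.toAlgebra
    haveI : IsScalarTower A V F := IsScalarTower.of_algebraMap_eq fun _ => rfl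
    let φA : S →ₐ[A] F := { φ with commutes' := fun a => RingHom.congr_fun hφ a }
    obtain ⟨v, hv⟩ := IsIntegrallyClosed.isIntegral_iff.1
      (((Algebra.IsIntegral.isIntegral (R := A) x).map φA).tower_top (A := V))
    exact (show φ x = v from hv.symm) ▸ v.2

end Groth.Agent.EtRam7
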