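import Groth.Agent.EtRam7.InsepStep
import Mathlib

/-! A linear map that is multiplicative modulo `π ^ 2` transfers a valuation ring of a purely
inseparable extension of degree `p` to a nearby separable one. -/

set_option autoImplicit false
set_option linter.style.haveILetI false
universe u

namespace Groth.Agent.EtRam7

open IsLocalRing

theorem transfer {M M₂ M₃ : Type u} [Field M] [Field M₂] [Field M₃] [Algebra M M₂] [Algebra M M₃]
    (W₂ : ValuationSubring M₂) [IsDiscreteValuationRing W₂] (W₃ : ValuationSubring M₃)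
    (hW : W₂.comap (algebraMap M M₂) = W₃.comap (algebraMap M M₃)) (π : M) (hπ0 : π ≠ 0)
    (hπ : W₃.valuation (algebraMap M M₃ π) < 1)
    (Φ : M₂ →ₗ[M] M₃) (hsurj : Function.Surjective Φ) (h1 : Φ 1 = 1) (p : ℕ) (hp : 0 < p)
    (hpow : ∀ x : M₂, ∃ m : M, x ^ p = algebraMap M M₂ m)
    (hmul : ∀ x y : M₂, x ∈ W₂ → y ∈ W₂ →
      ∃ e : M₃, e ∈ W₃ ∧ Φ x * Φ y - Φ (x * y) = algebraMap M M₃ π ^ 2 * e)
    (θ : W₂) (hθ : Irreducible θ) :
    ∃ hmem : ∀ x : M₂, Φ x ∈ W₃ ↔ x ∈ W₂, ∃ lam : ResidueField W₂ ≃+* ResidueField W₃,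
      maximalIdeal W₃ = Ideal.span {(⟨Φ θ, (hmem θ).2 θ.2⟩ : W₃)} ∧
      ∀ x : W₂, lam (residue W₂ x) = residue W₃ ⟨Φ x, (hmem x).2 x.2⟩ := by
  set P := algebraMap M M₃ π
  have hP0 : P ≠ 0 := (map_ne_zero _).2 hπ0
  have hPm : W₃.valuation P < 1 := hπ
  have hΦm : ∀ m : M, Φ (algebraMap M M₂ m) = algebraMap M M₃ m := fun m => by
    rw [Algebra.algebraMap_eq_smul_one, map_smul, h1, Algebra.algebraMap_eq_smul_one]
  have hmemM : ∀ m : M, algebraMap M M₂ m ∈ W₂ ↔ algebraMap M M₃ m ∈ W₃ := fun m =>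
    iff_of_eq (congrArg (fun U : ValuationSubring M => m ∈ U) hW)
  have hP2 : W₃.valuation (P ^ 2) < 1 := by rw [map_pow]; exact pow_lt_one₀ zero_le hPm two_ne_zero
  -- integrality
  have hin : ∀ x : M₂, x ∈ W₂ → Φ x ∈ W₃ := by
    intro x hx
    rw [← W₃.valuation_le_one_iff]
    by_contra hγ
    rw [not_le] at hγ
    set γ := W₃.valuation (Φ x) with hγdef
    have herr : ∀ k : ℕ, 1 ≤ k → W₃.valuation (Φ x ^ k - Φ (x ^ k)) ≤ W₃.valuation (P ^ 2) * γ ^ k := by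
      intro k hk
      induction k, hk using Nat.le_induction with
      | base => simp
      | succ k hk ih =>
        obtain ⟨e, he, hee⟩ := hmul x (x ^ k) hx (pow_mem hx k)
        have h2 : Φ x ^ (k + 1) - Φ (x ^ (k + 1)) = Φ x * (Φ x ^ k - Φ (x ^ k)) + P ^ 2 * e := by
          rw [← hee, pow_succ', pow_succ' x]; ring
        rw [h2]
        refine (W₃.valuation.map_add _ _).trans (max_le ?_ ?_)
        · rw [map_mul, pow_succ' γ, mul_left_comm]
          exact mul_le_mul_right ih γ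
        · rw [map_mul]
          calc W₃.valuation (P ^ 2) * W₃.valuation e ≤ W₃.valuation (P ^ 2) * 1 :=
                mul_le_mul_right ((W₃.valuation_le_one_iff e).2 he) _
            _ ≤ _ := mul_le_mul_right (one_le_pow₀ hγ.le) _
    obtain ⟨m, hm⟩ := hpow x
    have hm1 : W₃.valuation (Φ (x ^ p)) ≤ 1 := by
      rw [hm, hΦm, W₃.valuation_le_one_iff, ← hmemM, ← hm]
      exact pow_mem hx p
    have h3 := herr p hp
    have h4 : γ ^ p ≤ max (W₃.valuation (P ^ 2) * γ ^ p) 1 := by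
      calc γ ^ p = W₃.valuation ((Φ x ^ p - Φ (x ^ p)) + Φ (x ^ p)) := by rw [sub_add_cancel, map_pow]
        _ ≤ _ := (W₃.valuation.map_add _ _).trans (max_le_max h3 hm1)
    rcases le_max_iff.1 h4 with h5 | h5
    · have h6 : 1 * γ ^ p ≤ W₃.valuation (P ^ 2) * γ ^ p := by rwa [one_mul]
      exact (not_le.2 hP2) (le_of_mul_le_mul_right h6 (pow_pos (zero_lt_one.trans hγ) p))
    · exact (not_le.2 (one_lt_pow₀ hγ hp.ne')) h5
  -- the ring map modulo `π ^ 2`
  let Φ' : W₂ → W₃ := fun x => ⟨Φ x, hin x x.2⟩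
  let P' : W₃ := ⟨P, (W₃.valuation_le_one_iff P).1 hPm.le⟩
  have hP'max : P' ∈ maximalIdeal W₃ := (W₃.valuation_lt_one_iff P').2 hPm
  let Ψ : W₂ →+* W₃ ⧸ Ideal.span {P' ^ 2} :=
    { toFun := fun x => Ideal.Quotient.mk _ (Φ' x)
      map_one' := by
        rw [show Φ' 1 = 1 from Subtype.ext h1, map_one]
      map_zero' := by
        rw [show Φ' 0 = 0 from Subtype.ext (map_zero Φ), map_zero]
      map_add' := fun x y => by
        rw [show Φ' (x + y) = Φ' x + Φ' y from Subtype.ext (map_add Φ _ _), map_add]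
      map_mul' := fun x y => by
        rw [← map_mul, eq_comm, Ideal.Quotient.mk_eq_mk_iff_sub_mem, Ideal.mem_span_singleton]
        obtain ⟨e, he, hee⟩ := hmul x y x.2 y.2
        exact ⟨⟨e, he⟩, Subtype.ext hee⟩ }
  have hle : Ideal.span {P' ^ 2} ≤ maximalIdeal W₃ := by
    rw [Ideal.span_singleton_le_iff_mem]
    exact Ideal.pow_mem_of_mem _ hP'max 2 (by omega)
  let ρ : W₂ →+* ResidueField W₃ := (Ideal.Quotient.factor hle).comp Ψ
  have hρ : ∀ x, ρ x = residue W₃ (Φ' x) := fun x => rfl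
  have hπ2mem : algebraMap M M₂ π ∈ W₂ := (hmemM π).2 P'.2
  have hπ2ne : (⟨_, hπ2mem⟩ : W₂) ≠ 0 := fun h => (map_ne_zero (algebraMap M M₂)).2 hπ0 (congrArg Subtype.val h)
  obtain ⟨e, u, heu⟩ := IsDiscreteValuationRing.eq_unit_mul_pow_irreducible hπ2ne hθ
  have hΦπ : Φ' ⟨_, hπ2mem⟩ = P' := Subtype.ext (hΦm π)
  have hρu : ∀ u : W₂ˣ, IsUnit (Φ' u) := fun u => by
    by_contra h
    exact (u.isUnit.map ρ).ne_zero ((hρ u).trans ((residue_eq_zero_iff _).2 h))
  have hρθ : ρ θ = 0 := by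
    have h2 := congrArg ρ heu
    rw [map_mul, map_pow, hρ ⟨_, hπ2mem⟩, hΦπ, (residue_eq_zero_iff _).2 hP'max] at h2
    exact eq_zero_of_pow_eq_zero ((mul_eq_zero.1 h2.symm).resolve_left (u.isUnit.map ρ).ne_zero)
  have hθnu : Φ' θ ∈ maximalIdeal W₃ := (residue_eq_zero_iff _).1 ((hρ θ).symm.trans hρθ)
  -- `Φ' (u θ ^ r)` is `unit * Φ' θ ^ r` modulo `π ^ 2`
  have happrox : ∀ (w : W₂ˣ) (r : ℕ), ∃ t : W₃, Φ' ((w : W₂) * θ ^ r) = Φ' w * Φ' θ ^ r + P' ^ 2 * t := by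
    intro w r
    have h2 : Ideal.Quotient.mk (Ideal.span {P' ^ 2}) (Φ' ((w : W₂) * θ ^ r)) =
        Ideal.Quotient.mk (Ideal.span {P' ^ 2}) (Φ' w * Φ' θ ^ r) := by
      rw [map_mul, map_pow]
      exact (map_mul Ψ (w : W₂) (θ ^ r)).trans (by rw [map_pow]; rfl)
    rw [Ideal.Quotient.mk_eq_mk_iff_sub_mem, Ideal.mem_span_singleton] at h2
    obtain ⟨t, ht⟩ := h2
    exact ⟨t, by rw [← ht]; ring⟩
  set g := W₃.valuation (Φ' θ : M₃) with hg
  have hglt : g < 1 := (W₃.valuation_lt_one_iff _).1 hθnu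
  have hge : g ^ e = W₃.valuation P := by
    obtain ⟨t, ht⟩ := happrox u e
    rw [← heu, hΦπ] at ht
    have h2 : Φ' u * Φ' θ ^ e = P' * (1 - P' * t) := by rw [mul_sub, mul_one]; linear_combination -ht
    have hu1 : IsUnit (1 - P' * t) :=
      isUnit_one_sub_self_of_mem_nonunits _ (Ideal.mul_mem_right _ _ hP'max : P' * t ∈ maximalIdeal W₃)
    have h3 := congrArg (fun z : W₃ => W₃.valuation (z : M₃)) h2
    simp only [MulMemClass.coe_mul, SubmonoidClass.coe_pow, map_mul, map_pow] at h3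
    rw [← hg, (W₃.valuation_eq_one_iff (Φ' u)).1 (hρu u), one_mul,
      (W₃.valuation_eq_one_iff _).1 hu1, mul_one] at h3
    exact h3
  have he0 : 0 < e := Nat.pos_of_ne_zero fun h0 => by
    rw [h0, pow_zero] at hge
    exact hPm.ne hge.symm
  have hout : ∀ x : M₂, Φ x ∈ W₃ → x ∈ W₂ := by
    intro x hx
    by_contra hxW
    have hx0 : x ≠ 0 := fun h => hxW (h ▸ zero_mem W₂)
    have hxi : x⁻¹ ∈ W₂ := (W₂.mem_or_inv_mem x).resolve_left hxW
    obtain ⟨k, v, hkv⟩ := IsDiscreteValuationRing.eq_unit_mul_pow_irreducible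
      (fun h => inv_ne_zero hx0 (congrArg Subtype.val h) : (⟨x⁻¹, hxi⟩ : W₂) ≠ 0) hθ
    have hk : 0 < k := Nat.pos_of_ne_zero fun h0 => by
      rw [h0, pow_zero, mul_one] at hkv
      refine hxW ?_
      have h2 := congrArg Subtype.val (Units.mul_inv v)
      rw [MulMemClass.coe_mul, ← hkv] at h2
      have h3 : ((((v⁻¹ : W₂ˣ) : W₂)) : M₂) = x := by
        have h4 : x⁻¹ * (((v⁻¹ : W₂ˣ) : W₂) : M₂) = 1 := h2
        field_simp at h4
        exact h4
      exact h3 ▸ (((v⁻¹ : W₂ˣ) : W₂)).2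
    -- `x = π ^ (-q) * w * θ ^ r` with `r < e` and `1 ≤ q`
    obtain ⟨q, r, hq, hr, hqr⟩ : ∃ q r, 1 ≤ q ∧ r < e ∧ q * e = k + r := by
      obtain ⟨k', rfl⟩ : ∃ k', k = k' + 1 := ⟨k - 1, by omega⟩
      have hmod := Nat.mod_lt k' he0
      refine ⟨k' / e + 1, e - 1 - k' % e, Nat.succ_le_succ (Nat.zero_le _), by omega, ?_⟩
      have := Nat.div_add_mod' k' e
      rw [Nat.succ_mul]
      omega
    let w : W₂ˣ := u ^ q * v⁻¹
    have hx' : algebraMap M M₂ (π ^ q) * x = (((w : W₂) * θ ^ r : W₂) : M₂) := by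
      have h2 : ((⟨_, hπ2mem⟩ : W₂)) ^ q = ((w : W₂) * θ ^ r) * ⟨x⁻¹, hxi⟩ := by
        rw [heu, hkv, mul_pow, ← pow_mul, mul_comm e q, hqr, pow_add, Units.val_mul, Units.val_pow_eq_pow_val]
        calc (u : W₂) ^ q * (θ ^ k * θ ^ r) = (u : W₂) ^ q * (θ ^ k * θ ^ r) * (((v⁻¹ : W₂ˣ) : W₂) * (v : W₂)) := by
              rw [Units.inv_mul, mul_one]
          _ = _ := by ring
      have h3 := congrArg Subtype.val h2
      simp only [MulMemClass.coe_mul, SubmonoidClass.coe_pow] at h3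
      rw [map_pow, h3, inv_mul_cancel_right₀ hx0]
      simp
    obtain ⟨t, ht⟩ := happrox w r
    have h4 : P ^ q * Φ x = ((Φ' w * Φ' θ ^ r + P' ^ 2 * t : W₃) : M₃) := by
      rw [← ht]
      show _ = Φ _
      rw [← hx', ← Algebra.smul_def, map_smul, Algebra.smul_def, map_pow]
    have hlt : W₃.valuation (P ^ 2) * W₃.valuation (t : M₃) < W₃.valuation (Φ' w : M₃) * g ^ r := by
      rw [(W₃.valuation_eq_one_iff (Φ' w)).1 (hρu w), one_mul, map_pow, ← hge, ← pow_mul]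
      calc g ^ (e * 2) * W₃.valuation (t : M₃) ≤ g ^ (e * 2) * 1 :=
            mul_le_mul_right ((W₃.valuation_le_one_iff _).2 t.2) _
        _ < g ^ r := by
          rw [mul_one]
          refine pow_lt_pow_right_of_lt_one₀ ?_ hglt (by omega)
          refine zero_lt_iff.2 fun h0 => ?_
          rw [h0, zero_pow he0.ne'] at hge
          exact hP0 ((Valuation.zero_iff _).1 hge.symm)
    have h5 := congrArg W₃.valuation h4
    push_cast at h5
    rw [Valuation.map_add_eq_of_lt_left _ (by rw [map_mul, map_mul, map_pow _ (Φ' θ : M₃)]; exact hlt),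
      map_mul _ _ ((Φ' θ : M₃) ^ r), (W₃.valuation_eq_one_iff (Φ' w)).1 (hρu w), one_mul, map_mul, map_pow,
      map_pow, ← hg, ← hge, ← pow_mul] at h5
    have h6 : g ^ r ≤ g ^ (e * q) := by
      rw [← h5]
      calc g ^ (e * q) * W₃.valuation (Φ x) ≤ g ^ (e * q) * 1 :=
            mul_le_mul_right ((W₃.valuation_le_one_iff _).2 hx) _
        _ = _ := mul_one _
    have hg0 : 0 < g := zero_lt_iff.2 fun h0 => by
      rw [h0, zero_pow he0.ne'] at hge
      exact hP0 ((Valuation.zero_iff _).1 hge.symm)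
    have h7 : g ^ (e * q) < g ^ r := pow_lt_pow_right_of_lt_one₀ hg0 hglt (by
      calc r < e := hr
        _ = e * 1 := (mul_one e).symm
        _ ≤ e * q := Nat.mul_le_mul_left e hq)
    exact (not_le.2 h7) h6
  have hmem : ∀ x : M₂, Φ x ∈ W₃ ↔ x ∈ W₂ := fun x => ⟨hout x, hin x⟩
  refine ⟨hmem, ?_⟩
  have hΦ'surj : ∀ z : W₃, ∃ x : W₂, Φ' x = z := fun z => by
    obtain ⟨x, hx⟩ := hsurj (z : M₃)
    exact ⟨⟨x, hout x (hx ▸ z.2)⟩, Subtype.ext hx⟩
  have hker : ∀ x : W₂, x ∈ maximalIdeal W₂ → ρ x = 0 := fun x hx => by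
    rw [hθ.maximalIdeal_eq, Ideal.mem_span_singleton] at hx
    obtain ⟨c, rfl⟩ := hx
    rw [map_mul, hρθ, zero_mul]
  let lam₀ : ResidueField W₂ →+* ResidueField W₃ := Ideal.Quotient.lift (maximalIdeal W₂) ρ hker
  have hlam₀ : Function.Surjective lam₀ := fun z => by
    obtain ⟨z, rfl⟩ := residue_surjective z
    obtain ⟨x, rfl⟩ := hΦ'surj z
    exact ⟨residue W₂ x, rfl⟩
  refine ⟨RingEquiv.ofBijective lam₀ ⟨lam₀.injective, hlam₀⟩, ?_, fun x => rfl⟩
  refine le_antisymm (fun z hz => ?_) ((Ideal.span_singleton_le_iff_mem _).2 hθnu)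
  obtain ⟨x, rfl⟩ := hΦ'surj z
  have hx : x ∈ maximalIdeal W₂ := fun hu => by
    obtain ⟨v, rfl⟩ := hu
    exact hz (hρu v)
  rw [hθ.maximalIdeal_eq, Ideal.mem_span_singleton] at hx
  obtain ⟨c, rfl⟩ := hx
  rw [Ideal.mem_span_singleton]
  have h2 : Φ' θ * Φ' c - Φ' (θ * c) ∈ Ideal.span {P' ^ 2} :=
    (Ideal.Quotient.mk_eq_mk_iff_sub_mem _ _).1 ((map_mul (Ideal.Quotient.mk _) _ _).trans (map_mul Ψ θ c).symm)
  rw [Ideal.mem_span_singleton] at h2
  have hdP : Φ' θ ∣ P' ^ 2 := by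
    rcases ValuationRing.dvd_total (Φ' θ) (P' ^ 2) with h3 | ⟨s, hs⟩
    · exact h3
    · have h4 := congrArg (fun z : W₃ => W₃.valuation (z : M₃)) hs
      simp only [MulMemClass.coe_mul, SubmonoidClass.coe_pow, map_mul, map_pow] at h4
      rw [← hg, show W₃.valuation (P' : M₃) = g ^ e from hge.symm, ← pow_mul] at h4
      exfalso
      have h5 : g ≤ g ^ (e * 2) := by
        calc g = g ^ (e * 2) * W₃.valuation (s : M₃) := h4
          _ ≤ g ^ (e * 2) * 1 := mul_le_mul_right ((W₃.valuation_le_one_iff _).2 s.2) _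
          _ = _ := mul_one _
      have hg0 : 0 < g := zero_lt_iff.2 fun h0 => by
        rw [h0, zero_pow he0.ne'] at hge
        exact hP0 ((Valuation.zero_iff _).1 hge.symm)
      have h6 : g ^ (e * 2) < g ^ 1 := pow_lt_pow_right_of_lt_one₀ hg0 hglt (by omega)
      rw [pow_one] at h6
      exact (not_le.2 h6) h5
  have h7 := dvd_sub (dvd_mul_right (Φ' θ) (Φ' c)) (hdP.trans h2)
  rwa [sub_sub_cancel] at h7

end Groth.Agent.EtRam7
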