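import Groth.Agent.EtRam7.Tower
import Groth.Agent.KrullAkiExt.Basic
import Groth.Agent.GeomRedFlat5.DvrStep
import Groth.Agent.HenzFib7.Basic
import Mathlib

/-! Local extensions of a weakly unramified separable extension of DVRs after a finite base change. -/

set_option autoImplicit false
set_option linter.style.haveILetI false
universe u

namespace Groth.Agent.EtRam7

open IsLocalRing TensorProduct

/-- A DVR generated by a ring whose reduction modulo `t` is absolutely flat has `t` as uniformiser. -/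
theorem maximalIdeal_eq_span_of_absolutelyFlat {C T : Type u} [CommRing C] [CommRing T] {M : Type u} [Field M]
    (W : ValuationSubring M) [IsDiscreteValuationRing W]
    (φ : C →+* W) (t : C) (ψ : C →+* T) (hψ : Function.Surjective ψ) (hker : ∀ x, ψ x = 0 → ∃ x', φ x = φ t * φ x')
    (hflat : ∀ d : T, ∃ y, d ^ 2 * y = d) (ht : φ t ∈ maximalIdeal W)
    (θ : T →+* ResidueField W) (hθ : ∀ x, θ (ψ x) = residue W (φ x))
    (hgen : ∀ z : W, ∃ x d : C, φ d ≠ 0 ∧ z * φ d = φ x) :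
    maximalIdeal W = Ideal.span {φ t} ∧ Function.Surjective θ := by
  have key : ∀ x, φ x ≠ 0 → ∃ (n : ℕ) (a b : C),
      IsUnit (φ a) ∧ IsUnit (φ b) ∧ φ x * φ b = φ t ^ n * φ a := by
    obtain ⟨ϖ, hϖ⟩ := IsDiscreteValuationRing.exists_irreducible W
    suffices h : ∀ (N : ℕ) x, φ x ≠ 0 → ¬ ϖ ^ N ∣ φ x → ∃ (n : ℕ) (a b : C),
        IsUnit (φ a) ∧ IsUnit (φ b) ∧ φ x * φ b = φ t ^ n * φ a by
      intro x hx
      obtain ⟨n, v, hv⟩ := IsDiscreteValuationRing.eq_unit_mul_pow_irreducible hx hϖ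
      refine h (n + 1) x hx fun hd => hϖ.1 ?_
      rw [hv, pow_succ, mul_comm (v : W), mul_dvd_mul_iff_left (pow_ne_zero _ hϖ.ne_zero)] at hd
      exact isUnit_of_dvd_unit hd v.isUnit
    intro N
    induction N with
    | zero => exact fun x _ h => absurd (one_dvd _) (by rwa [pow_zero] at h)
    | succ N ih =>
      intro x hx hnd
      by_cases hu : IsUnit (φ x)
      · exact ⟨0, x, 1, hu, by simp, by simp⟩
      obtain ⟨ybar, hy⟩ := hflat (ψ x)
      obtain ⟨y, rfl⟩ := hψ ybar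
      obtain ⟨x', hx'⟩ := hker (x * (1 - x * y)) (by
        rw [map_mul, map_sub, map_one, map_mul]; linear_combination -hy)
      have hs : IsUnit (φ (1 - x * y)) := by
        rw [map_sub, map_one, map_mul]
        exact isUnit_one_sub_self_of_mem_nonunits _ fun h => hu (isUnit_of_mul_isUnit_left h)
      have hx'' : φ x * φ (1 - x * y) = φ t * φ x' := by rw [← map_mul, hx']
      have hx'0 : φ x' ≠ 0 := fun h => hx (by
        rw [h, mul_zero] at hx''
        exact (mul_eq_zero.1 hx'').resolve_right hs.ne_zero)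
      obtain ⟨n, a, b, ha, hb, hab⟩ := ih x' hx'0 fun hd => hnd (by
        rw [← hs.dvd_mul_right, hx'', pow_succ, mul_comm (φ t)]
        refine mul_dvd_mul hd ?_
        rw [← Ideal.mem_span_singleton, ← hϖ.maximalIdeal_eq]
        exact ht)
      refine ⟨n + 1, a, (1 - x * y) * b, ha, ?_, ?_⟩
      · rw [map_mul]; exact hs.mul hb
      · rw [map_mul, ← mul_assoc, hx'', pow_succ']
        linear_combination φ t * hab
  obtain ⟨ϖ, hϖ⟩ := IsDiscreteValuationRing.exists_irreducible W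
  have hval : ∀ z : W, z ≠ 0 → ∃ (n m : ℕ) (a b : C),
      IsUnit (φ a) ∧ IsUnit (φ b) ∧ z * φ t ^ m * φ b = φ t ^ n * φ a := by
    intro z hz
    obtain ⟨x, d, hd, hzd⟩ := hgen z
    have hx : φ x ≠ 0 := hzd ▸ mul_ne_zero hz hd
    obtain ⟨n, a, b, ha, hb, hab⟩ := key x hx
    obtain ⟨m, a', b', ha', hb', hab'⟩ := key d hd
    refine ⟨n, m, a * b', a' * b, by rw [map_mul]; exact ha.mul hb', by rw [map_mul]; exact ha'.mul hb, ?_⟩
    rw [map_mul, map_mul]
    calc z * φ t ^ m * (φ a' * φ b) = z * (φ d * φ b') * φ b := by rw [hab']; ring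
      _ = (φ x * φ b) * φ b' := by rw [← hzd]; ring
      _ = _ := by rw [hab]; ring
  have hspan : maximalIdeal W = Ideal.span {φ t} := by
    refine le_antisymm ?_ ((Ideal.span_singleton_le_iff_mem _).2 ht)
    rw [hϖ.maximalIdeal_eq, Ideal.span_singleton_le_iff_mem, Ideal.mem_span_singleton]
    obtain ⟨n, m, a, b, ha, hb, h⟩ := hval ϖ hϖ.ne_zero
    rcases le_or_gt n m with hnm | hnm
    · obtain ⟨k, rfl⟩ := Nat.exists_eq_add_of_le hnm
      have ht0 : φ t ≠ 0 := fun h0 => by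
        rcases Nat.eq_zero_or_pos n with rfl | hn
        · simp only [pow_zero, one_mul, zero_add] at h
          exact hϖ.1 (isUnit_of_mul_isUnit_left (isUnit_of_mul_isUnit_left (h ▸ ha)))
        · obtain ⟨x, d, hd, hxd⟩ := hgen ϖ
          obtain ⟨n', a', b', ha', hb', hab'⟩ := key x (hxd ▸ mul_ne_zero hϖ.ne_zero hd)
          rcases Nat.eq_zero_or_pos n' with rfl | hn'
          · rw [pow_zero, one_mul, ← hxd] at hab'
            exact hϖ.1 (isUnit_of_mul_isUnit_left (isUnit_of_mul_isUnit_left (hab' ▸ ha')))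
          · rw [h0, zero_pow hn'.ne', zero_mul] at hab'
            exact (mul_ne_zero (hxd ▸ mul_ne_zero hϖ.ne_zero hd) hb'.ne_zero) hab'
      have h' : φ t ^ n * (ϖ * (φ t ^ k * φ b)) = φ t ^ n * φ a := by rw [← h]; ring
      exact absurd (isUnit_of_mul_isUnit_left ((mul_left_cancel₀ (pow_ne_zero _ ht0) h') ▸ ha)) hϖ.1
    · obtain ⟨k, rfl⟩ := Nat.exists_eq_add_of_lt hnm
      by_cases ht0 : φ t = 0
      · rw [ht0, zero_pow (by omega : m + k + 1 ≠ 0), zero_mul] at h
        rcases Nat.eq_zero_or_pos m with rfl | hm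
        · rw [pow_zero, mul_one, mul_eq_zero] at h
          exact absurd h (not_or.2 ⟨hϖ.ne_zero, hb.ne_zero⟩)
        · obtain ⟨x, d, hd, hxd⟩ := hgen ϖ
          obtain ⟨n', a', b', ha', hb', hab'⟩ := key x (hxd ▸ mul_ne_zero hϖ.ne_zero hd)
          rcases Nat.eq_zero_or_pos n' with rfl | hn'
          · rw [pow_zero, one_mul, ← hxd] at hab'
            exact absurd (isUnit_of_mul_isUnit_left (isUnit_of_mul_isUnit_left (hab' ▸ ha'))) hϖ.1
          · rw [ht0, zero_pow hn'.ne', zero_mul] at hab'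
            exact absurd hab' (mul_ne_zero (hxd ▸ mul_ne_zero hϖ.ne_zero hd) hb'.ne_zero)
      · have h' : φ t ^ m * (ϖ * φ b) = φ t ^ m * (φ t * (φ t ^ k * φ a)) := by
          rw [show φ t ^ m * (ϖ * φ b) = ϖ * φ t ^ m * φ b by ring, h]; ring
        exact (hb.dvd_mul_right).1 ⟨_, mul_left_cancel₀ (pow_ne_zero _ ht0) h'⟩
  refine ⟨hspan, fun w => ?_⟩
  obtain ⟨z, rfl⟩ := residue_surjective w
  by_cases hzu : IsUnit z
  swap
  · exact ⟨0, by rw [map_zero, eq_comm, residue_eq_zero_iff]; exact hzu⟩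
  have ht' : Irreducible (φ t) := (IsDiscreteValuationRing.irreducible_iff_uniformizer _).2 hspan
  obtain ⟨n, m, a, b, ha, hb, h⟩ := hval z hzu.ne_zero
  have hnm : m = n := IsDiscreteValuationRing.unit_mul_pow_congr_pow ht' ht'
    ((hzu.mul hb).unit) ha.unit m n (by simp only [IsUnit.unit_spec]; linear_combination h)
  subst hnm
  have h' : z * φ b = φ a := mul_left_cancel₀ (pow_ne_zero m ht'.ne_zero) (by linear_combination h)
  have hb' : residue W (φ b) ≠ 0 := fun e => (residue_eq_zero_iff _).1 e hb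
  obtain ⟨y, hy⟩ := hflat (ψ b)
  refine ⟨ψ a * y, ?_⟩
  have h2 := congrArg θ hy
  rw [map_mul, map_pow, hθ] at h2
  have h3 : residue W (φ b) * θ y = 1 := mul_left_cancel₀ hb' (by linear_combination h2)
  rw [map_mul, hθ, ← h', map_mul]
  linear_combination residue W z * h3

/-- A field quotient of an absolutely flat geometrically reduced algebra is geometrically reduced. -/
theorem isGeometricallyReduced_of_surjective {F T E : Type u} [Field F] [CommRing T] [Field E] [Algebra F T]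
    [Algebra F E] [Algebra.IsGeometricallyReduced F T] (hflat : ∀ d : T, ∃ y, d ^ 2 * y = d) (θ : T →ₐ[F] E)
    (hθ : Function.Surjective θ) : Algebra.IsGeometricallyReduced F E := by
  rw [Algebra.isGeometricallyReduced_field_iff]
  let Ω := AlgebraicClosure F
  let g : Ω ⊗[F] T →ₐ[F] Ω ⊗[F] E := Algebra.TensorProduct.map (AlgHom.id F Ω) θ
  have hg : Function.Surjective g := fun z => by
    induction z using TensorProduct.induction_on with
    | zero => exact ⟨0, map_zero g⟩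
    | tmul a e =>
      obtain ⟨t, rfl⟩ := hθ e
      exact ⟨a ⊗ₜ[F] t, by simp [g]⟩
    | add a b ha hb =>
      obtain ⟨a, rfl⟩ := ha
      obtain ⟨b, rfl⟩ := hb
      exact ⟨a + b, map_add g a b⟩
  have hkill : ∀ z : Ω ⊗[F] T, g z = 0 → ∃ v : T, θ v = 1 ∧ ((1 : Ω) ⊗ₜ[F] v) * z = 0 := by
    intro z hz
    have hz' : z ∈ RingHom.ker g := hz
    rw [Algebra.TensorProduct.lTensor_ker θ hθ] at hz'
    refine Submodule.span_induction ?_ ?_ ?_ ?_ hz'
    · rintro _ ⟨d, hd, rfl⟩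
      obtain ⟨y, hy⟩ := hflat d
      refine ⟨1 - d * y, by rw [map_sub, map_one, map_mul, (show θ d = 0 from hd), zero_mul, sub_zero], ?_⟩
      show ((1 : Ω) ⊗ₜ[F] (1 - d * y)) * ((1 : Ω) ⊗ₜ[F] d) = 0
      rw [Algebra.TensorProduct.tmul_mul_tmul, show (1 - d * y) * d = 0 by linear_combination -hy,
        TensorProduct.tmul_zero]
    · exact ⟨1, map_one θ, mul_zero _⟩
    · rintro a b _ _ ⟨v, hv, hva⟩ ⟨w, hw, hwb⟩
      refine ⟨v * w, by rw [map_mul, hv, hw, one_mul], ?_⟩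
      rw [mul_add, show ((1 : Ω) ⊗ₜ[F] (v * w)) = ((1 : Ω) ⊗ₜ[F] v) * ((1 : Ω) ⊗ₜ[F] w) by simp,
        mul_right_comm, hva, zero_mul, zero_add, mul_assoc, hwb, mul_zero]
    · rintro r a _ ⟨v, hv, hva⟩
      exact ⟨v, hv, by rw [smul_eq_mul, mul_left_comm, hva, mul_zero]⟩
  refine ⟨fun y hy => ?_⟩
  obtain ⟨z, rfl⟩ := hg y
  obtain ⟨n, hn⟩ := hy
  obtain ⟨v, hv, hvz⟩ := hkill (z ^ n) (by rw [map_pow, hn])
  have h0 : ((1 : Ω) ⊗ₜ[F] v) * z = 0 := IsReduced.eq_zero _ ⟨n + 1, by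
    rw [mul_pow, pow_succ ((1 : Ω) ⊗ₜ[F] v), pow_succ z]
    linear_combination ((1 : Ω) ⊗ₜ[F] v) ^ n * z * hvz⟩
  have h1 := congrArg g h0
  rwa [map_mul, map_zero, show g ((1 : Ω) ⊗ₜ[F] v) = 1 by simp [g, hv, Algebra.TensorProduct.one_def], one_mul] at h1

end Groth.Agent.EtRam7
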